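import Mathlib

/-!
# (VAL) for helper79's S1149: extension of an integral algebra map over a valuation ring

`O` a valuation ring with fraction field `K`, `B` étale over `O`, `C` integral over `O`.
Every `O`-algebra map `φ : C → B ⊗[O] K` factors through `B → B ⊗[O] K`, `b ↦ b ⊗ 1`.
-/

set_option autoImplicit false

universe u

open TensorProduct

namespace Groth.Agent.H84.IntHom_VAL

/-- An element of `B ⊗[O] K` integral over `B` comes from `B` (`O` integrally closed,
`B` smooth over `O`). -/
theorem exists_tmul_one_of_isIntegral {O K B : Type u} [CommRing O] [IsDomain O]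
    [IsIntegrallyClosed O] [Field K] [Algebra O K] [IsFractionRing O K] [CommRing B]
    [Algebra O B] [Algebra.Smooth O B] (z : B ⊗[O] K) (hz : IsIntegral B z) :
    ∃ b : B, z = b ⊗ₜ[O] (1 : K) := by
  have hsurj := (TensorProduct.toIntegralClosure_bijective_of_smooth
    (R := O) (S := B) (B := K)).2
  obtain ⟨y, hy⟩ := hsurj ⟨z, hz⟩
  have key : ∀ y : B ⊗[O] integralClosure O K,
      ∃ b : B, ((TensorProduct.toIntegralClosure O B K y : integralClosure B (B ⊗[O] K)) :
        B ⊗[O] K) = b ⊗ₜ[O] (1 : K) := by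
    intro y
    induction y with
    | zero => exact ⟨0, by simp⟩
    | add x y hx hy =>
      obtain ⟨b₁, h₁⟩ := hx
      obtain ⟨b₂, h₂⟩ := hy
      refine ⟨b₁ + b₂, ?_⟩
      rw [map_add, Subalgebra.coe_add, h₁, h₂, TensorProduct.add_tmul]
    | tmul b x =>
      obtain ⟨r, hr⟩ := (IsIntegrallyClosed.isIntegral_iff (R := O) (K := K)).1 x.2
      refine ⟨r • b, ?_⟩
      have : ((TensorProduct.toIntegralClosure O B K (b ⊗ₜ[O] x) :
          integralClosure B (B ⊗[O] K)) : B ⊗[O] K) = b ⊗ₜ[O] (x : K) := by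
        simp [TensorProduct.toIntegralClosure]
      rw [this, ← hr, Algebra.algebraMap_eq_smul_one, TensorProduct.smul_tmul]
  obtain ⟨b, hb⟩ := key y
  exact ⟨b, by rw [← hb, hy]⟩

theorem exists_algHom_of_valuationRing {O K B C : Type u} [CommRing O] [IsDomain O]
    [ValuationRing O] [Field K] [Algebra O K] [IsFractionRing O K] [CommRing B] [Algebra O B]
    [Algebra.Etale O B] [CommRing C] [Algebra O C] [Algebra.IsIntegral O C]
    (φ : C →ₐ[O] B ⊗[O] K) : ∃ ψ : C →ₐ[O] B, ∀ c, φ c = ψ c ⊗ₜ[O] (1 : K) := by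
  let ι : B →ₐ[O] B ⊗[O] K := Algebra.TensorProduct.includeLeft
  have hinj : Function.Injective ι :=
    Algebra.TensorProduct.includeLeft_injective (R := O) (S := O) (A := B) (B := K)
      (IsFractionRing.injective O K)
  have hmem : ∀ c : C, φ c ∈ ι.range := by
    intro c
    have h1 : IsIntegral O (φ c) := (Algebra.IsIntegral.isIntegral (R := O) c).map φ
    have h2 : IsIntegral B (φ c) := h1.tower_top
    obtain ⟨b, hb⟩ := exists_tmul_one_of_isIntegral (O := O) (K := K) (B := B) (φ c) h2
    exact ⟨b, by rw [hb]; rfl⟩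
  refine ⟨((AlgEquiv.ofInjective ι hinj).symm : ι.range →ₐ[O] B).comp
    (φ.codRestrict ι.range hmem), fun c => ?_⟩
  have h3 := (AlgEquiv.ofInjective ι hinj).apply_symm_apply (φ.codRestrict ι.range hmem c)
  have h4 := congrArg (fun t : ι.range => (t : B ⊗[O] K)) h3
  simp only [AlgEquiv.ofInjective_apply, AlgHom.coe_codRestrict] at h4
  exact h4.symm

end Groth.Agent.H84.IntHom_VAL
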