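import Mathlib
import Groth.Agent.H29.CplFinite
import Groth.Agent.H87.ComplExact

set_option autoImplicit false
universe u
open IsLocalRing

namespace Groth.Agent.H84.HL_K

/-- (K) a local ring finite over a complete Noetherian local ring is complete. -/
theorem complete_of_finite (A : Type u) [CommRing A] [IsLocalRing A] [IsNoetherianRing A]
    [IsAdicComplete (maximalIdeal A) A] (B : Type u) [CommRing B] [IsLocalRing B] [Algebra A B]
    [Module.Finite A B] : IsAdicComplete (maximalIdeal B) B := by
  haveI h0 : IsAdicComplete (maximalIdeal A) B :=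
    Groth.Agent.H87.ComplExact.isAdicComplete_of_finite (maximalIdeal A) B
  haveI h1 : IsAdicComplete ((maximalIdeal A).map (algebraMap A B)) B :=
    (IsAdicComplete.map_algebraMap_iff (I := maximalIdeal A) (S := B) (M := B)).2 h0
  obtain ⟨N, hN⟩ := Groth.Agent.H29.CplFinite.exists_jacobson_pow_le A B
  have hjac : (⊥ : Ideal B).jacobson = maximalIdeal B :=
    IsLocalRing.jacobson_eq_maximalIdeal ⊥ bot_ne_top
  have hle := Groth.Agent.H29.CplFinite.map_maximalIdeal_le_jacobson A B
  rw [hjac] at hN hle
  exact Groth.Agent.H29.CplFinite.isAdicComplete_of_pow_le hle N hN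

end Groth.Agent.H84.HL_K
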