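import Mathlib
import Groth.Agent.S0547
import Groth.Agent.Lead.CompleteNoetherian

set_option autoImplicit false
universe u
open IsLocalRing

namespace Groth.Agent.H84.HL_CPL

/-- (CPL) the completion of a Noetherian local ring: complete, same dimension, faithfully flat. -/
theorem completion_facts (R : Type u) [CommRing R] [IsLocalRing R] [IsNoetherianRing R] :
    IsNoetherianRing (AdicCompletion (maximalIdeal R) R) ∧
    IsAdicComplete (maximalIdeal (AdicCompletion (maximalIdeal R) R))
      (AdicCompletion (maximalIdeal R) R) ∧
    ringKrullDim (AdicCompletion (maximalIdeal R) R) = ringKrullDim R ∧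
    Module.FaithfullyFlat R (AdicCompletion (maximalIdeal R) R) := by
  refine ⟨Groth.Agent.Lead.isNoetherianRing_adicCompletion _
    (maximalIdeal R).fg_of_isNoetherianRing, inferInstance, Groth.Agent.S0547.result R, ?_⟩
  exact Module.FaithfullyFlat.of_flat_of_isLocalHom

end Groth.Agent.H84.HL_CPL
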