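import Mathlib
import Groth.Prelude.Def_Wider
import Groth.Prelude.Def_CAlg
import Groth.Agent.S1735
import Groth.Agent.S11642
import Groth.Agent.H58.LCBasic

set_option autoImplicit false
universe u
open IsLocalRing CategoryTheory

namespace Groth.Agent.H84.HL_G

open Groth.Agent.H58.LC

/-- positive depth from a regular element of the maximal ideal -/
theorem depth_pos_of_regular (B : Type u) [CommRing B] [IsLocalRing B] (M : Type u)
    [AddCommGroup M] [Module B M] (x : B) (hx : x ∈ maximalIdeal B) (hreg : IsSMulRegular M x) :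
    0 < LocCoh.depth B M := by
  unfold LocCoh.depth LocCoh.idealDepth
  split_ifs with h
  · exact ENat.top_pos
  · have h1 : RingTheory.Sequence.IsWeaklyRegular M [x] ∧ ∀ r ∈ [x], r ∈ maximalIdeal B := by
      refine ⟨(RingTheory.Sequence.isWeaklyRegular_singleton_iff M x).mpr hreg, ?_⟩
      intro r hr
      rw [List.mem_singleton] at hr
      rw [hr]; exact hx
    have h2 : (([x] : List B).length : ℕ∞) ≤
        ⨆ (rs : List B) (_ : RingTheory.Sequence.IsWeaklyRegular M rs ∧
          ∀ r ∈ rs, r ∈ maximalIdeal B), (rs.length : ℕ∞) :=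
      le_iSup₂ (f := fun (rs : List B) (_ : RingTheory.Sequence.IsWeaklyRegular M rs ∧
          ∀ r ∈ rs, r ∈ maximalIdeal B) => (rs.length : ℕ∞)) [x] h1
    refine lt_of_lt_of_le ?_ h2
    simp

/-- (G) Gorenstein complete local domain, prime of dimension one: top local cohomology vanishes. -/
theorem gor_case (B : Type u) [CommRing B] [IsDomain B] [LocCoh.IsGorensteinLocalRing B]
    [IsAdicComplete (maximalIdeal B) B] (d : ℕ) (hd : ringKrullDim B = d)
    (q : Ideal B) [q.IsPrime] (hq : ringKrullDim (B ⧸ q) = 1) :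
    Subsingleton (LocCoh.H q d B) := by
  -- an element of the maximal ideal outside `q`
  have hqm : q ≤ maximalIdeal B := IsLocalRing.le_maximalIdeal (Ideal.IsPrime.ne_top ‹_›)
  have hne : q ≠ maximalIdeal B := by
    intro h
    haveI : q.IsMaximal := h ▸ IsLocalRing.maximalIdeal.isMaximal B
    letI := Ideal.Quotient.field q
    have : ringKrullDim (B ⧸ q) = 0 := ringKrullDim_eq_zero_of_field _
    rw [this] at hq
    exact zero_ne_one hq
  obtain ⟨x, hxm, hxq⟩ := SetLike.exists_of_lt (lt_of_le_of_ne hqm hne)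
  suffices h0 : ∀ y : LocCoh.H q d B, y = 0 from ⟨fun a b => (h0 a).trans (h0 b).symm⟩
  intro y
  obtain ⟨n, x0, rfl⟩ := exists_rep q d (ModuleCat.of B B) y
  -- pass to level `n + 1 ≥ 1`
  rw [← ι_comp_π q d (ModuleCat.of B B) (Nat.le_succ n) x0]
  set n1 := n + 1 with hn1
  set x1 := (Abelian.Ext.mk₀ (π q (Nat.le_succ n))).comp x0 (zero_add d) with hx1
  obtain ⟨m, hm, hQ⟩ := Groth.Agent.S1735.result B q hq n1 (by omega)
  set Qm : Ideal B := ((Ideal.map (algebraMap B (Localization.AtPrime q)) q) ^ m).comap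
    (algebraMap B (Localization.AtPrime q)) with hQm
  have hle1 : q ^ m ≤ Qm := by
    rw [hQm, ← Ideal.map_pow]
    exact Ideal.le_comap_map
  -- the factorisation of the transition map
  let f1 : Q q m ⟶ ModuleCat.of B (B ⧸ Qm) :=
    ModuleCat.ofHom (Submodule.mapQ _ _ LinearMap.id hle1)
  let f2 : ModuleCat.of B (B ⧸ Qm) ⟶ Q q n1 :=
    ModuleCat.ofHom (Submodule.mapQ _ _ LinearMap.id hQ)
  have hfac : π q hm = f1 ≫ f2 := by
    refine ModuleCat.hom_ext (Submodule.linearMap_qext _ (LinearMap.ext fun r => ?_))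
    rfl
  -- vanishing of `Ext^d(B/Qm, B)`
  have hQmq : Qm ≤ q := hQ.trans (Ideal.pow_le_self (by omega))
  haveI : Nontrivial (B ⧸ Qm) :=
    Ideal.Quotient.nontrivial_iff.mpr (fun h => Ideal.IsPrime.ne_top ‹q.IsPrime›
      (top_le_iff.mp (h ▸ hQmq)))
  have hreg : IsSMulRegular (B ⧸ Qm) x := by
    intro a b hab
    obtain ⟨a, rfl⟩ := Ideal.Quotient.mk_surjective a
    obtain ⟨b, rfl⟩ := Ideal.Quotient.mk_surjective b
    simp only [Algebra.smul_def, Ideal.Quotient.algebraMap_eq, ← map_mul] at hab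
    rw [Ideal.Quotient.eq] at hab ⊢
    rw [← mul_sub] at hab
    rw [hQm, Ideal.mem_comap] at hab ⊢
    rw [map_mul] at hab
    have hu : IsUnit (algebraMap B (Localization.AtPrime q) x) :=
      IsLocalization.map_units (Localization.AtPrime q) (⟨x, hxq⟩ : q.primeCompl)
    exact (Ideal.unit_mul_mem_iff_mem _ hu).mp hab
  have hdepth : 0 < LocCoh.depth B (B ⧸ Qm) := depth_pos_of_regular B _ x hxm hreg
  haveI hsub : Subsingleton (Abelian.Ext (ModuleCat.of B (B ⧸ Qm)) (ModuleCat.of B B) d) :=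
    (Groth.Agent.S11642.result B d hd (B ⧸ Qm)).mp hdepth
  rw [← ι_comp_π q d (ModuleCat.of B B) hm x1, hfac, ← Abelian.Ext.mk₀_comp_mk₀_assoc]
  have hz : (Abelian.Ext.mk₀ f2).comp x1 (zero_add d) = 0 := Subsingleton.elim _ _
  rw [hz, Abelian.Ext.comp_zero, map_zero]

end Groth.Agent.H84.HL_G
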