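import Mathlib
import Groth.Prelude.Def_EtRam
import Groth.Prelude.Def_Hensel
import Groth.Agent.S1983
import Groth.Agent.H14.SepDesc4
import Groth.Agent.H78.ValExt

set_option autoImplicit false
universe u

namespace Groth.Agent.H84.SH_EN

open IsLocalRing

/-- adjoining over a bigger base -/
theorem adjoin_top_of_tower {L M₁ M : Type*} [Field L] [Field M₁] [Field M] [Algebra L M₁]
    [Algebra M₁ M] [Algebra L M] [IsScalarTower L M₁ M] (s : Set M)
    (h : Algebra.adjoin L s = ⊤) : Algebra.adjoin M₁ s = ⊤ := by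
  rw [eq_top_iff]
  intro x _
  have hx : x ∈ Algebra.adjoin L s := by rw [h]; exact Algebra.mem_top
  induction hx using Algebra.adjoin_induction with
  | mem y hy => exact Algebra.subset_adjoin hy
  | algebraMap l =>
    rw [IsScalarTower.algebraMap_apply L M₁ M]
    exact Subalgebra.algebraMap_mem _ _
  | add y z _ _ hy hz => exact add_mem (hy trivial) (hz trivial)
  | mul y z _ _ hy hz => exact mul_mem (hy trivial) (hz trivial)

/-- (EN) enlarging a solution. -/
theorem solution_enlarge (A B K L : Type u) [CommRing A] [IsDomain A] [IsDiscreteValuationRing A]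
    [CommRing B] [IsDomain B] [IsDiscreteValuationRing B] [Algebra A B]
    [IsLocalHom (algebraMap A B)] (hinj : Function.Injective (algebraMap A B))
    [Field K] [Field L] [Algebra A K] [IsFractionRing A K] [Algebra B L] [IsFractionRing B L]
    [Algebra K L] [Algebra A L] [IsScalarTower A K L] [IsScalarTower A B L]
    (K₁ K₂ : Type u) [Field K₁] [Field K₂] [Algebra K K₁] [Algebra K K₂] [FiniteDimensional K K₁]
    [FiniteDimensional K K₂] (φ : K₁ →ₐ[K] K₂) (h : EtRam.IsSolution B K L K₁) :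
    EtRam.IsSolution B K L K₂ := by
  classical
  intro M _ _ _ _ _ _ hadj W hW
  -- the map `K₁ → M`
  let f₁ : K₁ →+* M := (algebraMap K₂ M).comp (φ : K₁ →+* K₂)
  have hf₁K : ∀ k : K, f₁ (algebraMap K K₁ k) = algebraMap K M k := by
    intro k
    show algebraMap K₂ M (φ (algebraMap K K₁ k)) = _
    rw [φ.commutes, ← IsScalarTower.algebraMap_apply K K₂ M]
  -- the intermediate field `M₁ = L · φ(K₁)`
  let M₁ : IntermediateField L M := IntermediateField.adjoin L (Set.range f₁)
  let g₁ : K₁ →+* M₁ := f₁.codRestrict M₁.toSubfield.toSubring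
    (fun x => IntermediateField.subset_adjoin L _ ⟨x, rfl⟩)
  letI algK₁M₁ : Algebra K₁ M₁ := g₁.toAlgebra
  haveI : IsScalarTower K K₁ M₁ := IsScalarTower.of_algebraMap_eq (fun k => by
    apply Subtype.ext
    show algebraMap K M k = f₁ (algebraMap K K₁ k)
    rw [hf₁K])
  letI algK₁M : Algebra K₁ M := f₁.toAlgebra
  haveI : IsScalarTower K₁ M₁ M := IsScalarTower.of_algebraMap_eq (fun _ => rfl)
  letI algK₁K₂ : Algebra K₁ K₂ := (φ : K₁ →+* K₂).toAlgebra
  haveI : IsScalarTower K K₁ K₂ := IsScalarTower.of_algebraMap_eq (fun k => (φ.commutes k).symm)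
  haveI : IsScalarTower K₁ K₂ M := IsScalarTower.of_algebraMap_eq (fun _ => rfl)
  haveI : FiniteDimensional K₁ K₂ := FiniteDimensional.right K K₁ K₂
  -- `M₁` is generated by `K₁` over `L` as an algebra
  have halg : ∀ x ∈ Set.range f₁, IsAlgebraic L x := by
    rintro _ ⟨x, rfl⟩
    have hx : IsIntegral K x := Algebra.IsIntegral.isIntegral x
    have h2 : IsIntegral K (f₁ x) := hx.map ((IsScalarTower.toAlgHom K K₂ M).comp φ)
    exact (h2.tower_top (A := L)).isAlgebraic
  have hadj₁ : Algebra.adjoin L (Set.range (algebraMap K₁ M₁)) = ⊤ := by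
    have h1 : M₁.toSubalgebra = Algebra.adjoin L (Set.range f₁) :=
      IntermediateField.adjoin_toSubalgebra_of_isAlgebraic halg
    apply Subalgebra.map_injective (f := M₁.val) (Subtype.val_injective)
    rw [AlgHom.map_adjoin, Algebra.map_top]
    have h2 : (M₁.val : M₁ →ₐ[L] M) '' Set.range (algebraMap K₁ M₁) = Set.range f₁ := by
      ext y
      constructor
      · rintro ⟨_, ⟨x, rfl⟩, rfl⟩
        exact ⟨x, rfl⟩
      · rintro ⟨x, rfl⟩
        exact ⟨algebraMap K₁ M₁ x, ⟨x, rfl⟩, rfl⟩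
    rw [h2, ← h1]
    ext y
    simp
  -- the valuation ring `W₁ = W ∩ M₁`
  let W₁ : ValuationSubring M₁ := W.comap (algebraMap M₁ M)
  have hW₁ : EtRam.Dominates B ((algebraMap L M₁).comp (algebraMap B L)) W₁ := by
    show EtRam.Dominates B _ (W.comap (algebraMap M₁ M))
    rw [Groth.Agent.H78.ValExt.dominates_comap_iff]
    exact hW
  obtain ⟨hwu, hgr⟩ := h M₁ hadj₁ W₁ hW₁
  obtain ⟨hV₁dvr, hW₁dvr⟩ :=
    Groth.Agent.H14.SepDesc4.dvr_pair A B K L K₁ M₁ hadj₁ W₁ hW₁
  -- apply S1983 to `V₁ → W₁`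
  let V₁ : ValuationSubring K₁ := W₁.comap (algebraMap K₁ M₁)
  letI algV₁W₁ : Algebra V₁ W₁ := (EtRam.inclOfComap W₁ (algebraMap K₁ M₁)).toAlgebra
  haveI : IsLocalHom (algebraMap V₁ W₁) := EtRam.isLocalHom_inclOfComap W₁ (algebraMap K₁ M₁)
  haveI : IsDiscreteValuationRing V₁ := hV₁dvr
  haveI : IsDiscreteValuationRing W₁ := hW₁dvr
  have hinj' : Function.Injective (algebraMap V₁ W₁) := by
    intro x y hxy
    have h1 : algebraMap K₁ M₁ (x : K₁) = algebraMap K₁ M₁ (y : K₁) :=
      congrArg (fun z : W₁ => (z : M₁)) hxy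
    exact Subtype.ext ((algebraMap K₁ M₁).injective h1)
  letI algV₁M₁ : Algebra V₁ M₁ := ((algebraMap K₁ M₁).comp (algebraMap V₁ K₁)).toAlgebra
  haveI : IsScalarTower V₁ K₁ M₁ := IsScalarTower.of_algebraMap_eq (fun _ => rfl)
  haveI : IsScalarTower V₁ W₁ M₁ := IsScalarTower.of_algebraMap_eq (fun _ => rfl)
  have heq : (IsLocalRing.ResidueField.instAlgebra :
      Algebra (IsLocalRing.ResidueField V₁) (IsLocalRing.ResidueField W₁)) =
      (IsLocalRing.ResidueField.map (EtRam.inclOfComap W₁ (algebraMap K₁ M₁))).toAlgebra := by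
    apply Algebra.algebra_ext
    intro r
    obtain ⟨x, rfl⟩ := IsLocalRing.residue_surjective r
    rfl
  haveI : Algebra.IsGeometricallyReduced (ResidueField V₁) (ResidueField W₁) := by
    rw [heq]; exact hgr
  have hsol : EtRam.IsSolution W₁ K₁ M₁ K₂ :=
    Groth.Agent.S1983.result V₁ W₁ K₁ M₁ hinj' hwu K₂
  -- apply it to the test `(M, W)`
  have hadj' : Algebra.adjoin M₁ (Set.range (algebraMap K₂ M)) = ⊤ :=
    adjoin_top_of_tower (L := L) _ hadj
  have hW' : EtRam.Dominates W₁ ((algebraMap M₁ M).comp (algebraMap W₁ M₁)) W := by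
    refine ⟨fun a => a.2, fun a ha => ?_⟩
    have h1 : W₁.valuation (a : M₁) < 1 := (ValuationSubring.valuation_lt_one_iff W₁ a).mp ha
    exact (Groth.Agent.H78.ValExt.comap_valuation_lt_one_iff W (a : M₁)).mp h1
  exact hsol M hadj' W hW'

end Groth.Agent.H84.SH_EN
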