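import Mathlib
import Groth.Prelude.Def_EtRam
import Groth.Prelude.Def_Hensel
import Groth.Agent.H47.HensNoeth2

set_option autoImplicit false
universe u

namespace Groth.Agent.H84.SH_SH2

open IsLocalRing TensorProduct

/-- the image of an element of an étale algebra over a field `K` under a `K`-algebra map to a field
is separable over `K`. -/
theorem isSeparable_of_etale {K E L : Type u} [Field K] [CommRing E] [Algebra K E]
    [Algebra.Etale K E] [Field L] [Algebra K L] (ψ : E →ₐ[K] L) (t : E) :
    IsSeparable K (ψ t) := by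
  haveI : (RingHom.ker ψ).IsPrime := RingHom.ker_isPrime _
  haveI : Algebra.IsSeparable K (E ⧸ RingHom.ker ψ) := inferInstance
  have h1 : IsSeparable K (Ideal.Quotient.mk (RingHom.ker ψ) t) :=
    Algebra.IsSeparable.isSeparable K _
  have h2 : Function.Injective (Ideal.kerLiftAlg ψ) := Ideal.kerLiftAlg_injective ψ
  have h3 : Ideal.kerLiftAlg ψ (Ideal.Quotient.mk (RingHom.ker ψ) t) = ψ t :=
    Ideal.kerLiftAlg_mk ψ t
  rw [← h3]
  unfold IsSeparable at h1 ⊢
  rwa [minpoly.algHom_eq _ h2]

/-- (SH2) the fraction field of the strict henselization of a local domain is separable algebraic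
over the fraction field. -/
theorem isSeparable_fractionField (A A' K K' : Type u) [CommRing A] [IsDomain A] [IsLocalRing A]
    [CommRing A'] [IsDomain A'] [IsLocalRing A'] [Algebra A A'] [IsLocalHom (algebraMap A A')]
    [Hensel.IsStrictHenselization A A'] [Field K] [Field K'] [Algebra A K] [IsFractionRing A K]
    [Algebra A' K'] [IsFractionRing A' K'] [Algebra K K'] [Algebra A K'] [IsScalarTower A K K']
    [IsScalarTower A A' K'] : Algebra.IsSeparable K K' := by
  have hrep := (Groth.Agent.H47.HensNoeth.isIndEtaleLocal_of_isStrictHenselization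
    (R := A) (S := A')).rep
  have key : ∀ y : A', algebraMap A' K' y ∈ separableClosure K K' := by
    intro y
    obtain ⟨E, _, _, _, φ, hφ⟩ := hrep {y}
    obtain ⟨e, he⟩ := hφ y (Finset.mem_singleton_self y)
    let ψ : K ⊗[A] E →ₐ[K] K' :=
      Algebra.TensorProduct.lift (Algebra.ofId K K') ((IsScalarTower.toAlgHom A A' K').comp φ)
        (fun _ _ => Commute.all _ _)
    have hψ : ψ (1 ⊗ₜ[A] e) = algebraMap A' K' y := by
      simp only [ψ, Algebra.TensorProduct.lift_tmul, map_one, one_mul, AlgHom.comp_apply, he]
      rfl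
    rw [mem_separableClosure_iff, ← hψ]
    exact isSeparable_of_etale ψ _
  rw [← separableClosure.eq_top_iff]
  rw [eq_top_iff]
  intro x _
  obtain ⟨a, s, -, rfl⟩ := IsFractionRing.div_surjective (A := A') x
  exact div_mem (key a) (key s)

end Groth.Agent.H84.SH_SH2
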