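import Mathlib
import Groth.Prelude.Def_Tame
import Groth.Agent.H34.TameMain

/-!
# (P1) for S1920: the tame symbol is compatible with ring isomorphisms
-/

set_option autoImplicit false
set_option linter.style.haveILetI false

universe u v

namespace Groth.Agent.H84.KeyP1

open IsLocalRing CycAlg

section transport

variable {A B : Type u} [CommRing A] [CommRing B] [IsLocalRing A] [IsLocalRing B]

theorem maximalIdeal_map_symm (e : A ≃+* B) (n : ℕ) (r : B) (hr : r ∈ maximalIdeal B ^ n) :
    e.symm r ∈ maximalIdeal A ^ n := by
  have h1 : Ideal.map (e.symm : B →+* A) (maximalIdeal B) = maximalIdeal A :=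
    IsLocalRing.map_maximalIdeal_of_surjective (e.symm : B →+* A) e.symm.surjective
  rw [← h1, ← Ideal.map_pow]
  exact Ideal.mem_map_of_mem _ hr

/-- Transport of tame data along a ring isomorphism (same extension ring). -/
noncomputable def transport (e : A ≃+* B) {a₁ a₂ : A} (D : TameData A a₁ a₂) :
    TameData B (e a₁) (e a₂) :=
  letI alg : Algebra B D.B := ((algebraMap A D.B).comp (e.symm : B →+* A)).toAlgebra
  have hmap : ∀ (q : MaximalSpectrum D.B) (b : B),
      algebraMap B (Localization.AtPrime q.asIdeal) b =
        algebraMap A (Localization.AtPrime q.asIdeal) (e.symm b) := fun q b => rfl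
  { B := D.B
    commRing := D.commRing
    algebra := alg
    isFinExt := by
      obtain ⟨hinj, hfin, n, hn⟩ := D.isFinExt
      refine ⟨?_, ?_, n, ?_⟩
      · exact hinj.comp e.symm.injective
      · letI : Algebra A B := (e : A →+* B).toAlgebra
        haveI : IsScalarTower A B D.B := IsScalarTower.of_algebraMap_eq (fun x => by
          show algebraMap A D.B x = algebraMap A D.B (e.symm (e x))
          rw [e.symm_apply_apply])
        exact Module.Finite.of_restrictScalars_finite A B D.B
      · intro r hr b
        obtain ⟨x, hx⟩ := hn (e.symm r) (maximalIdeal_map_symm e n r hr) b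
        refine ⟨e x, ?_⟩
        show algebraMap A D.B (e.symm (e x)) = algebraMap A D.B (e.symm r) * b
        rw [e.symm_apply_apply, hx, Algebra.smul_def]
    isLocalHom := by
      intro q
      haveI := D.isLocalHom q
      constructor
      intro b hb
      rw [hmap] at hb
      have := IsLocalHom.map_nonunit (f := algebraMap A (Localization.AtPrime q.asIdeal)) _ hb
      have h2 := this.map e
      rwa [e.apply_symm_apply] at h2
    π := D.π
    π_mem := D.π_mem
    u₁ := D.u₁
    u₂ := D.u₂
    e₁ := D.e₁
    e₂ := D.e₂
    fac₁ := by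
      intro q
      rw [hmap, e.symm_apply_apply]
      exact D.fac₁ q
    fac₂ := by
      intro q
      rw [hmap, e.symm_apply_apply]
      exact D.fac₂ q }

theorem norm_transfer {A B C : Type u} [CommRing A] [CommRing B] [CommRing C] [IsLocalRing A]
    [IsLocalRing B] [IsLocalRing C] [Algebra A C] [Algebra B C] [IsLocalHom (algebraMap A C)]
    [IsLocalHom (algebraMap B C)] (e : A ≃+* B)
    (he : ∀ x, algebraMap B C (e x) = algebraMap A C x) (y : ResidueField C) :
    Algebra.norm (ResidueField B) y =
      ResidueField.mapEquiv e (Algebra.norm (ResidueField A) y) := by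
  symm
  refine Algebra.norm_eq_of_ringEquiv (ResidueField.mapEquiv e) ?_ y
  ext x
  obtain ⟨x, rfl⟩ := residue_surjective x
  show residue C (algebraMap B C (e x)) = residue C (algebraMap A C x)
  rw [he]

theorem transport_localFactor (e : A ≃+* B) {a₁ a₂ : A} (D : TameData A a₁ a₂)
    (q : MaximalSpectrum D.B) :
    (transport e D).localFactor q = ResidueField.mapEquiv e (D.localFactor q) := by
  haveI h1 := D.isLocalHom q
  letI alg : Algebra B D.B := (transport e D).algebra
  haveI h2 : IsLocalHom (algebraMap B (Localization.AtPrime q.asIdeal)) :=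
    (transport e D).isLocalHom q
  unfold TameData.localFactor
  rw [map_pow]
  congr 1
  refine norm_transfer (C := Localization.AtPrime q.asIdeal) e (fun x => ?_) _
  have hx : e.symm (e x) = x := e.symm_apply_apply x
  change algebraMap A (Localization.AtPrime q.asIdeal) (e.symm (e x)) =
    algebraMap A (Localization.AtPrime q.asIdeal) x
  rw [hx]

theorem transport_value (e : A ≃+* B) {a₁ a₂ : A} (D : TameData A a₁ a₂) :
    (transport e D).value = ResidueField.mapEquiv e D.value := by
  unfold TameData.value
  show ∏ᶠ q : MaximalSpectrum D.B, (transport e D).localFactor q = _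
  simp_rw [transport_localFactor]
  exact ((ResidueField.mapEquiv e).toMulEquiv.map_finprod _).symm

end transport

theorem tameSymbol_ringEquiv {A B : Type u} [CommRing A] [CommRing B] [IsLocalRing A]
    [IsLocalRing B] [IsNoetherianRing A] (hA : ringKrullDim A = 1) (e : A ≃+* B) (a b : A)
    (ha : a ∈ nonZeroDivisors A) (hb : b ∈ nonZeroDivisors A) :
    CycAlg.tameSymbol B (e a) (e b) =
      IsLocalRing.ResidueField.mapEquiv e (CycAlg.tameSymbol A a b) := by
  classical
  haveI : IsNoetherianRing B := isNoetherianRing_of_ringEquiv A e
  have hB : ringKrullDim B = 1 := by rw [← ringKrullDim_eq_of_ringEquiv e]; exact hA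
  have hmapnzd : Submonoid.map e (nonZeroDivisors A) = nonZeroDivisors B :=
    MulEquivClass.map_nonZeroDivisors e
  have ha' : e a ∈ nonZeroDivisors B := hmapnzd ▸ Submonoid.mem_map_of_mem _ ha
  have hb' : e b ∈ nonZeroDivisors B := hmapnzd ▸ Submonoid.mem_map_of_mem _ hb
  unfold CycAlg.tameSymbol
  by_cases h : Nonempty (TameData A a b)
  · have h' : Nonempty (TameData B (e a) (e b)) := ⟨transport e (Classical.choice h)⟩
    rw [dif_pos h, dif_pos h']
    rw [Groth.Agent.H34.TameRef.value_eq B hB (e a) (e b) ha' hb' (Classical.choice h')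
      (transport e (Classical.choice h))]
    exact transport_value e _
  · have h' : ¬ Nonempty (TameData B (e a) (e b)) := by
      rintro ⟨D'⟩
      apply h
      have D'' := transport e.symm D'
      rw [e.symm_apply_apply, e.symm_apply_apply] at D''
      exact ⟨D''⟩
    rw [dif_neg h, dif_neg h', map_one]

end Groth.Agent.H84.KeyP1
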