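import Groth.Agent.H84.GerbeFp2

set_option autoImplicit false

universe v₅ u₅ v₄ u₄ v₃ u₃ v₂ u₂ v u

open CategoryTheory CategoryTheory.Limits

namespace Groth.Agent.H84

section bicat

open Bicategory

variable {B : Type u₂} [Bicategory.{v₃, v₂} B]

/-- postcomposition with an equivalence 1-morphism is an equivalence of hom categories -/
noncomputable def postEquiv (a : B) {b c : B} (F : b ⟶ c) (F' : c ⟶ b) (η : F ≫ F' ≅ 𝟙 b)
    (ε : F' ≫ F ≅ 𝟙 c) : (a ⟶ b) ≌ (a ⟶ c) :=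
  CategoryTheory.Equivalence.mk ((postcomposing a b c).obj F) ((postcomposing a c b).obj F')
    ((rightUnitorNatIso a b).symm ≪≫ ((postcomposing a b b).mapIso η).symm ≪≫
      (associatorNatIsoLeft a F F').symm)
    (associatorNatIsoLeft a F' F ≪≫ (postcomposing a c c).mapIso ε ≪≫ rightUnitorNatIso a c)

theorem postcomposing_isEquivalence (a : B) {b c : B} (F : b ⟶ c) (F' : c ⟶ b) (η : F ≫ F' ≅ 𝟙 b)
    (ε : F' ≫ F ≅ 𝟙 c) : ((postcomposing a b c).obj F).IsEquivalence :=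
  (postEquiv a F F' η ε).isEquivalence_functor

/-- if precomposition with `ι` is an equivalence for target `b`, it is for an equivalent target `c` -/
theorem precomposing_isEquivalence_of_equiv {a₁ a₂ : B} (ι : a₂ ⟶ a₁) {b c : B} (F : b ⟶ c)
    (F' : c ⟶ b) (η : F ≫ F' ≅ 𝟙 b) (ε : F' ≫ F ≅ 𝟙 c)
    (h : ((precomposing a₂ a₁ b).obj ι).IsEquivalence) :
    ((precomposing a₂ a₁ c).obj ι).IsEquivalence := by
  haveI := h
  haveI := postcomposing_isEquivalence a₁ F F' η ε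
  haveI := postcomposing_isEquivalence a₂ F F' η ε
  have iso := associatorNatIsoMiddle ι F
  haveI : ((postcomposing a₁ b c).obj F ⋙ (precomposing a₂ a₁ c).obj ι).IsEquivalence :=
    Functor.isEquivalence_of_iso iso
  exact Functor.isEquivalence_of_comp_left ((postcomposing a₁ b c).obj F) _

end bicat

section fibgrpd

variable {C : Type u} [Category.{v} C]
  {𝒮₁ : BasedCategory.{v₂, u₂} C} {𝒮₂ : BasedCategory.{v₃, u₃} C}

/-- the underlying functor of an equivalence over the base is an equivalence of categories -/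
theorem isEquivalence_of_isEquivOver (F : 𝒮₁ ⥤ᵇ 𝒮₂) (hF : FibCat.IsEquivOver F) :
    F.toFunctor.IsEquivalence := by
  obtain ⟨F', ⟨η⟩, ⟨ε⟩⟩ := hF
  exact (CategoryTheory.Equivalence.mk F.toFunctor F'.toFunctor
    ((BasedNatTrans.forgetful _ _).mapIso η).symm
    ((BasedNatTrans.forgetful _ _).mapIso ε)).isEquivalence_functor

theorem isEquivOver_symm {F : 𝒮₁ ⥤ᵇ 𝒮₂} (hF : FibCat.IsEquivOver F) :
    ∃ F' : 𝒮₂ ⥤ᵇ 𝒮₁, FibCat.IsEquivOver F' := by
  obtain ⟨F', ⟨η⟩, ⟨ε⟩⟩ := hF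
  exact ⟨F', F, ⟨ε⟩, ⟨η⟩⟩

/-- fibred in groupoids transports along a fully faithful based functor which is
"essentially surjective over identities" -/
theorem isFibGrpd_of_isEquivOver (F : 𝒮₁ ⥤ᵇ 𝒮₂) (hF : FibCat.IsEquivOver F)
    [FibCat.IsFibGrpd 𝒮₁.p] : FibCat.IsFibGrpd 𝒮₂.p := by
  obtain ⟨F', ⟨η⟩, ⟨ε⟩⟩ := hF
  haveI : F'.toFunctor.IsEquivalence :=
    isEquivalence_of_isEquivOver F' ⟨F, ⟨ε⟩, ⟨η⟩⟩
  constructor
  · intro x V f
    obtain ⟨y₁, φ₁, hφ₁⟩ := exists_lift_of_eq 𝒮₁.p (x := F'.obj x) f (F'.w_obj x)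
    let εx : F.obj (F'.obj x) ⟶ x := ε.hom.toNatTrans.app x
    have hεx : 𝒮₂.p.IsHomLift (𝟙 (𝒮₂.p.obj x)) εx := BasedNatTrans.app_isHomLift ε.hom x
    have h1 : 𝒮₂.p.IsHomLift f (F.map φ₁) := inferInstance
    exact ⟨F.obj y₁, F.map φ₁ ≫ εx, IsHomLift.comp_lift_id_right 𝒮₂.p f (F.map φ₁) εx⟩
  · intro y x φ
    have hφ' : 𝒮₁.p.IsHomLift (𝒮₂.p.map φ) (F'.map φ) := inferInstance
    haveI := isStronglyCartesian_of_isFibGrpd 𝒮₁.p (𝒮₂.p.map φ) (F'.map φ)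
    refine { universal_property' := ?_ }
    intro a' g φ' hφ''
    have h2 : 𝒮₁.p.IsHomLift (g ≫ 𝒮₂.p.map φ) (F'.map φ') := inferInstance
    obtain ⟨χ₁, ⟨hχ₁, hχ₁fac⟩, huniq⟩ :=
      Functor.IsStronglyCartesian.universal_property 𝒮₁.p (𝒮₂.p.map φ) (F'.map φ) g
        (g ≫ 𝒮₂.p.map φ) rfl (F'.map φ')
    refine ⟨F'.toFunctor.preimage χ₁, ⟨?_, ?_⟩, ?_⟩
    · rw [← BasedFunctor.isHomLift_iff F']
      have : F'.map (F'.toFunctor.preimage χ₁) = χ₁ := F'.toFunctor.map_preimage χ₁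
      rw [this]
      exact hχ₁
    · apply F'.toFunctor.map_injective
      rw [Functor.map_comp, F'.toFunctor.map_preimage]
      exact hχ₁fac
    · rintro χ ⟨hχ, hχfac⟩
      apply F'.toFunctor.map_injective
      rw [F'.toFunctor.map_preimage]
      apply huniq
      refine ⟨inferInstance, ?_⟩
      rw [← hχfac, Functor.map_comp]

end fibgrpd

section stack

variable {C : Type u} [Category.{v} C]

theorem isStackFor_of_isEquivOver {𝒮₁ 𝒮₂ : BasedCategory.{v, max u v} C} (F : 𝒮₁ ⥤ᵇ 𝒮₂)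
    (hF : FibCat.IsEquivOver F) {U : C} (R : Sieve U) (h : Stk.IsStackFor R 𝒮₁) :
    Stk.IsStackFor R 𝒮₂ := by
  obtain ⟨F', ⟨η⟩, ⟨ε⟩⟩ := hF
  exact precomposing_isEquivalence_of_equiv (B := BasedCategory.{v, max u v} C)
    (a₁ := FibCat.overCat U) (a₂ := Stk.sieveCat R) (Stk.sieveIncl R) F F' η ε h

theorem isStack_of_isEquivOver (J : GrothendieckTopology C) {𝒮₁ 𝒮₂ : BasedCategory.{v, max u v} C}
    (F : 𝒮₁ ⥤ᵇ 𝒮₂) (hF : FibCat.IsEquivOver F) (h : Stk.IsStack J 𝒮₁) : Stk.IsStack J 𝒮₂ := by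
  haveI : FibCat.IsFibGrpd 𝒮₁.p := h.1
  exact ⟨isFibGrpd_of_isEquivOver F hF, fun U R hR => isStackFor_of_isEquivOver F hF R (h.2 R hR)⟩

end stack

end Groth.Agent.H84
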