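import Mathlib
import Groth.Prelude.Def_Cyc
import Groth.Agent.H85.CycOpen

/-!
# (S6) for S1920: `ordAt` at the generic point of an integral scheme is `ordFrac` on the stalk
-/

set_option autoImplicit false

universe u v

open CategoryTheory AlgebraicGeometry TopologicalSpace Opposite

namespace Groth.Agent.H84.KeyS6

theorem ordAt_generic {X : Scheme.{u}} [IsIntegral X] (ξ : X) (h : genericPoint X ⤳ ξ)
    (f : X.functionField) :
    Cyc.ordAt ξ (genericPoint X) h (X.residue (genericPoint X) f) =
      CycAlg.ordFrac (X.presheaf.stalk ξ) X.functionField f := by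
  -- the residue map at the generic point is bijective
  have hres_inj : Function.Injective (X.residue (genericPoint X)).hom :=
    RingHom.injective (X.residue (genericPoint X)).hom
  have hres_surj : Function.Surjective (X.residue (genericPoint X)).hom :=
    X.residue_surjective (genericPoint X)
  let σ : X.functionField ≃+* X.residueField (genericPoint X) :=
    RingEquiv.ofBijective (X.residue (genericPoint X)).hom ⟨hres_inj, hres_surj⟩
  -- the specialization map is injective
  have hsp_inj : Function.Injective (Cyc.specMap ξ (genericPoint X) h) := by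
    have h1 : Function.Injective (algebraMap (X.presheaf.stalk ξ) X.functionField) :=
      IsFractionRing.injective _ _
    intro a b hab
    apply h1
    apply hres_inj
    exact hab
  have hker : RingHom.ker (Cyc.specMap ξ (genericPoint X) h) = ⊥ :=
    (RingHom.injective_iff_ker_eq_bot _).mp hsp_inj
  have hmk_inj : Function.Injective
      (Ideal.Quotient.mk (RingHom.ker (Cyc.specMap ξ (genericPoint X) h))) := by
    rw [RingHom.injective_iff_ker_eq_bot, Ideal.mk_ker, hker]
  let e : X.presheaf.stalk ξ ≃+* Cyc.LocQuot ξ (genericPoint X) h :=
    RingEquiv.ofBijective (Ideal.Quotient.mk (RingHom.ker (Cyc.specMap ξ (genericPoint X) h)))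
      ⟨hmk_inj, Ideal.Quotient.mk_surjective⟩
  have hcompat : ∀ r : X.presheaf.stalk ξ,
      σ (algebraMap (X.presheaf.stalk ξ) X.functionField r) =
        algebraMap (Cyc.LocQuot ξ (genericPoint X) h) (X.residueField (genericPoint X)) (e r) := by
    intro r
    rfl
  unfold Cyc.ordAt
  exact Groth.Agent.H85.CycOpen.ordFrac_congr e σ hcompat f

end Groth.Agent.H84.KeyS6
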