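import Groth.Agent.H34.KeyRelDefs
import Groth.Agent.H84.KeyP1
import Groth.Agent.H85.CycOpen
import Groth.Agent.H95.CycZero

/-!
# (T4) for helper34 (S1922/S1921): the term of the key lemma for `A = O_x/𝔭_ζ` at the prime of `ξ`
-/

set_option autoImplicit false
set_option linter.style.haveILetI false

universe u v

open CategoryTheory AlgebraicGeometry TopologicalSpace Opposite

namespace Groth.Agent.H84.KeyRelT4

open Groth.Agent.H34.Key Groth.Agent.H34.KeyRel

/-- Localization commutes with quotients: `(R/I)_q ≃ S/J` for `S = R_P`, `I = J ∩ R ⊆ P`,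
`q = P/I`. -/
theorem exists_locQuot_equiv {R S : Type u} [CommRing R] [CommRing S] (f : R →+* S)
    (P : Ideal R) [P.IsPrime]
    (hloc : @IsLocalization R _ P.primeCompl S _ f.toAlgebra) (I : Ideal R) (hIP : I ≤ P)
    (J : Ideal S) (hJ : J.comap f = I)
    (q : Ideal (R ⧸ I)) [q.IsPrime] (hq : q = P.map (Ideal.Quotient.mk I)) :
    ∃ e : Localization.AtPrime q ≃+* S ⧸ J, ∀ a : R,
      e (algebraMap (R ⧸ I) (Localization.AtPrime q) (Ideal.Quotient.mk I a)) =
        Ideal.Quotient.mk J (f a) := by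
  letI algRS : Algebra R S := f.toAlgebra
  haveI := hloc
  have hJle : I ≤ J.comap f := hJ.ge
  let g : R ⧸ I →+* S ⧸ J := Ideal.Quotient.lift I ((Ideal.Quotient.mk J).comp f) (fun a ha => by
    rw [RingHom.comp_apply, Ideal.Quotient.eq_zero_iff_mem]
    exact hJle ha)
  letI algQ : Algebra (R ⧸ I) (S ⧸ J) := g.toAlgebra
  have H : (Ideal.Quotient.mk J).comp (algebraMap R S) =
      (algebraMap (R ⧸ I) (S ⧸ J)).comp (Ideal.Quotient.mk I) := by
    ext a
    rfl
  have H' : RingHom.ker (Ideal.Quotient.mk J) ≤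
      (RingHom.ker (Ideal.Quotient.mk I)).map (algebraMap R S) := by
    rw [Ideal.mk_ker, Ideal.mk_ker, ← hJ]
    exact (IsLocalization.map_comap P.primeCompl S J).ge
  have hloc2 := IsLocalization.of_surjective P.primeCompl S (Ideal.Quotient.mk I)
    Ideal.Quotient.mk_surjective (Ideal.Quotient.mk J) Ideal.Quotient.mk_surjective H H'
  have hM : P.primeCompl.map (Ideal.Quotient.mk I) = q.primeCompl := by
    ext a
    obtain ⟨r, rfl⟩ := Ideal.Quotient.mk_surjective a
    rw [Submonoid.mem_map, Ideal.mem_primeCompl_iff, hq, Ideal.mem_quotient_iff_mem hIP]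
    constructor
    · rintro ⟨r', hr', hrr'⟩ hr
      apply hr'
      have h1 : r' - r ∈ I := Ideal.Quotient.eq.mp hrr'
      have h2 := P.add_mem (hIP h1) hr
      simpa using h2
    · intro hr
      exact ⟨r, hr, rfl⟩
  haveI : IsLocalization.AtPrime (S ⧸ J) q := by
    unfold IsLocalization.AtPrime
    rw [← hM]
    exact hloc2
  let e := IsLocalization.algEquiv q.primeCompl (Localization.AtPrime q) (S ⧸ J)
  exact ⟨e.toRingEquiv, fun a => e.commutes _⟩

variable {X : Scheme.{u}}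

/-- (T4) the term of the key lemma (S1851) for `A = O_x/𝔭_ζ` at the prime of `ξ`. -/
theorem skl_term_rel [IsLocallyNoetherian X] {ζ ξ x : X} (h₁ : ζ ⤳ ξ) (h₂ : ξ ⤳ x) (hx : ζ ⤳ x)
    (hξ : ringKrullDim (Cyc.LocQuot ξ ζ h₁) = 1) (a b : X.presheaf.stalk x)
    (ha : Cyc.specMap x ζ hx a ≠ 0) (hb : Cyc.specMap x ζ hx b ≠ 0)
    (q : Ideal (Cyc.LocQuot x ζ hx)) [q.IsPrime]
    (hq : q = (RingHom.ker (Cyc.specMap x ξ h₂)).map
      (Ideal.Quotient.mk (RingHom.ker (Cyc.specMap x ζ hx)))) :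
    CycAlg.ordFrac (Cyc.LocQuot x ζ hx ⧸ q) q.ResidueField
      (CycAlg.tameSymbol (Localization.AtPrime q)
        (algebraMap (Cyc.LocQuot x ζ hx) (Localization.AtPrime q)
          (Ideal.Quotient.mk (RingHom.ker (Cyc.specMap x ζ hx)) a))
        (algebraMap (Cyc.LocQuot x ζ hx) (Localization.AtPrime q)
          (Ideal.Quotient.mk (RingHom.ker (Cyc.specMap x ζ hx)) b))) =
    Cyc.ordAt x ξ h₂ (resLQEquiv h₁ (CycAlg.tameSymbol (Cyc.LocQuot ξ ζ h₁)
      (Ideal.Quotient.mk (RingHom.ker (Cyc.specMap ξ ζ h₁))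
        ((X.presheaf.stalkSpecializes h₂).hom a))
      (Ideal.Quotient.mk (RingHom.ker (Cyc.specMap ξ ζ h₁))
        ((X.presheaf.stalkSpecializes h₂).hom b)))) := by
  subst hq
  -- notation
  set sp₂ : X.presheaf.stalk x →+* X.presheaf.stalk ξ := (X.presheaf.stalkSpecializes h₂).hom
    with hsp₂
  have hP : RingHom.ker (Cyc.specMap x ξ h₂) =
      (IsLocalRing.maximalIdeal (X.presheaf.stalk ξ)).comap sp₂ :=
    Groth.Agent.H95.CycZero.ker_specMap h₂
  have hloc : @IsLocalization (X.presheaf.stalk x) _ (RingHom.ker (Cyc.specMap x ξ h₂)).primeCompl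
      (X.presheaf.stalk ξ) _ sp₂.toAlgebra := by
    have := Groth.Agent.H95.CycZero.isLocalization_stalkSpecializes h₂
    have hpc : (RingHom.ker (Cyc.specMap x ξ h₂)).primeCompl =
        ((IsLocalRing.maximalIdeal (X.presheaf.stalk ξ)).comap sp₂).primeCompl := by
      ext y
      rw [Ideal.mem_primeCompl_iff, Ideal.mem_primeCompl_iff, hP]
    rw [hpc]
    exact this
  have hcompSp : ∀ c : X.presheaf.stalk x, Cyc.specMap ξ ζ h₁ (sp₂ c) = Cyc.specMap x ζ hx c := by
    intro c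
    rw [Groth.Agent.H95.SecOrd.specMap_apply, Groth.Agent.H95.SecOrd.specMap_apply]
    congr 1
    have := TopCat.Presheaf.stalkSpecializes_comp X.presheaf h₁ h₂
    exact congrArg (fun φ => φ.hom c) this
  have hJ : (RingHom.ker (Cyc.specMap ξ ζ h₁)).comap sp₂ = RingHom.ker (Cyc.specMap x ζ hx) := by
    ext c
    rw [Ideal.mem_comap, RingHom.mem_ker, RingHom.mem_ker, hcompSp]
  have hIP : RingHom.ker (Cyc.specMap x ζ hx) ≤ RingHom.ker (Cyc.specMap x ξ h₂) := by
    rw [← hJ, hP]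
    exact Ideal.comap_mono (IsLocalRing.le_maximalIdeal (Ideal.IsPrime.ne_top inferInstance))
  obtain ⟨e, he⟩ := exists_locQuot_equiv sp₂ (RingHom.ker (Cyc.specMap x ξ h₂)) hloc
    (RingHom.ker (Cyc.specMap x ζ hx)) hIP (RingHom.ker (Cyc.specMap ξ ζ h₁)) hJ
    ((RingHom.ker (Cyc.specMap x ξ h₂)).map
      (Ideal.Quotient.mk (RingHom.ker (Cyc.specMap x ζ hx)))) rfl
  haveI : IsNoetherianRing (X.presheaf.stalk x) := inferInstance
  haveI : IsNoetherianRing (Cyc.LocQuot x ζ hx) := inferInstance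
  haveI : IsNoetherianRing (Localization.AtPrime ((RingHom.ker (Cyc.specMap x ξ h₂)).map
      (Ideal.Quotient.mk (RingHom.ker (Cyc.specMap x ζ hx))))) :=
    IsLocalization.isNoetherianRing ((RingHom.ker (Cyc.specMap x ξ h₂)).map
      (Ideal.Quotient.mk (RingHom.ker (Cyc.specMap x ζ hx)))).primeCompl _ inferInstance
  have hdim : ringKrullDim (Localization.AtPrime ((RingHom.ker (Cyc.specMap x ξ h₂)).map
      (Ideal.Quotient.mk (RingHom.ker (Cyc.specMap x ζ hx))))) = 1 :=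
    (ringKrullDim_eq_of_ringEquiv e).trans hξ
  haveI : IsDomain (Cyc.LocQuot x ζ hx) := Ideal.Quotient.isDomain _
  have hmk_ne : ∀ c, Cyc.specMap x ζ hx c ≠ 0 →
      Ideal.Quotient.mk (RingHom.ker (Cyc.specMap x ζ hx)) c ∈
        nonZeroDivisors (Cyc.LocQuot x ζ hx) := by
    intro c hc
    apply mem_nonZeroDivisors_of_ne_zero
    intro h0
    exact hc (RingHom.mem_ker.mp (Ideal.Quotient.eq_zero_iff_mem.mp h0))
  have hnzd : ∀ c, Cyc.specMap x ζ hx c ≠ 0 →
      algebraMap (Cyc.LocQuot x ζ hx) (Localization.AtPrime ((RingHom.ker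
        (Cyc.specMap x ξ h₂)).map (Ideal.Quotient.mk (RingHom.ker (Cyc.specMap x ζ hx)))))
        (Ideal.Quotient.mk (RingHom.ker (Cyc.specMap x ζ hx)) c) ∈ nonZeroDivisors _ := by
    intro c hc
    exact IsLocalization.map_nonZeroDivisors_le ((RingHom.ker (Cyc.specMap x ξ h₂)).map
      (Ideal.Quotient.mk (RingHom.ker (Cyc.specMap x ζ hx)))).primeCompl _
      (Submonoid.mem_map_of_mem _ (hmk_ne c hc))
  have hP1 := Groth.Agent.H84.KeyP1.tameSymbol_ringEquiv hdim e _ _ (hnzd a ha) (hnzd b hb)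
  rw [he, he] at hP1
  rw [hP1]
  let σ : ((RingHom.ker (Cyc.specMap x ξ h₂)).map
      (Ideal.Quotient.mk (RingHom.ker (Cyc.specMap x ζ hx)))).ResidueField ≃+*
      X.residueField ξ :=
    (IsLocalRing.ResidueField.mapEquiv e).trans (resLQEquiv h₁)
  let e' : (Cyc.LocQuot x ζ hx ⧸ (RingHom.ker (Cyc.specMap x ξ h₂)).map
      (Ideal.Quotient.mk (RingHom.ker (Cyc.specMap x ζ hx)))) ≃+* Cyc.LocQuot x ξ h₂ :=
    DoubleQuot.quotQuotEquivQuotOfLE hIP
  have hcompat : ∀ r : (Cyc.LocQuot x ζ hx ⧸ (RingHom.ker (Cyc.specMap x ξ h₂)).map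
      (Ideal.Quotient.mk (RingHom.ker (Cyc.specMap x ζ hx)))),
      σ (algebraMap _ ((RingHom.ker (Cyc.specMap x ξ h₂)).map
        (Ideal.Quotient.mk (RingHom.ker (Cyc.specMap x ζ hx)))).ResidueField r) =
      algebraMap (Cyc.LocQuot x ξ h₂) (X.residueField ξ) (e' r) := by
    intro r
    obtain ⟨s, rfl⟩ := Ideal.Quotient.mk_surjective r
    obtain ⟨c, rfl⟩ := Ideal.Quotient.mk_surjective s
    rw [Ideal.algebraMap_quotient_residueField_mk]
    change resLQEquiv h₁ (IsLocalRing.ResidueField.mapEquiv e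
      (IsLocalRing.residue _ (algebraMap (Cyc.LocQuot x ζ hx) (Localization.AtPrime _)
        (Ideal.Quotient.mk _ c)))) = _
    rw [IsLocalRing.ResidueField.mapEquiv_apply, IsLocalRing.ResidueField.map_residue]
    change resLQEquiv h₁ (IsLocalRing.residue _ (e (algebraMap (Cyc.LocQuot x ζ hx)
      (Localization.AtPrime _) (Ideal.Quotient.mk _ c)))) = _
    rw [he, resLQEquiv_residue_mk]
    rfl
  have key : ∀ T, Cyc.ordAt x ξ h₂ (σ T) =
      CycAlg.ordFrac (Cyc.LocQuot x ζ hx ⧸ (RingHom.ker (Cyc.specMap x ξ h₂)).map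
        (Ideal.Quotient.mk (RingHom.ker (Cyc.specMap x ζ hx))))
        ((RingHom.ker (Cyc.specMap x ξ h₂)).map
          (Ideal.Quotient.mk (RingHom.ker (Cyc.specMap x ζ hx)))).ResidueField T := by
    intro T
    unfold Cyc.ordAt
    exact Groth.Agent.H85.CycOpen.ordFrac_congr e' σ hcompat T
  exact (key _).symm

end Groth.Agent.H84.KeyRelT4
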