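import Groth.Prelude.Def_StGerb

set_option autoImplicit false

universe v₃ u₃ v₂ u₂ v u

open CategoryTheory

namespace Groth.Agent.H84

section fib

variable {C : Type u} [Category.{v} C] {𝒳 : Type u₂} [Category.{v₂} 𝒳] (p : 𝒳 ⥤ C)

theorem isStronglyCartesian_of_isFibGrpd [FibCat.IsFibGrpd p] {R S : C} {a b : 𝒳} (f : R ⟶ S)
    (φ : a ⟶ b) [p.IsHomLift f φ] : p.IsStronglyCartesian f φ := by
  subst_hom_lift p f φ
  exact FibCat.IsFibGrpd.isStronglyCartesian φ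

theorem exists_lift_of_eq [FibCat.IsFibGrpd p] {x : 𝒳} {V S : C} (f : V ⟶ S) (h : p.obj x = S) :
    ∃ (y : 𝒳) (φ : y ⟶ x), p.IsHomLift f φ := by
  subst h
  exact FibCat.IsFibGrpd.exists_lift f

theorem exists_factor [FibCat.IsFibGrpd p] {R R' S : C} {a a' b : 𝒳} (f : R ⟶ S) (φ : a ⟶ b)
    [p.IsHomLift f φ] (g : R' ⟶ R) (f' : R' ⟶ S) (hf' : f' = g ≫ f) (φ' : a' ⟶ b)
    [p.IsHomLift f' φ'] : ∃ χ : a' ⟶ a, p.IsHomLift g χ ∧ χ ≫ φ = φ' := by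
  have := isStronglyCartesian_of_isFibGrpd p f φ
  exact ⟨Functor.IsStronglyCartesian.map p f φ hf' φ', inferInstance,
    Functor.IsStronglyCartesian.fac p f φ hf' φ'⟩

end fib

section cover

variable {C : Type u} [Category.{v} C] (J : GrothendieckTopology C)

/-- transitivity of covers in the "exists a covering sieve on which `T` holds" shape, allowing
a propositional equality on the intermediate object -/
theorem cover_trans {U : C} (T : ∀ ⦃W : C⦄, (W ⟶ U) → Prop) (R : Sieve U) (hR : R ∈ J U)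
    (H : ∀ ⦃V : C⦄ (f : V ⟶ U), R f → ∃ (V' : C) (e : V' = V), ∃ R' ∈ J V',
      ∀ ⦃W : C⦄ (k : W ⟶ V'), R' k → T (k ≫ eqToHom e ≫ f)) :
    ∃ S ∈ J U, ∀ ⦃W : C⦄ (k : W ⟶ U), S k → T k := by
  choose V' e R' hR' h using H
  refine ⟨Sieve.bind R (fun V f hf => (R' f hf).pullback (eqToHom (e f hf).symm)), ?_, ?_⟩
  · exact J.bind_covering hR (fun V f hf => J.pullback_stable _ (hR' f hf))
  · rintro W k ⟨V, l, f, hf, hl, rfl⟩
    have := h f hf (l ≫ eqToHom (e f hf).symm) hl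
    simpa using this

theorem cover_transport {U U' : C} (e : U' = U) (R : Sieve U') (hR : R ∈ J U') :
    ∃ R' ∈ J U, ∀ ⦃W : C⦄ (k : W ⟶ U), R' k → R (k ≫ eqToHom e.symm) := by
  subst e
  exact ⟨R, hR, fun W k hk => by simpa using hk⟩

end cover

section gerbe

variable {C : Type u} [Category.{v} C] (J : GrothendieckTopology C)
  {𝒳 : BasedCategory.{v₂, u₂} C} {𝒴 : BasedCategory.{v₃, u₃} C}

/-- strong form of `LocSurjHom`: arbitrary morphism between images, arbitrary pullbacks -/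
theorem locSurjHom_strong [FibCat.IsFibGrpd 𝒳.p] [FibCat.IsFibGrpd 𝒴.p] (F : 𝒳 ⥤ᵇ 𝒴)
    (hF : Gerb.LocSurjHom J F) (x x' : 𝒳.obj) (β : F.obj x ⟶ F.obj x') :
    ∃ R ∈ J (𝒳.p.obj x), ∀ ⦃V : C⦄ (h : V ⟶ 𝒳.p.obj x), R h →
      ∀ (x₀ : 𝒳.obj) (φ : x₀ ⟶ x), 𝒳.p.IsHomLift h φ → ∃ ψ : x₀ ⟶ x', F.map φ ≫ β = F.map ψ := by
  -- the morphism of the base under β, transported
  let f' : 𝒳.p.obj x ⟶ 𝒳.p.obj x' :=
    eqToHom (F.w_obj x).symm ≫ 𝒴.p.map β ≫ eqToHom (F.w_obj x')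
  have hβ : 𝒴.p.IsHomLift f' β := by
    dsimp only [f']
    infer_instance
  obtain ⟨x'', α', hα'⟩ := exists_lift_of_eq 𝒳.p f' rfl
  have := hα'
  obtain ⟨θ, hθ, hθfac⟩ := exists_factor 𝒴.p f' (F.map α') (𝟙 _) f' (by simp) β
  obtain ⟨R, hR, H⟩ := hF x x'' θ hθ
  refine ⟨R, hR, ?_⟩
  intro V h hh x₀ φ hφ
  obtain ⟨x₁, φ₁, ψ₁, hφ₁, hψ₁, hcomm⟩ := H h hh
  have := hφ₁
  have := hφ
  obtain ⟨ι, hι, hιfac⟩ := exists_factor 𝒳.p h φ₁ (𝟙 _) h (by simp) φ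
  refine ⟨ι ≫ ψ₁ ≫ α', ?_⟩
  rw [← hιfac, ← hθfac]
  simp only [Functor.map_comp, Category.assoc]
  rw [reassoc_of% hcomm]

end gerbe

end Groth.Agent.H84
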