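import Mathlib
import Groth.Prelude.Def_CAlg2
import Groth.Prelude.Def_EGA4b
import Groth.Prelude.Def_Found
import Groth.Agent.H34.HensColimG
import Groth.Agent.H20.PolyGRing2
import Groth.Agent.H34.GRingLoc
import Groth.Agent.H11.NagataFT
import Groth.Agent.H11.NagataBasic
import Groth.Agent.S2656

set_option autoImplicit false
universe u
open TensorProduct IsLocalRing

namespace Groth.Agent.H84.GU10_EXC

open Groth.Agent.H34.HensColimG

/-- (EXC) local rings of finite type `ℤ`-algebras are Nagata G-rings. -/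
theorem nagata_gring_localization_of_finiteType_int (S : Type u) [CommRing S]
    [Algebra.FiniteType ℤ S] (p : Ideal S) [p.IsPrime] :
    CAlg.IsNagata (Localization.AtPrime p) ∧ CAlg.IsGRing (Localization.AtPrime p) := by
  letI : Algebra Z.{u} S :=
    ((algebraMap ℤ S).comp (ULift.ringEquiv : Z.{u} ≃+* ℤ).toRingHom).toAlgebra
  have hZS : algebraMap Z.{u} S =
      (algebraMap ℤ S).comp (ULift.ringEquiv : Z.{u} ≃+* ℤ).toRingHom := rfl
  haveI hST := IsScalarTower.of_algebraMap_eq (R := ℤ) (S := Z.{u}) (A := S) (fun x => by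
      rw [hZS]
      simp)
  haveI : Algebra.FiniteType Z.{u} S :=
    Algebra.FiniteType.of_restrictScalars_finiteType ℤ Z.{u} S
  have hZN : CAlg.IsNagata Z.{u} := Groth.Agent.S2656.result Z.{u}
  have hSN : CAlg.IsNagata S := Groth.Agent.H11.NagataFT.isNagata_of_finiteType Z.{u} hZN S
  have hSG : CAlg.IsGRing S := Groth.Agent.H20.PolyGRing.isGRing_of_finiteType Z.{u} isGRing_Z S
  exact ⟨Groth.Agent.H11.NagataBasic.isNagata_of_isLocalization p.primeCompl hSN,
    Groth.Agent.H34.GRingLoc.isGRing_localization S hSG p.primeCompl⟩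

end Groth.Agent.H84.GU10_EXC
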