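import Mathlib
import Groth.Prelude.Def_EGA4b
import Groth.Prelude.Def_CAlg
import Groth.Agent.H71.Hartogs

/-!
# (SCH) for helper59 (S16668): Hartogs on an affine Noetherian scheme, ring form
-/

set_option autoImplicit false
universe u
open RingTheory.Sequence AlgebraicGeometry CategoryTheory

namespace Groth.Agent.H84.PowSec_SCH

/-- transport of a weakly regular pair in the maximal ideal along a ring isomorphism of local
rings. -/
theorem pair_transport {L S : Type u} [CommRing L] [CommRing S] [IsLocalRing L] [IsLocalRing S]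
    (e : L ≃+* S) (a b : L) (ha : a ∈ IsLocalRing.maximalIdeal L)
    (hb : b ∈ IsLocalRing.maximalIdeal L) (hab : IsWeaklyRegular L [a, b]) :
    e a ∈ IsLocalRing.maximalIdeal S ∧ e b ∈ IsLocalRing.maximalIdeal S ∧
      IsWeaklyRegular S [e a, e b] := by
  refine ⟨?_, ?_, ?_⟩
  · rw [IsLocalRing.mem_maximalIdeal, mem_nonunits_iff] at ha ⊢
    exact fun h => ha ((isUnit_map_iff e a).mp h)
  · rw [IsLocalRing.mem_maximalIdeal, mem_nonunits_iff] at hb ⊢
    exact fun h => hb ((isUnit_map_iff e b).mp h)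
  · refine (AddEquiv.isWeaklyRegular_congr (e := e.toAddEquiv) (as := [a, b])
      (bs := [e a, e b]) ?_).mp hab
    refine List.Forall₂.cons (fun x => ?_) (List.Forall₂.cons (fun x => ?_) List.Forall₂.nil)
    · exact map_mul e a x
    · exact map_mul e b x

/-- Hartogs on an affine scheme, restriction from `⊤` to `W`. -/
theorem bijective_res_top (X : Scheme.{u}) [IsAffine X] (W : X.Opens) [QuasiCompact W.ι]
    (hZ : ∀ z : X, z ∉ W → ∃ a b : X.presheaf.stalk z,
      a ∈ IsLocalRing.maximalIdeal (X.presheaf.stalk z) ∧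
      b ∈ IsLocalRing.maximalIdeal (X.presheaf.stalk z) ∧
      RingTheory.Sequence.IsWeaklyRegular (X.presheaf.stalk z) [a, b]) :
    Function.Bijective (X.presheaf.map (homOfLE (le_top : W ≤ ⊤)).op).hom := by
  have hbij := Groth.Agent.H71.opens_ι_app_bijective_of_regularSeq_two X W hZ ⊤
    (isAffineOpen_top X)
  have hWV : W.ι ''ᵁ W.ι ⁻¹ᵁ (⊤ : X.Opens) ≤ ⊤ := le_top
  have hbij' : Function.Bijective (X.presheaf.map (homOfLE hWV).op).hom := hbij
  have heq : W.ι ''ᵁ W.ι ⁻¹ᵁ (⊤ : X.Opens) = W := by
    simp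
  have hle : W.ι ''ᵁ W.ι ⁻¹ᵁ (⊤ : X.Opens) ≤ W := heq.le
  have hcomp : X.presheaf.map (homOfLE (le_top : W ≤ ⊤)).op ≫ X.presheaf.map (homOfLE hle).op =
      X.presheaf.map (homOfLE hWV).op := by
    rw [← Functor.map_comp]
    rfl
  haveI : IsIso (homOfLE hle) := by
    refine ⟨homOfLE heq.ge, ?_, ?_⟩ <;> rfl
  haveI : IsIso (X.presheaf.map (homOfLE hle).op) := inferInstance
  have hiso : Function.Bijective (X.presheaf.map (homOfLE hle).op).hom :=
    ConcreteCategory.bijective_of_isIso (X.presheaf.map (homOfLE hle).op)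
  have hc : ⇑(X.presheaf.map (homOfLE hle).op).hom ∘
        ⇑(X.presheaf.map (homOfLE (le_top : W ≤ ⊤)).op).hom =
      ⇑(X.presheaf.map (homOfLE hWV).op).hom := by
    rw [← hcomp]
    rfl
  have hbij2 : Function.Bijective (⇑(X.presheaf.map (homOfLE hle).op).hom ∘
        ⇑(X.presheaf.map (homOfLE (le_top : W ≤ ⊤)).op).hom) := by
    rw [hc]
    exact hbij'
  exact (Function.Bijective.of_comp_iff' hiso _).mp hbij2

/-- points of `Spec B` are prime ideals (local instance so that the statement elaborates). -/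
local instance specAsIdealIsPrime (B : Type u) [CommRing B] (z : ↥(Spec (CommRingCat.of B))) :
    z.asIdeal.IsPrime := z.isPrime

/-- (SCH) Hartogs on an affine Noetherian scheme, ring form. -/
theorem bijective_res_of_regular_pair (B : Type u) [CommRing B] [IsNoetherianRing B]
    (W : (Spec (CommRingCat.of B)).Opens)
    (h : ∀ z : ↥(Spec (CommRingCat.of B)), z ∉ W →
      ∃ a b : Localization.AtPrime z.asIdeal,
        a ∈ IsLocalRing.maximalIdeal (Localization.AtPrime z.asIdeal) ∧
        b ∈ IsLocalRing.maximalIdeal (Localization.AtPrime z.asIdeal) ∧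
        IsWeaklyRegular (Localization.AtPrime z.asIdeal) [a, b]) :
    Function.Bijective ((Spec (CommRingCat.of B)).presheaf.map
      (homOfLE (le_top : W ≤ ⊤)).op).hom := by
  refine bijective_res_top (Spec (CommRingCat.of B)) W ?_
  intro z hz
  obtain ⟨a, b, ha, hb, hab⟩ := h z hz
  letI k : Algebra B ((Spec (CommRingCat.of B)).presheaf.stalk z) :=
    StructureSheaf.stalkAlgebra B z
  haveI : IsLocalization.AtPrime ((Spec (CommRingCat.of B)).presheaf.stalk z) z.asIdeal :=
    StructureSheaf.IsLocalization.to_stalk B z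
  let e : Localization.AtPrime z.asIdeal ≃+* (Spec (CommRingCat.of B)).presheaf.stalk z :=
    (IsLocalization.algEquiv z.asIdeal.primeCompl (Localization.AtPrime z.asIdeal)
      ((Spec (CommRingCat.of B)).presheaf.stalk z)).toRingEquiv
  exact ⟨e a, e b, pair_transport e a b ha hb hab⟩

end Groth.Agent.H84.PowSec_SCH
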