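import Groth.Agent.H84.Gerbe

set_option autoImplicit false

universe v₅ u₅ v₄ u₄ v₃ u₃ v₂ u₂ v u

open CategoryTheory CategoryTheory.Limits

namespace Groth.Agent.H84

section fp

variable {C : Type u} [Category.{v} C] (J : GrothendieckTopology C)
  {𝒜 : BasedCategory.{v₂, u₂} C} {𝒳 : BasedCategory.{v₃, u₃} C} {𝒮 : BasedCategory.{v₄, u₄} C}

theorem isIso_of_lift_id [FibCat.IsFibGrpd 𝒮.p] (V : C) {s t : 𝒮.obj} (θ : s ⟶ t)
    [𝒮.p.IsHomLift (𝟙 V) θ] : IsIso θ := by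
  haveI := isStronglyCartesian_of_isFibGrpd 𝒮.p (𝟙 V) θ
  exact Functor.IsStronglyCartesian.isIso_of_base_isIso 𝒮.p (𝟙 V) θ

/-- Base change of a gerbe to the canonical 2-fibre product is a gerbe. -/
theorem isGerbeOver_fpFst [FibCat.IsFibGrpd 𝒜.p] [FibCat.IsFibGrpd 𝒳.p] [FibCat.IsFibGrpd 𝒮.p]
    (a : 𝒜 ⥤ᵇ 𝒮) (F : 𝒳 ⥤ᵇ 𝒮) (hF : Gerb.IsGerbeOver J F) :
    Gerb.IsGerbeOver J (FibCat.fpFst a F) := by
  constructor
  · intro y
    obtain ⟨R, hR, H⟩ := hF.1 (a.obj y)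
    obtain ⟨R', hR', HR'⟩ := cover_transport J (a.w_obj y) R hR
    refine ⟨R', hR', ?_⟩
    intro V f hf
    obtain ⟨x, g, hg⟩ := H _ (HR' f hf)
    rw [IsHomLift.lift_comp_eqToHom_iff] at hg
    obtain ⟨yV, lam, hlam⟩ := exists_lift_of_eq 𝒜.p f rfl
    obtain ⟨θ, hθ, hθfac⟩ := exists_factor 𝒮.p f (a.map lam) (𝟙 V) f (by simp) g
    haveI : IsIso θ := isIso_of_lift_id V θ
    have hV : 𝒜.p.obj yV = V := IsHomLift.domain_eq 𝒜.p f lam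
    have hP : 𝒮.p.IsHomLift (𝟙 (𝒜.p.obj yV)) (asIso θ).symm.hom := by
      rw [hV]
      change 𝒮.p.IsHomLift (𝟙 V) (inv θ)
      infer_instance
    exact ⟨⟨⟨yV, x, (asIso θ).symm⟩, hP⟩, lam, hlam⟩
  · intro P₁ P₂ b hb
    -- unpack
    let x₁ : 𝒳.obj := P₁.obj.snd
    let x₂ : 𝒳.obj := P₂.obj.snd
    let i₁ : a.obj P₁.obj.fst ≅ F.obj x₁ := P₁.obj.iso
    let i₂ : a.obj P₂.obj.fst ≅ F.obj x₂ := P₂.obj.iso
    have hi₁ : 𝒮.p.IsHomLift (𝟙 ((FibCat.fp a F).p.obj P₁)) i₁.hom := P₁.property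
    let β : F.obj x₁ ⟶ F.obj x₂ := i₁.inv ≫ a.map b ≫ i₂.hom
    obtain ⟨R, hR, H⟩ := locSurjHom_strong J F hF.2 x₁ x₂ β
    have e : 𝒳.p.obj x₁ = (FibCat.fp a F).p.obj P₁ :=
      (F.w_obj x₁).symm.trans (IsHomLift.codomain_eq 𝒮.p (𝟙 ((FibCat.fp a F).p.obj P₁)) i₁.hom)
    obtain ⟨R', hR', HR'⟩ := cover_transport J e R hR
    refine ⟨R', hR', ?_⟩
    intro V f hf
    obtain ⟨y₀, lam, hlam⟩ := exists_lift_of_eq (x := P₁.obj.fst) 𝒜.p f rfl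
    obtain ⟨x₀, φ, hφ⟩ := exists_lift_of_eq 𝒳.p (f ≫ eqToHom e.symm) rfl
    have hFφ : 𝒮.p.IsHomLift f (F.map φ) := by
      have : 𝒮.p.IsHomLift (f ≫ eqToHom e.symm) (F.map φ) := inferInstance
      rwa [IsHomLift.lift_comp_eqToHom_iff] at this
    have halam : 𝒮.p.IsHomLift f (a.map lam) := inferInstance
    have hcomp : 𝒮.p.IsHomLift f (a.map lam ≫ i₁.hom) :=
      IsHomLift.comp_lift_id_right 𝒮.p f (a.map lam) i₁.hom
    obtain ⟨i₀, hi₀, hi₀fac⟩ := exists_factor 𝒮.p f (F.map φ) (𝟙 V) f (by simp) (a.map lam ≫ i₁.hom)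
    haveI : IsIso i₀ := isIso_of_lift_id V i₀
    have hV : 𝒜.p.obj y₀ = V := IsHomLift.domain_eq 𝒜.p f lam
    have hP : 𝒮.p.IsHomLift (𝟙 (𝒜.p.obj y₀)) (asIso i₀).hom := by
      rw [hV]
      exact hi₀
    obtain ⟨ψ, hψ⟩ := H _ (HR' f hf) x₀ φ hφ
    let P₀ : (FibCat.fp a F).obj := ⟨⟨y₀, x₀, asIso i₀⟩, hP⟩
    let Φ : P₀ ⟶ P₁ := ObjectProperty.homMk
      { fst := lam
        snd := φ
        w := hi₀fac.symm }
    let Ψ : P₀ ⟶ P₂ := ObjectProperty.homMk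
      { fst := lam ≫ b
        snd := ψ
        w := by
          change a.map (lam ≫ b) ≫ i₂.hom = i₀ ≫ F.map ψ
          rw [← hψ, ← Category.assoc i₀, hi₀fac]
          simp [β] }
    refine ⟨P₀, Φ, Ψ, ?_, ?_, rfl⟩
    · rw [← BasedFunctor.isHomLift_iff (FibCat.fpFst a F)]
      exact hlam
    · rw [← BasedFunctor.isHomLift_iff (FibCat.fpFst a F)]
      have hb2 : 𝒜.p.IsHomLift (𝟙 ((FibCat.fp a F).p.obj P₁))
          (show P₁.obj.fst ⟶ P₂.obj.fst from b) := hb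
      exact IsHomLift.comp_lift_id_right 𝒜.p f lam (show P₁.obj.fst ⟶ P₂.obj.fst from b)

end fp

section equiv

variable {C : Type u} [Category.{v} C] (J : GrothendieckTopology C)
  {𝒳 : BasedCategory.{v₂, u₂} C} {𝒬 : BasedCategory.{v₃, u₃} C} {𝒴 : BasedCategory.{v₄, u₄} C}

/-- Precomposing a gerbe with an equivalence over the base gives a gerbe. -/
theorem isGerbeOver_comp_of_isEquivOver (E : 𝒳 ⥤ᵇ 𝒬) (hE : FibCat.IsEquivOver E) (π : 𝒬 ⥤ᵇ 𝒴)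
    (hπ : Gerb.IsGerbeOver J π) : Gerb.IsGerbeOver J (BasedFunctor.comp E π) := by
  obtain ⟨E', ⟨η⟩, ⟨ε⟩⟩ := hE
  -- ε : E' ⋙ E ≅ 𝟭 𝒬 ; η : E ⋙ E' ≅ 𝟭 𝒳
  constructor
  · intro y
    obtain ⟨R, hR, H⟩ := hπ.1 y
    refine ⟨R, hR, ?_⟩
    intro V f hf
    obtain ⟨p, g, hg⟩ := H f hf
    let εp : E.obj (E'.obj p) ⟶ p := ε.hom.toNatTrans.app p
    have hε : 𝒬.p.IsHomLift (𝟙 (𝒬.p.obj p)) εp := BasedNatTrans.app_isHomLift ε.hom p
    have hp : 𝒬.p.obj p = V := (π.w_obj p).symm.trans (IsHomLift.domain_eq 𝒴.p f g)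
    have hε' : 𝒴.p.IsHomLift (𝟙 V) (π.map εp) := by
      rw [← hp]; infer_instance
    refine ⟨E'.obj p, π.map εp ≫ g, ?_⟩
    exact IsHomLift.comp_lift_id_left 𝒴.p f g (π.map εp)
  · intro x₁ x₂ b hb
    obtain ⟨R, hR, H⟩ := hπ.2 (E.obj x₁) (E.obj x₂) b (by rw [E.w_obj x₁]; exact hb)
    obtain ⟨R', hR', HR'⟩ := cover_transport J (E.w_obj x₁) R hR
    refine ⟨R', hR', ?_⟩
    intro V f hf
    obtain ⟨p₀, φ, ψ, hφ, hψ, hcomm⟩ := H _ (HR' f hf)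
    rw [IsHomLift.lift_comp_eqToHom_iff] at hφ hψ
    have hp : 𝒬.p.obj p₀ = V := IsHomLift.domain_eq 𝒬.p f φ
    -- ε at p₀ : E (E' p₀) ⟶ p₀
    let εp : E.obj (E'.obj p₀) ⟶ p₀ := ε.hom.toNatTrans.app p₀
    have hεp0 : 𝒬.p.IsHomLift (𝟙 (𝒬.p.obj p₀)) εp := BasedNatTrans.app_isHomLift ε.hom p₀
    have hεp : 𝒬.p.IsHomLift (𝟙 V) εp := by
      rw [← hp]; exact hεp0
    -- the underlying equivalence of categories
    let eqv : 𝒳.obj ≌ 𝒬.obj := CategoryTheory.Equivalence.mk E.toFunctor E'.toFunctor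
      ((BasedNatTrans.forgetful _ _).mapIso η).symm ((BasedNatTrans.forgetful _ _).mapIso ε)
    haveI : E.toFunctor.IsEquivalence := eqv.isEquivalence_functor
    let φ' : E'.obj p₀ ⟶ x₁ := E.toFunctor.preimage (εp ≫ φ)
    let ψ' : E'.obj p₀ ⟶ x₂ := E.toFunctor.preimage (εp ≫ ψ)
    have hφ' : E.map φ' = εp ≫ φ := E.toFunctor.map_preimage _
    have hψ' : E.map ψ' = εp ≫ ψ := E.toFunctor.map_preimage _
    refine ⟨E'.obj p₀, φ', ψ', ?_, ?_, ?_⟩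
    · rw [← BasedFunctor.isHomLift_iff E, hφ']
      exact IsHomLift.comp_lift_id_left 𝒬.p f φ εp
    · rw [← BasedFunctor.isHomLift_iff E, hψ']
      exact IsHomLift.comp_lift_id_left 𝒬.p f ψ εp
    · change π.map (E.map φ') ≫ b = π.map (E.map ψ')
      rw [hφ', hψ', Functor.map_comp, Functor.map_comp, Category.assoc]
      exact congrArg (fun t => π.map εp ≫ t) hcomm

end equiv

end Groth.Agent.H84
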