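import Mathlib

set_option autoImplicit false
universe u v
open CategoryTheory CategoryTheory.Limits AlgebraicGeometry

namespace Groth.Agent.H84.WF_PL

open TensorProduct in
/-- In a pushout square of commutative rings every element of the pushout is a finite sum of
products of elements coming from the two legs. -/
theorem exists_sum_of_isPushout {R A B P : CommRingCat.{u}} {f : R ⟶ A} {g : R ⟶ B}
    {inl : A ⟶ P} {inr : B ⟶ P} (h : IsPushout f g inl inr) (y : P) :
    ∃ (n : ℕ) (a : Fin n → A) (c : Fin n → B), y = ∑ i, inl.hom (a i) * inr.hom (c i) := by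
  letI := f.hom.toAlgebra
  letI := g.hom.toAlgebra
  have h0 := CommRingCat.isPushout_tensorProduct R A B
  have hf : CommRingCat.ofHom (algebraMap R A) = f := rfl
  have hg : CommRingCat.ofHom (algebraMap R B) = g := rfl
  rw [hf, hg] at h0
  let e := h0.isoIsPushout _ _ h
  have e1 : ∀ a : A, e.hom.hom (a ⊗ₜ[R] (1 : B)) = inl.hom a := fun a =>
    congr($(h0.inl_isoIsPushout_hom _ _ h).hom a)
  have e2 : ∀ b : B, e.hom.hom ((1 : A) ⊗ₜ[R] b) = inr.hom b := fun b =>
    congr($(h0.inr_isoIsPushout_hom _ _ h).hom b)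
  have hy : y = e.hom.hom (e.inv.hom y) := by
    have := congr($(e.inv_hom_id).hom y)
    simpa using this.symm
  rw [hy]
  generalize e.inv.hom y = z
  induction z using TensorProduct.induction_on with
  | zero => exact ⟨0, Fin.elim0, Fin.elim0, by simp⟩
  | tmul a b =>
    refine ⟨1, fun _ => a, fun _ => b, ?_⟩
    have : a ⊗ₜ[R] b = (a ⊗ₜ[R] (1 : B)) * ((1 : A) ⊗ₜ[R] b) := by
      simp [Algebra.TensorProduct.tmul_mul_tmul]
    rw [this, map_mul, e1, e2]
    simp
  | add x y hx hy' =>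
    obtain ⟨n, a, c, hx⟩ := hx
    obtain ⟨m, a', c', hy'⟩ := hy'
    refine ⟨n + m, Fin.append a a', Fin.append c c', ?_⟩
    rw [map_add, hx, hy', Fin.sum_univ_add]
    simp

/-- (PL) sections of a fibre product over affine pieces are sums of products. -/
theorem exists_sum_appLE {X Y S P : Scheme.{u}} {f : X ⟶ S} {g : Y ⟶ S} {fst : P ⟶ X}
    {snd : P ⟶ Y} (hP : IsPullback fst snd f g) [IsAffine Y] [IsAffine S] (U : X.Opens)
    (hU : IsAffineOpen U) (y : Γ(P, fst ⁻¹ᵁ U)) :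
    ∃ (n : ℕ) (a : Fin n → Γ(X, U)) (c : Fin n → Γ(Y, ⊤)),
      y = ∑ i, (fst.app U).hom (a i) * (snd.appLE ⊤ (fst ⁻¹ᵁ U) le_top).hom (c i) := by
  haveI : IsAffine U.toScheme := hU
  have h1 := isPullback_morphismRestrict fst U
  have h2 := (h1.flip.paste_horiz hP.flip).flip
  have h3 := isPushout_appTop_of_isPullback h2
  have E1 : (fst ∣_ U).appTop ≫ (fst ⁻¹ᵁ U).topIso.hom = U.topIso.hom ≫ fst.app U := by
    rw [← Scheme.Hom.resLE_eq_morphismRestrict, Scheme.Hom.appTop, Scheme.Hom.resLE_app_top,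
      Scheme.Hom.appLE_eq_app, Category.assoc, Category.assoc, Iso.inv_hom_id, Category.comp_id]
  have E2 : ((fst ⁻¹ᵁ U).ι ≫ snd).appTop ≫ (fst ⁻¹ᵁ U).topIso.hom =
      snd.appLE ⊤ (fst ⁻¹ᵁ U) le_top := by
    rw [Scheme.Hom.comp_appTop, Category.assoc]
    have : (fst ⁻¹ᵁ U).ι.appTop ≫ (fst ⁻¹ᵁ U).topIso.hom =
        P.presheaf.map (homOfLE (le_top : fst ⁻¹ᵁ U ≤ ⊤)).op := by
      change P.presheaf.map (homOfLE (x := (fst ⁻¹ᵁ U).ι ''ᵁ ⊤) le_top).op ≫
        P.presheaf.map (eqToHom (fst ⁻¹ᵁ U).ι_image_top.symm).op = _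
      rw [← Functor.map_comp]
      rfl
    rw [this]
    rfl
  obtain ⟨n, a, c, hy⟩ := exists_sum_of_isPushout h3 ((fst ⁻¹ᵁ U).topIso.inv.hom y)
  refine ⟨n, fun i => U.topIso.hom.hom (a i), c, ?_⟩
  have hy2 : y = (fst ⁻¹ᵁ U).topIso.hom.hom ((fst ⁻¹ᵁ U).topIso.inv.hom y) := by
    have := congr($((fst ⁻¹ᵁ U).topIso.inv_hom_id).hom y)
    exact this.symm
  rw [hy2, hy, map_sum]
  refine Finset.sum_congr rfl fun i _ => ?_
  rw [map_mul]
  have e1 := congr($(E1).hom (a i))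
  have e2 := congr($(E2).hom (c i))
  simp only [CommRingCat.hom_comp, RingHom.comp_apply] at e1 e2
  rw [e1, e2]

end Groth.Agent.H84.WF_PL
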