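import Groth.Prelude.Def_QuadGrp
import Mathlib

set_option autoImplicit false
universe u v

open QuadGrp

namespace Groth.Agent.H84

/-- In characteristic two, a symmetric matrix of odd size with zero diagonal has determinant zero. -/
theorem det_eq_zero_of_symm_zeroDiag {R : Type*} [CommRing R] [CharP R 2] {ι : Type*} [Fintype ι]
    [DecidableEq ι] (hodd : Odd (Fintype.card ι)) (N : Matrix ι ι R) (hs : ∀ i j, N i j = N j i)
    (hd : ∀ i, N i i = 0) : N.det = 0 := by
  classical
  rw [Matrix.det_apply]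
  refine Finset.sum_ninvolution (fun σ => σ⁻¹) ?_ ?_ ?_ ?_
  · intro σ
    have h1 : ∏ i, N ((σ⁻¹ : Equiv.Perm ι) i) i = ∏ i, N (σ i) i := by
      rw [← Equiv.prod_comp σ]
      refine Finset.prod_congr rfl fun i _ => ?_
      rw [show (σ⁻¹ : Equiv.Perm ι) (σ i) = i from Equiv.symm_apply_apply σ i, hs]
    rw [Equiv.Perm.sign_inv, h1]
    exact CharTwo.add_self_eq_zero _
  · intro σ hne heq
    apply hne
    have hσ : σ ^ 2 = 1 := by
      rw [pow_two]
      nth_rewrite 1 [← heq]
      exact inv_mul_cancel σ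
    have h2 := Equiv.Perm.two_dvd_card_support hσ
    have hfix : ∃ i, σ i = i := by
      by_contra hcon
      push Not at hcon
      have hsupp : σ.support = Finset.univ := by
        ext i; simp [hcon i]
      rw [hsupp, Finset.card_univ] at h2
      exact (Nat.not_even_iff_odd.mpr hodd) (even_iff_two_dvd.mpr h2)
    obtain ⟨i, hi⟩ := hfix
    have hz : ∏ j, N (σ j) j = 0 := Finset.prod_eq_zero (Finset.mem_univ i) (by rw [hi, hd])
    rw [hz, smul_zero]
  · intro σ; exact Finset.mem_univ _
  · intro σ; exact inv_inv σ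

/-- For odd `n`, every coefficient of the universal discriminant is even. -/
theorem even_coeff_discUniv {n : ℕ} (hn : Odd n) (s : Sym2 (Fin n) →₀ ℕ) :
    Even (MvPolynomial.coeff s (discUniv n)) := by
  rw [← ZMod.intCast_eq_zero_iff_even]
  have h0 : MvPolynomial.map (Int.castRingHom (ZMod 2)) (discUniv n) = 0 := by
    rw [discUniv, RingHom.map_det]
    apply det_eq_zero_of_symm_zeroDiag (by simpa using hn)
    · intro i j
      simp only [RingHom.mapMatrix_apply, Matrix.map_apply, univPolarMat, Matrix.of_apply]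
      by_cases h : i = j
      · subst h; rfl
      · rw [if_neg h, if_neg (Ne.symm h), Sym2.eq_swap]
    · intro i
      simp only [RingHom.mapMatrix_apply, Matrix.map_apply, univPolarMat, Matrix.of_apply, if_true,
        map_mul]
      have : (MvPolynomial.map (Int.castRingHom (ZMod 2))) (2 : MvPolynomial (Sym2 (Fin n)) ℤ) = 0 := by
        rw [map_ofNat]
        exact CharTwo.two_eq_zero
      rw [this, zero_mul]
  have := congrArg (MvPolynomial.coeff s) h0
  rw [MvPolynomial.coeff_map, MvPolynomial.coeff_zero] at this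
  simpa using this

/-- Part (1) of the half-discriminant proposition: for odd `n`, twice the universal half-discriminant is
the universal discriminant. -/
theorem two_mul_halfDiscUniv {n : ℕ} (hn : Odd n) : 2 * halfDiscUniv n = discUniv n := by
  ext s
  have h2 : (2 : MvPolynomial (Sym2 (Fin n)) ℤ) = MvPolynomial.C 2 := by simp
  rw [h2, MvPolynomial.coeff_C_mul, coeff_halfDiscUniv]
  exact Int.two_mul_ediv_two_of_even (even_coeff_discUniv hn s)

/-- The coefficient array of the quadratic form `x ↦ xᵀ W x`. -/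
def coeffOfMat {R : Type*} [CommRing R] {n : ℕ} (W : Matrix (Fin n) (Fin n) R) : Sym2 (Fin n) → R :=
  Sym2.lift ⟨fun i j => if i = j then W i j else W i j + W j i, fun i j => by
    by_cases h : i = j
    · subst h; rfl
    · dsimp only
      rw [if_neg h, if_neg (Ne.symm h), add_comm]⟩

theorem coeffOfMat_mk {R : Type*} [CommRing R] {n : ℕ} (W : Matrix (Fin n) (Fin n) R) (i j : Fin n) :
    coeffOfMat W (Sym2.mk i j) = if i = j then W i j else W i j + W j i := rfl

/-- The half-discriminant of a coefficient array. -/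
noncomputable def hdEval {R : Type*} [CommRing R] {n : ℕ} (a : Sym2 (Fin n) → R) : R :=
  MvPolynomial.eval₂ (Int.castRingHom R) a (halfDiscUniv n)

theorem two_mul_hdEval_coeffOfMat {R : Type*} [CommRing R] {n : ℕ} (hn : Odd n)
    (W : Matrix (Fin n) (Fin n) R) : 2 * hdEval (coeffOfMat W) = (W + W.transpose).det := by
  have h1 : (2 : R) * hdEval (coeffOfMat W) =
      MvPolynomial.eval₂ (Int.castRingHom R) (coeffOfMat W) (2 * halfDiscUniv n) := by
    rw [MvPolynomial.eval₂_mul, hdEval]
    congr 1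
    simp
  rw [h1, two_mul_halfDiscUniv hn, discUniv]
  change (MvPolynomial.eval₂Hom (Int.castRingHom R) (coeffOfMat W)) _ = _
  rw [RingHom.map_det]
  congr 1
  ext i j
  simp only [RingHom.mapMatrix_apply, Matrix.map_apply, univPolarMat, Matrix.of_apply,
    Matrix.add_apply, Matrix.transpose_apply]
  by_cases h : i = j
  · subst h
    simp [coeffOfMat_mk, two_mul]
  · simp [coeffOfMat_mk, h]

theorem coeffOfMat_map {R S : Type*} [CommRing R] [CommRing S] (φ : R →+* S) {n : ℕ}
    (W : Matrix (Fin n) (Fin n) R) : coeffOfMat (φ.mapMatrix W) = φ ∘ coeffOfMat W := by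
  ext p
  induction p using Sym2.ind with | _ i j =>
  simp only [Function.comp, coeffOfMat_mk, RingHom.mapMatrix_apply, Matrix.map_apply]
  split_ifs <;> simp

theorem hdEval_map {R S : Type*} [CommRing R] [CommRing S] (φ : R →+* S) {n : ℕ}
    (a : Sym2 (Fin n) → R) : hdEval (φ ∘ a) = φ (hdEval a) := by
  unfold hdEval
  rw [MvPolynomial.eval₂_comp_left]
  congr 1
  exact RingHom.ext_int _ _

/-- The universal identity: the half-discriminant of `x ↦ (Gx)ᵀ W (Gx)` is `det G ^ 2` times that of
`x ↦ xᵀ W x` (odd size). -/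
theorem hdEval_conj {R : Type*} [CommRing R] {n : ℕ} (hn : Odd n) (W G : Matrix (Fin n) (Fin n) R) :
    hdEval (coeffOfMat (G.transpose * W * G)) = G.det ^ 2 * hdEval (coeffOfMat W) := by
  let W₀ : Matrix (Fin n) (Fin n) (MvPolynomial ((Fin n × Fin n) ⊕ (Fin n × Fin n)) ℤ) :=
    Matrix.of fun i j => MvPolynomial.X (Sum.inl (i, j))
  let G₀ : Matrix (Fin n) (Fin n) (MvPolynomial ((Fin n × Fin n) ⊕ (Fin n × Fin n)) ℤ) :=
    Matrix.of fun i j => MvPolynomial.X (Sum.inr (i, j))
  let φ : MvPolynomial ((Fin n × Fin n) ⊕ (Fin n × Fin n)) ℤ →+* R :=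
    MvPolynomial.eval₂Hom (Int.castRingHom R) (Sum.elim (fun p => W p.1 p.2) (fun p => G p.1 p.2))
  have hW : φ.mapMatrix W₀ = W := by
    ext i j
    simp only [RingHom.mapMatrix_apply, Matrix.map_apply, φ, W₀, Matrix.of_apply,
      MvPolynomial.coe_eval₂Hom, MvPolynomial.eval₂_X, Sum.elim_inl]
  have hG : φ.mapMatrix G₀ = G := by
    ext i j
    simp only [RingHom.mapMatrix_apply, Matrix.map_apply, φ, G₀, Matrix.of_apply,
      MvPolynomial.coe_eval₂Hom, MvPolynomial.eval₂_X, Sum.elim_inr]
  have hT : φ.mapMatrix G₀.transpose = G.transpose := by rw [← hG]; ext i j; simp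
  have key : hdEval (coeffOfMat (G₀.transpose * W₀ * G₀)) = G₀.det ^ 2 * hdEval (coeffOfMat W₀) := by
    have h2 : (2 : MvPolynomial ((Fin n × Fin n) ⊕ (Fin n × Fin n)) ℤ) ≠ 0 := two_ne_zero
    apply mul_left_cancel₀ h2
    have e1 := two_mul_hdEval_coeffOfMat hn (G₀.transpose * W₀ * G₀)
    have e2 := two_mul_hdEval_coeffOfMat hn W₀
    have h3 : G₀.transpose * W₀ * G₀ + (G₀.transpose * W₀ * G₀).transpose =
        G₀.transpose * (W₀ + W₀.transpose) * G₀ := by
      simp [Matrix.transpose_mul, Matrix.mul_add, Matrix.add_mul, Matrix.mul_assoc]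
    rw [e1, h3, Matrix.det_mul, Matrix.det_mul, Matrix.det_transpose, ← e2]
    ring
  have h4 := congrArg φ key
  rw [map_mul, map_pow, ← hdEval_map, ← hdEval_map, ← coeffOfMat_map, ← coeffOfMat_map,
    RingHom.map_det, map_mul, map_mul, hW, hG, hT] at h4
  exact h4

theorem coeffs_eq_coeffOfMat {R : Type*} {M : Type*} [CommRing R] [AddCommGroup M] [Module R M] {n : ℕ}
    (b : Module.Basis (Fin n) R M) (B : LinearMap.BilinForm R M) :
    coeffs b (LinearEquiv.refl R R) B.toQuadraticMap = coeffOfMat (LinearMap.BilinForm.toMatrix b B) := by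
  ext p
  induction p using Sym2.ind with | _ i j =>
  rw [coeffs_mk, coeffOfMat_mk]
  simp only [LinearEquiv.refl_apply, LinearMap.BilinMap.polar_toQuadraticMap,
    LinearMap.BilinForm.toMatrix_apply, LinearMap.BilinMap.toQuadraticMap_apply]
  split_ifs with h
  · subst h; rfl
  · rfl

theorem halfDisc_eq_hdEval {R : Type*} {M : Type*} [CommRing R] [AddCommGroup M] [Module R M] {n : ℕ}
    (b : Module.Basis (Fin n) R M) (Q : QuadraticForm R M) :
    halfDisc b (LinearEquiv.refl R R) Q = hdEval (coeffs b (LinearEquiv.refl R R) Q) := rfl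

/-- The half-discriminant of `Q ∘ g` is `det g ^ 2` times that of `Q` (odd rank). -/
theorem halfDisc_comp {R : Type*} {M : Type*} [CommRing R] [AddCommGroup M] [Module R M] {n : ℕ}
    (hn : Odd n) (b : Module.Basis (Fin n) R M) (Q : QuadraticForm R M) (g : M →ₗ[R] M) :
    halfDisc b (LinearEquiv.refl R R) (Q.comp g) =
      LinearMap.det g ^ 2 * halfDisc b (LinearEquiv.refl R R) Q := by
  have := Module.Free.of_basis b
  obtain ⟨B, rfl⟩ := LinearMap.BilinMap.toQuadraticMap_surjective Q
  have hcomp : (B.toQuadraticMap).comp g = (LinearMap.BilinForm.comp B g g).toQuadraticMap := by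
    ext x; simp
  rw [hcomp, halfDisc_eq_hdEval, halfDisc_eq_hdEval, coeffs_eq_coeffOfMat, coeffs_eq_coeffOfMat,
    LinearMap.BilinForm.toMatrix_comp b b, hdEval_conj hn, LinearMap.det_toMatrix]

end Groth.Agent.H84
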