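import Mathlib
import Groth.Agent.H10.SmoothChart
import Groth.Agent.H3.HPair5
import Groth.Agent.H3.Hensel2
import Groth.Agent.H23.CplQuot

/-!
# Étale approximation of maps from smooth algebras to a Henselian target (helper84)

`B` smooth over `R`, `A` an `R`-algebra, `Λ` an `A`-algebra which is Henselian along `J`,
`h : B → Λ` an `R`-algebra map whose reduction modulo `J` takes values in the image of `A`.
Then there are an étale `A`-algebra `E`, `ι : B → E` and `ψ : E → Λ` with `h ≡ ψ ∘ ι` modulo `J`.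
-/

set_option autoImplicit false
universe u
open TensorProduct

namespace Groth.Agent.H84.ArtinEt

section General

variable {R : Type u} [CommRing R] {A : Type u} [CommRing A] [Algebra R A]
  {Λ : Type u} [CommRing Λ] [Algebra R Λ] [Algebra A Λ] [IsScalarTower R A Λ]
  (J : Ideal Λ)

/-- the canonical injection `A/(J ∩ A) → Λ/J` -/
noncomputable def qJ : (A ⧸ J.comap (algebraMap A Λ)) →ₐ[A] (Λ ⧸ J) :=
  Ideal.quotientMapₐ J (Algebra.ofId A Λ) (le_refl _)

theorem qJ_mk (α : A) : qJ J (Ideal.Quotient.mk _ α) = Ideal.Quotient.mk J (algebraMap A Λ α) :=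
  rfl

theorem qJ_injective : Function.Injective (qJ (A := A) J) := by
  rw [injective_iff_map_eq_zero]
  intro x hx
  obtain ⟨α, rfl⟩ := Ideal.Quotient.mk_surjective x
  rw [qJ_mk, Ideal.Quotient.eq_zero_iff_mem] at hx
  exact Ideal.Quotient.eq_zero_iff_mem.mpr hx

theorem exists_etale_approx_gen [HenselianRing Λ J] (B : Type u) [CommRing B] [Algebra R B]
    [Algebra.Smooth R B] (h : B →ₐ[R] Λ)
    (hgen : ∀ b : B, ∃ α : A, Ideal.Quotient.mk J (h b) = Ideal.Quotient.mk J (algebraMap A Λ α)) :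
    ∃ (E : Type u) (_ : CommRing E) (_ : Algebra A E), Algebra.Etale A E ∧
      ∃ (ψ : E →ₐ[A] Λ) (ι : B →+* E),
        (∀ r : R, ι (algebraMap R B r) = algebraMap A E (algebraMap R A r)) ∧
        ∀ b : B, h b - ψ (ι b) ∈ J := by
  classical
  -- the section `σ : B → A/(J ∩ A)`
  choose α hα using hgen
  let I : Ideal A := J.comap (algebraMap A Λ)
  have hq : ∀ b, qJ (A := A) J (Ideal.Quotient.mk I (α b)) = Ideal.Quotient.mk J (h b) :=
    fun b => (hα b).symm
  let σ : B →ₐ[R] A ⧸ I :=
    { toFun := fun b => Ideal.Quotient.mk I (α b)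
      map_one' := by
        apply qJ_injective J
        rw [hq, map_one, map_one, map_one]
      map_mul' := fun x y => by
        apply qJ_injective J
        rw [hq, map_mul, map_mul, map_mul, hq, hq]
      map_zero' := by
        apply qJ_injective J
        rw [hq, map_zero, map_zero, map_zero]
      map_add' := fun x y => by
        apply qJ_injective J
        rw [hq, map_add, map_add, map_add, hq, hq]
      commutes' := fun r => by
        apply qJ_injective J
        rw [hq, h.commutes, IsScalarTower.algebraMap_apply R A (A ⧸ I), Ideal.Quotient.algebraMap_eq,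
          qJ_mk, ← IsScalarTower.algebraMap_apply R A Λ] }
  have hσ : ∀ b, qJ (A := A) J (σ b) = Ideal.Quotient.mk J (h b) := hq
  obtain ⟨E, _, _, hEt, σE, ι, hι, hσE⟩ :=
    Groth.Agent.H10.SmoothChart.chart_of_smooth R B A I σ
  haveI := hEt
  let σ' : (Λ ⊗[A] E) →ₐ[Λ] (Λ ⧸ J) :=
    Algebra.TensorProduct.lift (Algebra.ofId Λ (Λ ⧸ J)) ((qJ J).comp σE)
      (fun _ _ => Commute.all _ _)
  obtain ⟨τ, hτ⟩ := Groth.Agent.H3.exists_lift_of_etale_of_henselianRing J (Λ ⊗[A] E) σ'
  let ψ : E →ₐ[A] Λ := (τ.restrictScalars A).comp Algebra.TensorProduct.includeRight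
  refine ⟨E, inferInstance, inferInstance, hEt, ψ, ι, hι, fun b => ?_⟩
  rw [← Ideal.Quotient.eq]
  have h1 : Ideal.Quotient.mk J (ψ (ι b)) = σ' ((1 : Λ) ⊗ₜ[A] ι b) := by
    rw [← hτ]
    rfl
  rw [h1]
  change _ = Algebra.TensorProduct.lift (Algebra.ofId Λ (Λ ⧸ J)) ((qJ J).comp σE)
      (fun _ _ => Commute.all _ _) ((1 : Λ) ⊗ₜ[A] ι b)
  rw [Algebra.TensorProduct.lift_tmul, map_one, one_mul]
  change _ = qJ J (σE (ι b))
  rw [hσE, hσ]

end General

section Adic

variable {R : Type u} [CommRing R] (I : Ideal R)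

theorem exists_mk_eq (hI : I.FG) (N : ℕ) (x : AdicCompletion I R) :
    ∃ r : R, Ideal.Quotient.mk ((I ^ N).map (algebraMap R (AdicCompletion I R))) x =
      Ideal.Quotient.mk _ (algebraMap R (AdicCompletion I R) r) := by
  obtain ⟨r, hr⟩ := Ideal.Quotient.mk_surjective (AdicCompletion.evalₐ I N x)
  refine ⟨r, ?_⟩
  rw [Ideal.Quotient.eq, ← Groth.Agent.H23.CplQuot.ker_evalₐ_eq_map I hI N, RingHom.mem_ker]
  change AdicCompletion.evalₐ I N (x - algebraMap R (AdicCompletion I R) r) = 0
  rw [map_sub, AlgHom.commutes, ← hr]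
  exact sub_self _

theorem henselian_pow_map (hI : I.FG) (N : ℕ) (hN : 1 ≤ N) :
    HenselianRing (AdicCompletion I R) ((I ^ N).map (algebraMap R (AdicCompletion I R))) := by
  haveI : IsAdicComplete (I.map (algebraMap R (AdicCompletion I R))) (AdicCompletion I R) :=
    AdicCompletion.isAdicComplete_self I hI
  have hJle : (I ^ N).map (algebraMap R (AdicCompletion I R)) ≤
      I.map (algebraMap R (AdicCompletion I R)) :=
    Ideal.map_mono (Ideal.pow_le_self (by omega))
  exact Groth.Agent.H3.henselianRing_of_le _ _ hJle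

theorem exists_etale_approx [IsNoetherianRing R] (B : Type u) [CommRing B] [Algebra R B]
    [Algebra.Smooth R B] (h : B →ₐ[R] AdicCompletion I R) (N : ℕ) (hN : 1 ≤ N) :
    ∃ (E : Type u) (_ : CommRing E) (_ : Algebra R E), Algebra.Etale R E ∧
      ∃ (ψ : E →ₐ[R] AdicCompletion I R) (ι : B →ₐ[R] E),
        ∀ s : B, h s - ψ (ι s) ∈ (I ^ N).map (algebraMap R (AdicCompletion I R)) := by
  have hI : I.FG := I.fg_of_isNoetherianRing
  haveI := henselian_pow_map I hI N hN
  obtain ⟨E, _, _, hEt, ψ, ι, hι, happ⟩ :=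
    exists_etale_approx_gen (R := R) (A := R)
      ((I ^ N).map (algebraMap R (AdicCompletion I R))) B h
      (fun b => exists_mk_eq I hI N (h b))
  have hc : ∀ r : R, ι (algebraMap R B r) = algebraMap R E r := fun r => by
    rw [hι]
    rfl
  let ι' : B →ₐ[R] E := { ι with commutes' := hc }
  exact ⟨E, inferInstance, inferInstance, hEt, ψ, ι', happ⟩

end Adic

end Groth.Agent.H84.ArtinEt
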