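import Groth.Agent.H84.ArtinEt
import Groth.Agent.H34.HensGRing
import Groth.Agent.Lead.CompleteNoetherian

/-!
# Étale-neighbourhood Artin approximation, conditional on Popescu's theorem (helper84)
-/

set_option autoImplicit false
universe u
open TensorProduct IsLocalRing

namespace Groth.Agent.H84.ArtinEt

/-- Popescu's theorem in factorization form (the statement of S0595), as a hypothesis -/
def Popescu : Prop :=
  ∀ (R : Type u) [CommRing R] [IsNoetherianRing R] (Λ : Type u)
    [CommRing Λ] [IsNoetherianRing Λ] [Algebra R Λ] (_ : CAlg.IsRegularHom R Λ) (A : Type u)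
    [CommRing A] [Algebra R A] [Algebra.FinitePresentation R A] (f : A →ₐ[R] Λ),
    ∃ (B : Type u) (_ : CommRing B) (_ : Algebra R B), Algebra.Smooth R B ∧
      ∃ (g : A →ₐ[R] B) (h : B →ₐ[R] Λ), h.comp g = f

theorem main_local (hP : Popescu.{u}) {R : Type u} [CommRing R] [IsLocalRing R]
    (hG : CAlg.IsGRing R)
    {n m : ℕ} (F : Fin m → MvPolynomial (Fin n) R)
    (a : Fin n → AdicCompletion (IsLocalRing.maximalIdeal R) R)
    (ha : ∀ j, MvPolynomial.aeval a (F j) = 0) (N : ℕ) :
    ∃ (R' : Type u) (_ : CommRing R') (_ : Algebra R R'), Algebra.Etale R R' ∧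
      ∃ (ψ : R' →ₐ[R] AdicCompletion (IsLocalRing.maximalIdeal R) R) (m' : Ideal R'),
        m'.IsMaximal ∧
        m'.comap (algebraMap R R') = IsLocalRing.maximalIdeal R ∧
        (∀ x : R', ∃ r : R, x - algebraMap R R' r ∈ m') ∧
        (∀ x ∈ m', ψ x ∈ (IsLocalRing.maximalIdeal R).map
          (algebraMap R (AdicCompletion (IsLocalRing.maximalIdeal R) R))) ∧
        ∃ b : Fin n → R', (∀ j, MvPolynomial.aeval b (F j) = 0) ∧
          ∀ i, a i - ψ (b i) ∈ (IsLocalRing.maximalIdeal R ^ N).map
            (algebraMap R (AdicCompletion (IsLocalRing.maximalIdeal R) R)) := by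
  haveI : IsNoetherianRing R := hG.1
  have hfg : (maximalIdeal R).FG := (maximalIdeal R).fg_of_isNoetherianRing
  haveI : IsNoetherianRing (AdicCompletion (maximalIdeal R) R) :=
    Groth.Agent.Lead.isNoetherianRing_adicCompletion (maximalIdeal R) hfg
  have hreg : CAlg.IsRegularHom R (AdicCompletion (maximalIdeal R) R) :=
    Groth.Agent.H34.HensGRing.isRegularHom_cpl_of_isGRing R hG
  -- the algebra of the system
  let S : Ideal (MvPolynomial (Fin n) R) := Ideal.span (Set.range F)
  have hS : S.FG := Submodule.fg_span (Set.finite_range F)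
  haveI : Algebra.FinitePresentation R (MvPolynomial (Fin n) R ⧸ S) :=
    Algebra.FinitePresentation.quotient hS
  have hle : S ≤ RingHom.ker (MvPolynomial.aeval a :
      MvPolynomial (Fin n) R →ₐ[R] AdicCompletion (maximalIdeal R) R) := by
    apply Ideal.span_le.mpr
    rintro _ ⟨j, rfl⟩
    exact ha j
  let f : (MvPolynomial (Fin n) R ⧸ S) →ₐ[R] AdicCompletion (maximalIdeal R) R :=
    Ideal.Quotient.liftₐ S (MvPolynomial.aeval a) (fun x hx => hle hx)
  obtain ⟨B, _, _, hsm, g, h, hgf⟩ := hP R (AdicCompletion (maximalIdeal R) R) hreg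
    (MvPolynomial (Fin n) R ⧸ S) f
  haveI := hsm
  obtain ⟨E, _, _, hEt, ψ, ι, happ⟩ :=
    exists_etale_approx (maximalIdeal R) B h (N + 1) (by omega)
  -- the solution
  let φ : MvPolynomial (Fin n) R →ₐ[R] E := (ι.comp g).comp (Ideal.Quotient.mkₐ R S)
  let b : Fin n → E := fun i => φ (MvPolynomial.X i)
  have hφ : φ = MvPolynomial.aeval b := MvPolynomial.aeval_unique φ
  -- the residue map
  let χ : E →ₐ[R] R ⧸ maximalIdeal R := (AdicCompletion.evalOneₐ (maximalIdeal R)).comp ψ
  have hχsurj : Function.Surjective χ := by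
    intro y
    obtain ⟨r, rfl⟩ := Ideal.Quotient.mk_surjective y
    exact ⟨algebraMap R E r, χ.commutes r⟩
  refine ⟨E, inferInstance, inferInstance, hEt, ψ, RingHom.ker χ.toRingHom, ?_, ?_, ?_, ?_,
    b, ?_, ?_⟩
  · letI := Ideal.Quotient.field (maximalIdeal R)
    exact RingHom.ker_isMaximal_of_surjective χ.toRingHom hχsurj
  · ext r
    rw [Ideal.mem_comap, RingHom.mem_ker]
    change χ (algebraMap R E r) = 0 ↔ _
    rw [χ.commutes]
    exact Ideal.Quotient.eq_zero_iff_mem
  · intro x
    obtain ⟨r, hr⟩ := Ideal.Quotient.mk_surjective (χ x)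
    refine ⟨r, ?_⟩
    rw [RingHom.mem_ker]
    change χ (x - algebraMap R E r) = 0
    rw [map_sub, χ.commutes, ← hr]
    exact sub_self _
  · intro x hx
    rw [← AdicCompletion.ker_evalOneₐ_eq_map (maximalIdeal R) hfg]
    exact hx
  · intro j
    rw [← hφ]
    change ι (g (Ideal.Quotient.mk S (F j))) = 0
    have : Ideal.Quotient.mk S (F j) = 0 :=
      Ideal.Quotient.eq_zero_iff_mem.mpr (Ideal.subset_span ⟨j, rfl⟩)
    rw [this, map_zero, map_zero]
  · intro i
    have h1 := happ (g (Ideal.Quotient.mk S (MvPolynomial.X i)))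
    have h2 : h (g (Ideal.Quotient.mk S (MvPolynomial.X i))) = a i := by
      have := congrArg (fun θ => θ (Ideal.Quotient.mk S (MvPolynomial.X i))) hgf
      change h (g _) = f _ at this
      rw [this]
      change MvPolynomial.aeval a (MvPolynomial.X i) = a i
      exact MvPolynomial.aeval_X a i
    rw [h2] at h1
    exact Ideal.map_mono (Ideal.pow_le_pow_right (Nat.le_succ N)) h1

end Groth.Agent.H84.ArtinEt
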