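import Groth.Agent.H84.ArtinEt2
import Groth.Agent.H20.RegHomLocal

/-!
# Étale-neighbourhood Artin approximation at a prime, conditional on Popescu's theorem (helper84)
-/

set_option autoImplicit false
universe u
open TensorProduct IsLocalRing

namespace Groth.Agent.H84.ArtinEt

theorem aeval_map_algebraMap'' {R R₁ L : Type*} [CommRing R] [CommRing R₁] [Algebra R R₁]
    [CommRing L] [Algebra R₁ L] [Algebra R L] [IsScalarTower R R₁ L] {σ : Type*}
    (v : σ → L) (q : MvPolynomial σ R) :
    MvPolynomial.aeval v (MvPolynomial.map (algebraMap R R₁) q) = MvPolynomial.aeval v q := by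
  rw [MvPolynomial.aeval_def, MvPolynomial.aeval_def, MvPolynomial.eval₂_map,
    ← IsScalarTower.algebraMap_eq]

section Prime
variable {R : Type u} [CommRing R] (p : Ideal R) [p.IsPrime]

local notation "Rp" => Localization.AtPrime p
local notation "mp" => IsLocalRing.maximalIdeal (Localization.AtPrime p)
local notation "Λ" => AdicCompletion (IsLocalRing.maximalIdeal (Localization.AtPrime p))
  (Localization.AtPrime p)

set_option maxHeartbeats 1000000 in
theorem main_prime (hP : Popescu.{u}) [IsNoetherianRing R]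
    (hG : CAlg.IsGRing (Localization.AtPrime p)) {n m : ℕ}
    (F : Fin m → MvPolynomial (Fin n) R)
    (a : Fin n → AdicCompletion (IsLocalRing.maximalIdeal (Localization.AtPrime p))
      (Localization.AtPrime p))
    (ha : ∀ j, MvPolynomial.aeval a
      (MvPolynomial.map (algebraMap R (Localization.AtPrime p)) (F j)) = 0) (N : ℕ) :
    ∃ (R' : Type u) (_ : CommRing R') (_ : Algebra R R'), Algebra.Etale R R' ∧
      ∃ (ψ : R' →+* AdicCompletion (IsLocalRing.maximalIdeal (Localization.AtPrime p))
          (Localization.AtPrime p))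
        (p' : Ideal R'), p'.IsPrime ∧
        (∀ r : R, ψ (algebraMap R R' r) =
          algebraMap (Localization.AtPrime p) _ (algebraMap R (Localization.AtPrime p) r)) ∧
        p'.comap (algebraMap R R') = p ∧
        (∀ x : R', ∃ r s : R, s ∉ p ∧ algebraMap R R' s * x - algebraMap R R' r ∈ p') ∧
        (∀ x ∈ p', ψ x ∈ (IsLocalRing.maximalIdeal (Localization.AtPrime p)).map
          (algebraMap (Localization.AtPrime p)
            (AdicCompletion (IsLocalRing.maximalIdeal (Localization.AtPrime p))
              (Localization.AtPrime p)))) ∧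
        ∃ b : Fin n → R', (∀ j, MvPolynomial.aeval b (F j) = 0) ∧
          ∀ i, a i - ψ (b i) ∈ (IsLocalRing.maximalIdeal (Localization.AtPrime p) ^ N).map
            (algebraMap (Localization.AtPrime p)
              (AdicCompletion (IsLocalRing.maximalIdeal (Localization.AtPrime p))
                (Localization.AtPrime p))) := by
  classical
  haveI : IsNoetherianRing Rp := hG.1
  have hfg : (mp).FG := (mp).fg_of_isNoetherianRing
  haveI : IsNoetherianRing Λ := Groth.Agent.Lead.isNoetherianRing_adicCompletion mp hfg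
  have hregp : CAlg.IsRegularHom Rp Λ :=
    Groth.Agent.H34.HensGRing.isRegularHom_cpl_of_isGRing Rp hG
  have hreg : CAlg.IsRegularHom R Λ :=
    Groth.Agent.H20.RegHomLocal.isRegularHom_comp_localization R Rp Λ p.primeCompl hregp
  -- the algebra of the system
  let S : Ideal (MvPolynomial (Fin n) R) := Ideal.span (Set.range F)
  have hS : S.FG := Submodule.fg_span (Set.finite_range F)
  haveI : Algebra.FinitePresentation R (MvPolynomial (Fin n) R ⧸ S) :=
    Algebra.FinitePresentation.quotient hS
  have hle : S ≤ RingHom.ker (MvPolynomial.aeval a : MvPolynomial (Fin n) R →ₐ[R] Λ) := by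
    apply Ideal.span_le.mpr
    rintro _ ⟨j, rfl⟩
    change MvPolynomial.aeval a (F j) = 0
    rw [← aeval_map_algebraMap'' (R₁ := Rp) a (F j)]
    exact ha j
  let f : (MvPolynomial (Fin n) R ⧸ S) →ₐ[R] Λ :=
    Ideal.Quotient.liftₐ S (MvPolynomial.aeval a) (fun x hx => hle hx)
  obtain ⟨B, _, _, hsm, g, h, hgf⟩ := hP R Λ hreg (MvPolynomial (Fin n) R ⧸ S) f
  haveI := hsm
  -- generators of `B`
  obtain ⟨t, ht⟩ := (Algebra.FiniteType.out : (⊤ : Subalgebra R B).FG)
  let J : Ideal Λ := (mp ^ (N + 1)).map (algebraMap Rp Λ)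
  haveI : HenselianRing Λ J := henselian_pow_map mp hfg (N + 1) (by omega)
  have hρ : ∀ β : B, ∃ ρ : Rp, Ideal.Quotient.mk J (h β) =
      Ideal.Quotient.mk J (algebraMap Rp Λ ρ) := fun β => exists_mk_eq mp hfg (N + 1) (h β)
  choose ρ hρ' using hρ
  have hrs : ∀ β : B, ∃ x : R × p.primeCompl, ρ β * algebraMap R Rp x.2 = algebraMap R Rp x.1 :=
    fun β => IsLocalization.surj p.primeCompl (ρ β)
  choose rs hrs' using hrs
  let f₀ : R := ∏ β ∈ t, ((rs β).2 : R)
  have hf₀ : f₀ ∈ p.primeCompl := Submonoid.prod_mem _ (fun β _ => (rs β).2.2)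
  have hunit : IsUnit (algebraMap R Rp f₀) := IsLocalization.map_units Rp ⟨f₀, hf₀⟩
  -- the ring `A = R_f`
  letI algARp : Algebra (Localization.Away f₀) Rp := (IsLocalization.Away.lift f₀ hunit).toAlgebra
  haveI : IsScalarTower R (Localization.Away f₀) Rp := IsScalarTower.of_algebraMap_eq
    (fun r => (IsLocalization.Away.lift_eq f₀ hunit r).symm)
  -- image containment
  have hgen : ∀ b : B, ∃ α : Localization.Away f₀, Ideal.Quotient.mk J (h b) =
      Ideal.Quotient.mk J (algebraMap (Localization.Away f₀) Λ α) := by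
    intro b
    have hb : b ∈ Algebra.adjoin R (t : Set B) := by rw [ht]; trivial
    induction hb using Algebra.adjoin_induction with
    | mem β hβ =>
      have hdvd : ((rs β).2 : R) ∣ f₀ := Finset.dvd_prod_of_mem _ hβ
      have hu : IsUnit (algebraMap R (Localization.Away f₀) ((rs β).2 : R)) :=
        isUnit_of_dvd_unit ((algebraMap R (Localization.Away f₀)).map_dvd hdvd)
          (IsLocalization.Away.algebraMap_isUnit f₀)
      obtain ⟨u, hu'⟩ := hu
      refine ⟨algebraMap R (Localization.Away f₀) (rs β).1 * ↑u⁻¹, ?_⟩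
      rw [hρ' β, IsScalarTower.algebraMap_apply (Localization.Away f₀) Rp Λ]
      congr 2
      have hus : IsUnit (algebraMap R Rp ((rs β).2 : R)) :=
        IsLocalization.map_units Rp (rs β).2
      apply hus.mul_right_cancel
      rw [hrs' β, map_mul, mul_assoc, IsScalarTower.algebraMap_apply R (Localization.Away f₀) Rp ((rs β).2 : R), ← hu',
        ← map_mul, Units.inv_mul, map_one, mul_one, ← IsScalarTower.algebraMap_apply R (Localization.Away f₀) Rp]
    | algebraMap r =>
      refine ⟨algebraMap R (Localization.Away f₀) r, ?_⟩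
      rw [h.commutes, ← IsScalarTower.algebraMap_apply R (Localization.Away f₀) Λ]
    | add x y _ _ hx hy =>
      obtain ⟨α₁, h₁⟩ := hx
      obtain ⟨α₂, h₂⟩ := hy
      exact ⟨α₁ + α₂, by rw [map_add, map_add, h₁, h₂, map_add, map_add]⟩
    | mul x y _ _ hx hy =>
      obtain ⟨α₁, h₁⟩ := hx
      obtain ⟨α₂, h₂⟩ := hy
      exact ⟨α₁ * α₂, by rw [map_mul, map_mul, h₁, h₂, map_mul, map_mul]⟩
  obtain ⟨E, _, _, hEt, ψ, ι, hι, happ⟩ :=
    exists_etale_approx_gen (R := R) (A := Localization.Away f₀) J B h hgen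
  haveI := hEt
  letI algRE : Algebra R E := ((algebraMap (Localization.Away f₀) E).comp (algebraMap R (Localization.Away f₀))).toAlgebra
  haveI : IsScalarTower R (Localization.Away f₀) E := IsScalarTower.of_algebraMap_eq (fun _ => rfl)
  haveI : Algebra.Etale R E := Algebra.Etale.comp R (Localization.Away f₀) E
  -- the solution
  let φ : MvPolynomial (Fin n) R →ₐ[R] E :=
    { (ι.comp ((g : _ →+* B).comp (Ideal.Quotient.mk S))) with
      commutes' := fun r => by
        change ι (g (Ideal.Quotient.mk S (algebraMap R _ r))) = _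
        have : Ideal.Quotient.mk S (algebraMap R (MvPolynomial (Fin n) R) r) =
            algebraMap R (MvPolynomial (Fin n) R ⧸ S) r := rfl
        rw [this, g.commutes, hι]
        rfl }
  let b : Fin n → E := fun i => φ (MvPolynomial.X i)
  have hφ : φ = MvPolynomial.aeval b := MvPolynomial.aeval_unique φ
  -- the residue map
  let χ : E →+* Rp ⧸ mp := (AdicCompletion.evalOneₐ mp).toRingHom.comp ψ.toRingHom
  have hψR : ∀ r : R, ψ (algebraMap R E r) = algebraMap Rp Λ (algebraMap R Rp r) := by
    intro r
    change ψ (algebraMap (Localization.Away f₀) E (algebraMap R (Localization.Away f₀) r)) = _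
    rw [ψ.commutes, IsScalarTower.algebraMap_apply (Localization.Away f₀) Rp Λ,
      ← IsScalarTower.algebraMap_apply R (Localization.Away f₀) Rp]
  have hχR : ∀ r : R, χ (algebraMap R E r) = Ideal.Quotient.mk mp (algebraMap R Rp r) := by
    intro r
    change AdicCompletion.evalOneₐ mp (ψ (algebraMap R E r)) = _
    rw [hψR]
    exact (AdicCompletion.evalOneₐ mp).commutes _
  refine ⟨E, inferInstance, algRE, inferInstance, ψ.toRingHom, RingHom.ker χ, ?_, hψR, ?_, ?_, ?_,
    b, ?_, ?_⟩
  · exact RingHom.ker_isPrime χ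
  · ext r
    rw [Ideal.mem_comap, RingHom.mem_ker, hχR, Ideal.Quotient.eq_zero_iff_mem]
    exact IsLocalization.AtPrime.to_map_mem_maximal_iff Rp p r
  · intro x
    obtain ⟨ρx, hρx⟩ := Ideal.Quotient.mk_surjective (χ x)
    obtain ⟨⟨r, s⟩, hrs⟩ := IsLocalization.surj p.primeCompl ρx
    refine ⟨r, s, s.2, ?_⟩
    rw [RingHom.mem_ker, map_sub, map_mul, hχR, hχR, ← hρx, ← map_mul, ← map_sub]
    rw [Ideal.Quotient.eq_zero_iff_mem]
    have : algebraMap R Rp (s : R) * ρx - algebraMap R Rp r = 0 := by
      rw [mul_comm, hrs, sub_self]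
    rw [this]
    exact (mp).zero_mem
  · intro x hx
    rw [← AdicCompletion.ker_evalOneₐ_eq_map mp hfg]
    exact hx
  · intro j
    rw [← hφ]
    change ι (g (Ideal.Quotient.mk S (F j))) = 0
    have : Ideal.Quotient.mk S (F j) = 0 :=
      Ideal.Quotient.eq_zero_iff_mem.mpr (Ideal.subset_span ⟨j, rfl⟩)
    rw [this, map_zero, map_zero]
  · intro i
    have h1 := happ (g (Ideal.Quotient.mk S (MvPolynomial.X i)))
    have h2 : h (g (Ideal.Quotient.mk S (MvPolynomial.X i))) = a i := by
      have := congrArg (fun θ => θ (Ideal.Quotient.mk S (MvPolynomial.X i))) hgf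
      change h (g _) = f _ at this
      rw [this]
      change MvPolynomial.aeval a (MvPolynomial.X i) = a i
      exact MvPolynomial.aeval_X a i
    rw [h2] at h1
    exact Ideal.map_mono (Ideal.pow_le_pow_right (Nat.le_succ N)) h1

end Prime

end Groth.Agent.H84.ArtinEt
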