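import Mathlib
import Groth.Prelude.Def_BlowUp2

/-!
# (GLUEBU) for helper95's S8859: blow-ups of the affine opens glue to a blow-up (hypothesis form)

`GLUEBU_of` takes the three facts `(BCO)` (flat base change of blow-ups gives a pullback square),
`LOC` (`IsBlowUp` is local on the target, `Groth.Agent.S7894.LOC`) and `ISO` (transport along
isomorphisms of arrows, `Groth.Agent.H22.FBAFF.ISO`) as hypotheses.
-/

set_option autoImplicit false

universe u

open CategoryTheory CategoryTheory.Limits AlgebraicGeometry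

namespace Groth.Agent.H84.BUEX_GLUEBU

variable (Y : Scheme.{u}) (I : Y.IdealSheafData)

theorem comap_homOfLE {U V : Y.Opens} (hUV : U ≤ V) :
    (I.comap V.ι).comap (Y.homOfLE hUV) = I.comap U.ι := by
  rw [← Scheme.IdealSheafData.comap_comp, Scheme.homOfLE_ι]

section Glue

variable (B : Y.affineOpens → Scheme.{u}) (b : ∀ U : Y.affineOpens, B U ⟶ U.1.toScheme)
  (hb : ∀ U : Y.affineOpens, BlowUp.IsBlowUp (b U) (I.comap U.1.ι))

include hb in
theorem effCartier_aux {U V : Y.affineOpens} (hUV : U.1 ≤ V.1) :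
    BlowUp.IsEffCartierIdeal ((I.comap V.1.ι).comap (b U ≫ Y.homOfLE hUV)) := by
  rw [Scheme.IdealSheafData.comap_comp, comap_homOfLE]
  exact (hb U).1

/-- The transition maps between the chosen blow-ups. -/
noncomputable def trans {U V : Y.affineOpens} (hUV : U.1 ≤ V.1) : B U ⟶ B V :=
  ((hb V).2 (B U) (b U ≫ Y.homOfLE hUV) (effCartier_aux Y I B b hb hUV)).exists.choose

theorem trans_comp {U V : Y.affineOpens} (hUV : U.1 ≤ V.1) :
    trans Y I B b hb hUV ≫ b V = b U ≫ Y.homOfLE hUV :=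
  ((hb V).2 (B U) (b U ≫ Y.homOfLE hUV) (effCartier_aux Y I B b hb hUV)).exists.choose_spec

theorem trans_unique {U V : Y.affineOpens} (hUV : U.1 ≤ V.1) (l : B U ⟶ B V)
    (hl : l ≫ b V = b U ≫ Y.homOfLE hUV) : l = trans Y I B b hb hUV :=
  ((hb V).2 (B U) (b U ≫ Y.homOfLE hUV) (effCartier_aux Y I B b hb hUV)).unique hl
    (trans_comp Y I B b hb hUV)

/-- The functor of the chosen blow-ups. -/
noncomputable def functor : Y.affineOpens ⥤ Scheme.{u} where
  obj U := B U
  map {U V} f := trans Y I B b hb (leOfHom f : U ≤ V)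
  map_id U := by
    refine (trans_unique Y I B b hb _ (𝟙 _) ?_).symm
    rw [Category.id_comp]
    exact ((congrArg (fun t => b U ≫ t) (Y.homOfLE_rfl U.1)).trans (Category.comp_id _)).symm
  map_comp {U V W} f g := by
    refine (trans_unique Y I B b hb _ _ ?_).symm
    rw [Category.assoc, trans_comp, ← Category.assoc, trans_comp, Category.assoc,
      Scheme.homOfLE_homOfLE]

/-- The natural transformation to the cover. -/
noncomputable def natTrans :
    (functor Y I B b hb : Y.directedAffineCover.I₀ ⥤ Scheme.{u}) ⟶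
      Y.directedAffineCover.functorOfLocallyDirected where
  app U := b U
  naturality {U V} f := by
    change trans Y I B b hb (leOfHom f : U ≤ V) ≫ b V = b U ≫ Y.homOfLE (leOfHom f : U ≤ V)
    exact trans_comp Y I B b hb _

/-- The relative gluing datum. -/
noncomputable def glueData (heq : (natTrans Y I B b hb).Equifibered) :
    Scheme.Cover.RelativeGluingData Y.directedAffineCover :=
  ⟨functor Y I B b hb, natTrans Y I B b hb, heq⟩

include hb in
theorem glueData_isBlowUp (heq : (natTrans Y I B b hb).Equifibered) (U : Y.affineOpens) :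
    BlowUp.IsBlowUp ((glueData Y I B b hb heq).natTrans.app U) (I.comap U.1.ι) := hb U

end Glue

theorem GLUEBU_of
    (hBCO : ∀ {U V B B' : Scheme.{u}} (J : V.IdealSheafData) (j : U ⟶ V) [Flat j]
      (b : B ⟶ V) (_ : BlowUp.IsBlowUp b J) (b' : B' ⟶ U) (_ : BlowUp.IsBlowUp b' (J.comap j))
      (l : B' ⟶ B) (_ : l ≫ b = b' ≫ j), IsPullback l b' b j)
    (hLOC : ∀ {X Y : Scheme.{u}} (f : X ⟶ Y) (I : Y.IdealSheafData) (U : Y.affineOpens → Y.Opens)
      (_ : ⨆ i, U i = ⊤) (_ : ∀ i, BlowUp.IsBlowUp (f ∣_ U i) (I.comap (U i).ι)),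
      BlowUp.IsBlowUp f I)
    (hISO : ∀ {X X' Y Y' : Scheme.{u}} (b : X ⟶ Y) (b' : X' ⟶ Y') (eX : X' ≅ X) (eY : Y' ≅ Y)
      (_ : eX.hom ≫ b = b' ≫ eY.hom) (I : Y.IdealSheafData) (_ : BlowUp.IsBlowUp b I),
      BlowUp.IsBlowUp b' (I.comap eY.hom))
    (Y : Scheme.{u}) (I : Y.IdealSheafData)
    (h : ∀ U : Y.affineOpens, ∃ (B : Scheme.{u}) (b : B ⟶ U.1.toScheme),
      BlowUp.IsBlowUp b (I.comap U.1.ι)) :
    ∃ (X' : Scheme.{u}) (b : X' ⟶ Y), BlowUp.IsBlowUp b I := by
  choose B b hb using h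
  have heq : (natTrans Y I B b hb).Equifibered := by
    intro U V f
    have hUV : U.1 ≤ V.1 := leOfHom f
    have hb' : BlowUp.IsBlowUp (b U) ((I.comap V.1.ι).comap (Y.homOfLE hUV)) := by
      rw [comap_homOfLE]; exact hb U
    exact hBCO (I.comap V.1.ι) (Y.homOfLE hUV) (b V) (hb V) (b U) hb'
      (trans Y I B b hb hUV) (trans_comp Y I B b hb hUV)
  obtain ⟨d, hd⟩ : ∃ d : Scheme.Cover.RelativeGluingData Y.directedAffineCover,
      ∀ U : Y.affineOpens, BlowUp.IsBlowUp (d.natTrans.app U) (I.comap U.1.ι) :=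
    ⟨glueData Y I B b hb heq, glueData_isBlowUp Y I B b hb heq⟩
  refine ⟨d.glued, d.toBase, ?_⟩
  refine hLOC d.toBase I (fun U => U.1) (iSup_affineOpens_eq_top Y) (fun U => ?_)
  have h1 : IsPullback (d.natTrans.app U) (colimit.ι d.functor U) U.1.ι d.toBase :=
    d.isPullback_natTrans_ι_toBase U
  have h2 := isPullback_morphismRestrict d.toBase U.1
  let eX : (d.toBase ⁻¹ᵁ U.1).toScheme ≅ d.functor.obj U := h2.isoIsPullback _ _ h1
  have w : eX.hom ≫ d.natTrans.app U = (d.toBase ∣_ U.1) ≫ (Iso.refl _).hom := by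
    rw [Iso.refl_hom, Category.comp_id]
    exact IsPullback.isoIsPullback_hom_fst _ _ h2 h1
  have hbU : BlowUp.IsBlowUp (d.natTrans.app U) (I.comap U.1.ι) := hd U
  have h3 := hISO (d.natTrans.app U) (d.toBase ∣_ U.1) eX (Iso.refl _) w (I.comap U.1.ι) hbU
  convert h3 using 1
  exact (Scheme.IdealSheafData.comap_id _).symm

end Groth.Agent.H84.BUEX_GLUEBU
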