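import Mathlib
import Groth.Prelude.Def_BlowUp2
import Groth.Agent.H84.BUEX_GLUEBU
import Groth.Agent.H80.BUEX_BCO
import Groth.Agent.S7894
import Groth.Agent.H22.FB_AFF

/-!
# (GLUEBU) for helper95's S8859: blow-ups of the affine opens glue to a blow-up (exact form)
-/

set_option autoImplicit false

universe u

open CategoryTheory CategoryTheory.Limits AlgebraicGeometry

namespace Groth.Agent.H84.BUEX_GLUEBU

theorem GLUEBU (Y : Scheme.{u}) (I : Y.IdealSheafData)
    (h : ∀ U : Y.affineOpens, ∃ (B : Scheme.{u}) (b : B ⟶ U.1.toScheme),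
      BlowUp.IsBlowUp b (I.comap U.1.ι)) :
    ∃ (X' : Scheme.{u}) (b : X' ⟶ Y), BlowUp.IsBlowUp b I :=
  GLUEBU_of (fun J j _ b hb b' hb' l hl => Groth.Agent.H80.BUEX_BCO.BCO J j b hb b' hb' l hl)
    (fun f I U hU h => Groth.Agent.S7894.LOC f I U hU h)
    (fun b b' eX eY w I h => Groth.Agent.H22.FBAFF.ISO b b' eX eY w I h) Y I h

end Groth.Agent.H84.BUEX_GLUEBU
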