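import Mathlib
import Groth.Agent.H23.CplQuot

set_option autoImplicit false
universe u

namespace Groth.Agent.H84.CAV

open IsLocalRing

section

variable {R T S : Type u} [CommRing R] [CommRing T] [CommRing S] [IsLocalRing R] [IsLocalRing T]
  [IsLocalRing S] [IsNoetherianRing R] [IsNoetherianRing T]

local notation "Cpl[" R "]" => AdicCompletion (IsLocalRing.maximalIdeal R) R

/-- the kernel of `evalₐ n` on the completion of a Noetherian local ring is the `n`-th power of the
maximal ideal. -/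
theorem ker_evalₐ (n : ℕ) :
    RingHom.ker (AdicCompletion.evalₐ (maximalIdeal R) n).toRingHom =
      maximalIdeal Cpl[R] ^ n := by
  rw [Groth.Agent.H23.CplQuot.ker_evalₐ_eq_map (maximalIdeal R)
    (maximalIdeal R).fg_of_isNoetherianRing n, AdicCompletion.maximalIdeal_eq_map, Ideal.map_pow]

/-- a ring isomorphism of local rings maps the maximal ideal into the maximal ideal -/
theorem equiv_mem_maximalIdeal {A B : Type*} [CommRing A] [CommRing B] [IsLocalRing A]
    [IsLocalRing B] (φ : A ≃+* B) {a : A} (ha : a ∈ maximalIdeal A) : φ a ∈ maximalIdeal B := by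
  rw [mem_maximalIdeal, mem_nonunits_iff] at ha ⊢
  intro h
  apply ha
  have := h.map φ.symm
  simpa using this

theorem equiv_map_pow_le {A B : Type*} [CommRing A] [CommRing B] [IsLocalRing A]
    [IsLocalRing B] (φ : A ≃+* B) (n : ℕ) {a : A} (ha : a ∈ maximalIdeal A ^ n) :
    φ a ∈ maximalIdeal B ^ n := by
  have h1 : (maximalIdeal A).map (φ : A →+* B) ≤ maximalIdeal B := by
    rw [Ideal.map_le_iff_le_comap]
    intro x hx
    exact equiv_mem_maximalIdeal φ hx
  have h2 : (maximalIdeal A ^ n).map (φ : A →+* B) ≤ maximalIdeal B ^ n := by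
    rw [Ideal.map_pow]
    exact Ideal.pow_right_mono h1 n
  exact h2 (Ideal.mem_map_of_mem _ ha)

/-- (L1) -/
theorem equiv_algebraMap_mem (φ : Cpl[R] ≃+* Cpl[T]) {b : R} (hb : b ∈ maximalIdeal R) :
    φ (algebraMap R Cpl[R] b) ∈ (maximalIdeal T).map (algebraMap T Cpl[T]) := by
  rw [← AdicCompletion.maximalIdeal_eq_map]
  apply equiv_mem_maximalIdeal
  rw [AdicCompletion.maximalIdeal_eq_map]
  exact Ideal.mem_map_of_mem _ hb

/-- (L2) -/
theorem equiv_evalₐ_eq (φ : Cpl[R] ≃+* Cpl[T]) (n : ℕ) {z z' : Cpl[R]}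
    (h : AdicCompletion.evalₐ (maximalIdeal R) n z = AdicCompletion.evalₐ (maximalIdeal R) n z') :
    AdicCompletion.evalₐ (maximalIdeal T) n (φ z) =
      AdicCompletion.evalₐ (maximalIdeal T) n (φ z') := by
  have h1 : z - z' ∈ RingHom.ker (AdicCompletion.evalₐ (maximalIdeal R) n).toRingHom := by
    rw [RingHom.mem_ker]
    show AdicCompletion.evalₐ (maximalIdeal R) n (z - z') = 0
    rw [map_sub, h, sub_self]
  rw [ker_evalₐ] at h1
  have h2 := equiv_map_pow_le φ n h1
  rw [← ker_evalₐ, RingHom.mem_ker] at h2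
  have h3 : AdicCompletion.evalₐ (maximalIdeal T) n (φ (z - z')) = 0 := h2
  rw [map_sub, map_sub, sub_eq_zero] at h3
  exact h3

/-- (L3) descending the compatibility from level `M` to level `N ≤ M`, for arbitrary elements of
the completion. -/
theorem compat_descend (φ : Cpl[R] ≃+* Cpl[T]) (α : T →+* S) [IsLocalHom α] (β : R →+* S)
    (N M : ℕ) (hNM : N ≤ M)
    (hcompat : ∀ (b : R) (c : T),
      AdicCompletion.evalₐ (maximalIdeal T) M (φ (algebraMap R Cpl[R] b)) =
        Ideal.Quotient.mk (maximalIdeal T ^ M) c →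
      Ideal.Quotient.mk (maximalIdeal S ^ M) (β b) = Ideal.Quotient.mk (maximalIdeal S ^ M) (α c))
    (b : Cpl[R]) (cY : R) (cX : T)
    (h1 : AdicCompletion.evalₐ (maximalIdeal R) N b = Ideal.Quotient.mk (maximalIdeal R ^ N) cY)
    (h2 : AdicCompletion.evalₐ (maximalIdeal T) N (φ b) =
      Ideal.Quotient.mk (maximalIdeal T ^ N) cX) :
    Ideal.Quotient.mk (maximalIdeal S ^ N) (β cY) = Ideal.Quotient.mk (maximalIdeal S ^ N) (α cX) := by
  -- `φ (can cY)` and `φ b` agree at level `N`
  have h3 : AdicCompletion.evalₐ (maximalIdeal T) N (φ (algebraMap R Cpl[R] cY)) =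
      Ideal.Quotient.mk (maximalIdeal T ^ N) cX := by
    rw [← h2]
    apply equiv_evalₐ_eq φ N
    rw [h1]
    exact AdicCompletion.evalₐ_of _ N cY
  obtain ⟨c', hc'⟩ := Ideal.Quotient.mk_surjective
    (AdicCompletion.evalₐ (maximalIdeal T) M (φ (algebraMap R Cpl[R] cY)))
  have h4 := hcompat cY c' hc'.symm
  rw [Ideal.Quotient.eq] at h4 ⊢
  have h5 : β cY - α c' ∈ maximalIdeal S ^ N := Ideal.pow_le_pow_right hNM h4
  -- `c' ≡ cX` mod `𝔪^N`
  have h6 : c' - cX ∈ maximalIdeal T ^ N := by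
    obtain ⟨s, hs⟩ := AdicCompletion.mk_surjective (maximalIdeal T) T
      (φ (algebraMap R Cpl[R] cY))
    rw [← hs, AdicCompletion.evalₐ_mk, Ideal.Quotient.eq] at h3
    rw [← hs, AdicCompletion.evalₐ_mk, Ideal.Quotient.eq] at hc'
    have hc1 : c' - s.val M ∈ maximalIdeal T ^ N := Ideal.pow_le_pow_right hNM hc'
    have hc2 : s.val N - s.val M ∈ (maximalIdeal T ^ N • ⊤ : Ideal T) :=
      SModEq.sub_mem.mp (s.2 hNM)
    rw [smul_eq_mul, Ideal.mul_top] at hc2
    have hc3 := sub_mem hc1 hc2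
    have hc4 := add_mem hc3 h3
    have : c' - s.val M - (s.val N - s.val M) + (s.val N - cX) = c' - cX := by ring
    rwa [this] at hc4
  have h7 : α c' - α cX ∈ maximalIdeal S ^ N := by
    rw [← map_sub]
    have h8 : (maximalIdeal T ^ N).map α ≤ maximalIdeal S ^ N := by
      rw [Ideal.map_pow]
      exact Ideal.pow_right_mono (map_maximalIdeal_le α) N
    exact h8 (Ideal.mem_map_of_mem _ h6)
  have := add_mem h5 h7
  rwa [sub_add_sub_cancel] at this

end

end Groth.Agent.H84.CAV
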