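import Mathlib

/-!
# Tensor lemmas over a field, the fundamental theorem of (cocommutative) coalgebras,
and the induced coalgebra structure on a subcoalgebra
-/

set_option autoImplicit false
universe u v w

namespace Groth.Agent.H84.CMM

open scoped TensorProduct

noncomputable section

section Tensor
variable {k : Type u} [Field k] {V : Type v} [AddCommGroup V] [Module k V]
  {W : Type w} [AddCommGroup W] [Module k W]

/-- functionals of the form `f ⊗ g` separate the points of `V ⊗ W` -/
theorem tensor_eq_zero_of_forall (T : V ⊗[k] W)
    (h : ∀ (f : V →ₗ[k] k) (g : W →ₗ[k] k),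
      LinearMap.mul' k k (TensorProduct.map f g T) = 0) : T = 0 := by
  let bV := Module.Basis.ofVectorSpace k V
  let bW := Module.Basis.ofVectorSpace k W
  let bb := bV.tensorProduct bW
  have key : ∀ (T : V ⊗[k] W) (i : _) (j : _), bb.repr T (i, j) =
      LinearMap.mul' k k (TensorProduct.map (bV.coord i) (bW.coord j) T) := by
    intro T i j
    induction T using TensorProduct.induction_on with
    | zero => simp
    | tmul a c =>
      rw [Module.Basis.tensorProduct_repr_tmul_apply, TensorProduct.map_tmul,
        LinearMap.mul'_apply, Module.Basis.coord_apply, Module.Basis.coord_apply, smul_eq_mul,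
        mul_comm]
    | add x y hx hy => rw [map_add, Finsupp.add_apply, hx, hy, map_add, map_add]
  apply bb.repr.injective
  rw [map_zero]
  ext ⟨i, j⟩
  rw [key, h, Finsupp.zero_apply]

/-- contraction of the second factor -/
def ctrR (w : W →ₗ[k] k) : V ⊗[k] W →ₗ[k] V :=
  (TensorProduct.rid k V).toLinearMap ∘ₗ LinearMap.lTensor V w

/-- contraction of the first factor -/
def ctrL (w : V →ₗ[k] k) : V ⊗[k] W →ₗ[k] W :=
  (TensorProduct.lid k W).toLinearMap ∘ₗ LinearMap.rTensor W w

@[simp] theorem ctrR_tmul (w : W →ₗ[k] k) (a : V) (c : W) : ctrR w (a ⊗ₜ[k] c) = w c • a := by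
  simp [ctrR]

@[simp] theorem ctrL_tmul (w : V →ₗ[k] k) (a : V) (c : W) : ctrL w (a ⊗ₜ[k] c) = w a • c := by
  simp [ctrL]

theorem ctrL_eq_ctrR_comm (w : V →ₗ[k] k) (T : V ⊗[k] W) :
    ctrL w T = ctrR w (TensorProduct.comm k V W T) := by
  induction T using TensorProduct.induction_on with
  | zero => simp
  | tmul a c => simp
  | add x y hx hy => rw [map_add, map_add, map_add, hx, hy]

theorem ctrR_add (w w' : W →ₗ[k] k) (T : V ⊗[k] W) : ctrR (w + w') T = ctrR w T + ctrR w' T := by
  induction T using TensorProduct.induction_on with
  | zero => simp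
  | tmul a c => simp [add_smul]
  | add x y hx hy => rw [map_add, map_add, map_add, hx, hy]; abel

theorem ctrR_smul (r : k) (w : W →ₗ[k] k) (T : V ⊗[k] W) : ctrR (r • w) T = r • ctrR w T := by
  induction T using TensorProduct.induction_on with
  | zero => simp
  | tmul a c => simp [mul_smul]
  | add x y hx hy => rw [map_add, map_add, hx, hy, smul_add]

end Tensor

section TT
variable {k : Type u} [Field k] {V : Type v} [AddCommGroup V] [Module k V]

/-- a tensor all of whose contractions lie in `D` lies in `D ⊗ D` -/
theorem mem_range_map_of_ctr (D : Submodule k V) (T : V ⊗[k] V)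
    (hR : ∀ w : V →ₗ[k] k, ctrR w T ∈ D) (hL : ∀ w : V →ₗ[k] k, ctrL w T ∈ D) :
    T ∈ LinearMap.range (TensorProduct.map D.subtype D.subtype) := by
  obtain ⟨p', hp'⟩ := D.subtype.exists_leftInverse_of_injective (Submodule.ker_subtype D)
  let p : V →ₗ[k] V := D.subtype ∘ₗ p'
  let q : V →ₗ[k] V := LinearMap.id - p
  have hq : ∀ d ∈ D, q d = 0 := by
    intro d hd
    have h1 : p' (D.subtype ⟨d, hd⟩) = ⟨d, hd⟩ := LinearMap.congr_fun hp' ⟨d, hd⟩
    show d - D.subtype (p' d) = 0
    have h2 : p' d = ⟨d, hd⟩ := h1
    rw [h2]
    exact sub_self d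
  have hpq : p + q = LinearMap.id := by
    show p + (LinearMap.id - p) = LinearMap.id
    abel
  have h1 : TensorProduct.map q LinearMap.id T = 0 := by
    apply tensor_eq_zero_of_forall
    intro f g
    have : ∀ T : V ⊗[k] V, LinearMap.mul' k k (TensorProduct.map f g
        (TensorProduct.map q LinearMap.id T)) = f (q (ctrR g T)) := by
      intro T
      induction T using TensorProduct.induction_on with
      | zero => simp
      | tmul a c => simp [mul_comm]
      | add x y hx hy => simp only [map_add, hx, hy]
    rw [this, hq _ (hR g), map_zero]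
  have h2 : TensorProduct.map LinearMap.id q T = 0 := by
    apply tensor_eq_zero_of_forall
    intro f g
    have : ∀ T : V ⊗[k] V, LinearMap.mul' k k (TensorProduct.map f g
        (TensorProduct.map LinearMap.id q T)) = g (q (ctrL f T)) := by
      intro T
      induction T using TensorProduct.induction_on with
      | zero => simp
      | tmul a c => simp
      | add x y hx hy => simp only [map_add, hx, hy]
    rw [this, hq _ (hL f), map_zero]
  have h3 : TensorProduct.map p LinearMap.id T = T := by
    have : TensorProduct.map (p + q) LinearMap.id T = T := by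
      rw [hpq, TensorProduct.map_id, LinearMap.id_apply]
    rw [TensorProduct.map_add_left, LinearMap.add_apply, h1, add_zero] at this
    exact this
  have h4 : TensorProduct.map LinearMap.id p T = T := by
    have : TensorProduct.map LinearMap.id (p + q) T = T := by
      rw [hpq, TensorProduct.map_id, LinearMap.id_apply]
    rw [TensorProduct.map_add_right, LinearMap.add_apply, h2, add_zero] at this
    exact this
  refine ⟨TensorProduct.map p' p' T, ?_⟩
  rw [← LinearMap.comp_apply, ← TensorProduct.map_comp]
  show TensorProduct.map p p T = T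
  have : TensorProduct.map p p = TensorProduct.map p LinearMap.id ∘ₗ TensorProduct.map LinearMap.id p := by
    rw [← TensorProduct.map_comp, LinearMap.comp_id, LinearMap.id_comp]
  rw [this, LinearMap.comp_apply, h4, h3]

end TT

/-! ## Subcoalgebras and the fundamental theorem (cocommutative case) -/

section Fund
variable {k : Type u} [Field k] {H : Type v} [AddCommGroup H] [Module k H] [Coalgebra k H]

/-- a submodule closed under the comultiplication -/
def IsSubcoalg (D : Submodule k H) : Prop :=
  ∀ d ∈ D, CoalgebraStruct.comul (R := k) d ∈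
    LinearMap.range (TensorProduct.map D.subtype D.subtype)

/-- `u ↦ (id ⊗ u)(Δ h)` -/
def Theta (h : H) : (H →ₗ[k] k) →ₗ[k] H where
  toFun u := ctrR u (CoalgebraStruct.comul (R := k) h)
  map_add' u u' := ctrR_add u u' _
  map_smul' r u := ctrR_smul r u _

theorem Theta_apply (h : H) (u : H →ₗ[k] k) :
    Theta h u = ctrR u (CoalgebraStruct.comul (R := k) h) := rfl

/-- the `H^*`-submodule generated by `h` -/
def gen (h : H) : Submodule k H := LinearMap.range (Theta (k := k) h)

theorem mem_gen_self (h : H) : h ∈ gen (k := k) h := by
  refine ⟨CoalgebraStruct.counit (R := k), ?_⟩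
  rw [Theta_apply]
  show (TensorProduct.rid k H) (LinearMap.lTensor H (CoalgebraStruct.counit (R := k))
    (CoalgebraStruct.comul (R := k) h)) = h
  rw [Coalgebra.lTensor_counit_comul, TensorProduct.rid_tmul, one_smul]

theorem gen_finite (h : H) : FiniteDimensional k (gen (k := k) h) := by
  classical
  obtain ⟨S, hS⟩ := TensorProduct.exists_finset (R := k) (CoalgebraStruct.comul (R := k) h)
  have hle : gen (k := k) h ≤ Submodule.span k ((S.image Prod.fst : Finset H) : Set H) := by
    rintro _ ⟨u, rfl⟩
    rw [Theta_apply, hS, map_sum]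
    refine Submodule.sum_mem _ (fun i hi => ?_)
    rw [ctrR_tmul]
    exact Submodule.smul_mem _ _ (Submodule.subset_span (Finset.mem_coe.2
      (Finset.mem_image_of_mem Prod.fst hi)))
  haveI : FiniteDimensional k (Submodule.span k ((S.image Prod.fst : Finset H) : Set H)) :=
    FiniteDimensional.span_finset k _
  exact Submodule.finiteDimensional_of_le hle

/-- the convolution of two functionals -/
def cv (w u : H →ₗ[k] k) : H →ₗ[k] k :=
  LinearMap.mul' k k ∘ₗ TensorProduct.map w u ∘ₗ CoalgebraStruct.comul (R := k)

theorem ctrR_comul_ctrR (w u : H →ₗ[k] k) (h : H) :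
    ctrR w (CoalgebraStruct.comul (R := k) (ctrR u (CoalgebraStruct.comul (R := k) h))) =
      ctrR (cv w u) (CoalgebraStruct.comul (R := k) h) := by
  let F : H ⊗[k] (H ⊗[k] H) →ₗ[k] H := ctrR (LinearMap.mul' k k ∘ₗ TensorProduct.map w u)
  have hF1 : ∀ T : H ⊗[k] H, F (LinearMap.lTensor H (CoalgebraStruct.comul (R := k)) T) =
      ctrR (cv w u) T := by
    intro T
    induction T using TensorProduct.induction_on with
    | zero => simp
    | tmul a c => simp [F, cv]
    | add x y hx hy => simp only [map_add, hx, hy]
  have hF2 : ∀ (S : H ⊗[k] H) (c : H), F (TensorProduct.assoc k H H H (S ⊗ₜ[k] c)) =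
      u c • ctrR w S := by
    intro S c
    induction S using TensorProduct.induction_on with
    | zero => simp
    | tmul x y => simp [F, mul_smul]; rw [smul_comm]
    | add x y hx hy => simp only [TensorProduct.add_tmul, map_add, hx, hy, smul_add]
  have hF3 : ∀ T : H ⊗[k] H, F (TensorProduct.assoc k H H H
      (LinearMap.rTensor H (CoalgebraStruct.comul (R := k)) T)) =
      ctrR w (CoalgebraStruct.comul (R := k) (ctrR u T)) := by
    intro T
    induction T using TensorProduct.induction_on with
    | zero => simp
    | tmul a c => rw [LinearMap.rTensor_tmul, hF2, ctrR_tmul, map_smul, map_smul]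
    | add x y hx hy => simp only [map_add, hx, hy]
  rw [← hF3, Coalgebra.coassoc_apply, hF1]

theorem gen_isSubcoalg [Coalgebra.IsCocomm k H] (h : H) : IsSubcoalg (gen (k := k) h) := by
  rintro _ ⟨u, rfl⟩
  have hR : ∀ w : H →ₗ[k] k, ctrR w (CoalgebraStruct.comul (R := k) (Theta h u)) ∈
      gen (k := k) h := by
    intro w
    rw [Theta_apply, ctrR_comul_ctrR]
    exact ⟨cv w u, rfl⟩
  apply mem_range_map_of_ctr _ _ hR
  intro w
  rw [ctrL_eq_ctrR_comm, Coalgebra.comm_comul]
  exact hR w

end Fund

/-! ## The induced coalgebra structure on a subcoalgebra -/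

section Induced
variable {k : Type u} [Field k] {H : Type v} [AddCommGroup H] [Module k H] [Coalgebra k H]
  (D : Submodule k H) (hD : IsSubcoalg D)

/-- `D ⊗ D → H ⊗ H` -/
def jD : D ⊗[k] D →ₗ[k] H ⊗[k] H := TensorProduct.map D.subtype D.subtype

theorem jD_tmul (x y : D) : jD D (x ⊗ₜ[k] y) = (x : H) ⊗ₜ[k] (y : H) := rfl

theorem jD_injective : Function.Injective (jD D) :=
  TensorProduct.map_injective_of_flat_flat _ _ D.subtype_injective D.subtype_injective

/-- the comultiplication of a subcoalgebra -/
def comulD : D →ₗ[k] D ⊗[k] D :=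
  (LinearEquiv.ofInjective (jD D) (jD_injective D)).symm.toLinearMap ∘ₗ
    (CoalgebraStruct.comul (R := k) ∘ₗ D.subtype).codRestrict (LinearMap.range (jD D))
      (fun d => hD d d.2)

theorem jD_comulD (d : D) : jD D (comulD D hD d) = CoalgebraStruct.comul (R := k) (d : H) := by
  have h := (LinearEquiv.ofInjective (jD D) (jD_injective D)).apply_symm_apply
    ((CoalgebraStruct.comul (R := k) ∘ₗ D.subtype).codRestrict (LinearMap.range (jD D))
      (fun d => hD d d.2) d)
  exact congrArg Subtype.val h

/-- the induced coalgebra structure -/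
def coalgD : Coalgebra k D where
  comul := comulD D hD
  counit := CoalgebraStruct.counit (R := k) ∘ₗ D.subtype
  coassoc := by
    apply LinearMap.ext
    intro d
    let J : D ⊗[k] (D ⊗[k] D) →ₗ[k] H ⊗[k] (H ⊗[k] H) := TensorProduct.map D.subtype (jD D)
    have hJ : Function.Injective J :=
      TensorProduct.map_injective_of_flat_flat _ _ D.subtype_injective (jD_injective D)
    apply hJ
    have h1 : ∀ t : D ⊗[k] D, J (LinearMap.lTensor D (comulD D hD) t) =
        LinearMap.lTensor H (CoalgebraStruct.comul (R := k)) (jD D t) := by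
      intro t
      induction t using TensorProduct.induction_on with
      | zero => simp
      | tmul x y =>
        rw [LinearMap.lTensor_tmul, jD_tmul, LinearMap.lTensor_tmul]
        show (x : H) ⊗ₜ[k] jD D (comulD D hD y) = _
        rw [jD_comulD]
      | add x y hx hy => simp only [map_add, hx, hy]
    have h2 : ∀ (r : D ⊗[k] D) (y : D), J (TensorProduct.assoc k D D D (r ⊗ₜ[k] y)) =
        TensorProduct.assoc k H H H (jD D r ⊗ₜ[k] (y : H)) := by
      intro r y
      induction r using TensorProduct.induction_on with
      | zero => simp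
      | tmul a c => rfl
      | add a c ha hc => simp only [TensorProduct.add_tmul, map_add, ha, hc]
    have h3 : ∀ t : D ⊗[k] D, J (TensorProduct.assoc k D D D
        (LinearMap.rTensor D (comulD D hD) t)) =
        TensorProduct.assoc k H H H
          (LinearMap.rTensor H (CoalgebraStruct.comul (R := k)) (jD D t)) := by
      intro t
      induction t using TensorProduct.induction_on with
      | zero => simp
      | tmul x y =>
        rw [LinearMap.rTensor_tmul, h2, jD_comulD, jD_tmul, LinearMap.rTensor_tmul]
      | add x y hx hy => simp only [map_add, hx, hy]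
    show J (TensorProduct.assoc k D D D (LinearMap.rTensor D (comulD D hD) (comulD D hD d))) =
      J (LinearMap.lTensor D (comulD D hD) (comulD D hD d))
    rw [h1, h3, jD_comulD, Coalgebra.coassoc_apply]
  rTensor_counit_comp_comul := by
    apply LinearMap.ext
    intro d
    let J : k ⊗[k] D →ₗ[k] k ⊗[k] H := TensorProduct.map LinearMap.id D.subtype
    have hJ : Function.Injective J :=
      TensorProduct.map_injective_of_flat_flat _ _ (fun _ _ h => h) D.subtype_injective
    apply hJ
    have h1 : ∀ t : D ⊗[k] D, J (LinearMap.rTensor D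
        (CoalgebraStruct.counit (R := k) ∘ₗ D.subtype) t) =
        LinearMap.rTensor H (CoalgebraStruct.counit (R := k)) (jD D t) := by
      intro t
      induction t using TensorProduct.induction_on with
      | zero => simp
      | tmul x y => rfl
      | add x y hx hy => simp only [map_add, hx, hy]
    show J (LinearMap.rTensor D (CoalgebraStruct.counit (R := k) ∘ₗ D.subtype)
      (comulD D hD d)) = J ((1 : k) ⊗ₜ[k] d)
    rw [h1, jD_comulD, Coalgebra.rTensor_counit_comul]
    rfl
  lTensor_counit_comp_comul := by
    apply LinearMap.ext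
    intro d
    let J : D ⊗[k] k →ₗ[k] H ⊗[k] k := TensorProduct.map D.subtype LinearMap.id
    have hJ : Function.Injective J :=
      TensorProduct.map_injective_of_flat_flat _ _ D.subtype_injective (fun _ _ h => h)
    apply hJ
    have h1 : ∀ t : D ⊗[k] D, J (LinearMap.lTensor D
        (CoalgebraStruct.counit (R := k) ∘ₗ D.subtype) t) =
        LinearMap.lTensor H (CoalgebraStruct.counit (R := k)) (jD D t) := by
      intro t
      induction t using TensorProduct.induction_on with
      | zero => simp
      | tmul x y => rfl
      | add x y hx hy => simp only [map_add, hx, hy]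
    show J (LinearMap.lTensor D (CoalgebraStruct.counit (R := k) ∘ₗ D.subtype)
      (comulD D hD d)) = J (d ⊗ₜ[k] (1 : k))
    rw [h1, jD_comulD, Coalgebra.lTensor_counit_comul]
    rfl

theorem coalgD_comul (d : D) :
    TensorProduct.map D.subtype D.subtype
      ((coalgD D hD).comul d) = CoalgebraStruct.comul (R := k) (d : H) := jD_comulD D hD d

theorem coalgD_counit (d : D) :
    (coalgD D hD).counit d = CoalgebraStruct.counit (R := k) (d : H) := rfl

theorem coalgD_isCocomm [Coalgebra.IsCocomm k H] :
    @Coalgebra.IsCocomm k D _ _ _ (coalgD D hD) := by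
  letI := coalgD D hD
  refine ⟨?_⟩
  apply LinearMap.ext
  intro d
  apply jD_injective D
  have h1 : ∀ t : D ⊗[k] D, jD D (TensorProduct.comm k D D t) =
      TensorProduct.comm k H H (jD D t) := by
    intro t
    induction t using TensorProduct.induction_on with
    | zero => simp
    | tmul x y => rfl
    | add x y hx hy => simp only [map_add, hx, hy]
  show jD D (TensorProduct.comm k D D (comulD D hD d)) = jD D (comulD D hD d)
  rw [h1, jD_comulD, Coalgebra.comm_comul]

/-- the inclusion as a coalgebra homomorphism -/
def inclD : @CoalgHom k D H _ _ _ _ _ (coalgD D hD).toCoalgebraStruct _ :=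
  letI := coalgD D hD
  { D.subtype with
    counit_comp := rfl
    map_comp_comul := by
      apply LinearMap.ext
      intro d
      exact jD_comulD D hD d }

theorem inclD_apply (d : D) : (inclD D hD) d = (d : H) := rfl

end Induced

end

end Groth.Agent.H84.CMM
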