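import Mathlib
import Groth.Prelude.Def_EtModW
import Groth.Prelude.Def_EtModD2
import Groth.Prelude.Def_ARSys
import Groth.Prelude.Def_SixF2
import Groth.Agent.H45.ExactFunctorD

/-!
# (HD) for helper38's S6689: cohomology sheaves of the pullback of a complex with
constructible cohomology are constructible (formal part).
-/

set_option autoImplicit false

universe u

open CategoryTheory CategoryTheory.Limits AlgebraicGeometry Opposite

attribute [local instance] HasDerivedCategory.standard

namespace Groth.Agent.H84.CM_HD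

theorem s6689_of (Λ : Type (u + 1)) [CommRing Λ] {X Y : Scheme.{u}} (f : X ⟶ Y)
    [PreservesFiniteLimits (EtModW.pull Λ f)]
    (hpc : ∀ E : EtModW.Mod Λ Y, EtModW.IsConstructible Λ E →
      EtModW.IsConstructible Λ ((EtModW.pull Λ f).obj E))
    (hiso : ∀ E E' : EtModW.Mod Λ X, (E ≅ E') → EtModW.IsConstructible Λ E →
      EtModW.IsConstructible Λ E')
    (K : EtModD.D Λ Y) (hK : ∀ i : ℤ, EtModW.IsConstructible Λ (EtModD.HD K i)) (i : ℤ) :
    EtModW.IsConstructible Λ (EtModD.HD ((EtModW.pull Λ f).mapDerivedCategory.obj K) i) := by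
  obtain ⟨e⟩ := Groth.Agent.H45.nonempty_homology_mapDerivedCategory_iso (EtModW.pull Λ f) K i
  exact hiso _ _ e.symm (hpc _ (hK i))

end Groth.Agent.H84.CM_HD
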