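import Mathlib
import Groth.Prelude.Def_Wider
import Groth.Prelude.Def_CAlg
import Groth.Prelude.Def_EGA4b

/-!
# (T1) for helper29 (S18719): `A → End_A(K)` is bijective, from the truncation triangle
-/

set_option autoImplicit false
universe u
open CategoryTheory CategoryTheory.Limits DerivedCategory Pretriangulated

attribute [local instance] HasDerivedCategory.standard

namespace Groth.Agent.H84.DKS_T1

theorem toEnd_bijective_of_triangle (A : Type u) [CommRing A] (ω : Dual.D A)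
    (he : Function.Bijective (fun a : A => a • 𝟙 ω))
    (K : Type u) [AddCommGroup K] [Module A K] (n : ℤ) (C : Dual.D A)
    (t : (Dual.inD A K)⟦n⟧ ⟶ ω) (g : ω ⟶ C) (h : C ⟶ ((Dual.inD A K)⟦n⟧)⟦(1 : ℤ)⟧)
    (hT : Triangle.mk t g h ∈ distTriang (Dual.D A)) (hC : C.IsGE (-n + 1))
    (hv0 : Subsingleton (C ⟶ ω⟦(0 : ℤ)⟧)) (hv1 : Subsingleton (C ⟶ ω⟦(1 : ℤ)⟧)) :
    Function.Bijective (fun r : A => r • (LinearMap.id : K →ₗ[A] K)) := by
  haveI hKnLE : DerivedCategory.TStructure.t.IsLE ((Dual.inD A K)⟦n⟧) (-n) :=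
    DerivedCategory.TStructure.t.isLE_shift (Dual.inD A K) 0 n (-n) (by omega)
  haveI hKn1LE : DerivedCategory.TStructure.t.IsLE (((Dual.inD A K)⟦n⟧)⟦(1 : ℤ)⟧) (-n - 1) :=
    DerivedCategory.TStructure.t.isLE_shift ((Dual.inD A K)⟦n⟧) (-n) 1 (-n - 1) (by omega)
  have h1 : ∀ φ : (Dual.inD A K)⟦n⟧ ⟶ C, φ = 0 := fun φ =>
    DerivedCategory.TStructure.t.zero φ (-n) (-n + 1) (by omega)
  have h1' : ∀ φ : ((Dual.inD A K)⟦n⟧)⟦(1 : ℤ)⟧ ⟶ C, φ = 0 := fun φ =>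
    DerivedCategory.TStructure.t.zero φ (-n - 1) (-n + 1) (by omega)
  -- (b) injectivity of `t ≫ -` on `End ω`
  have hb_inj : ∀ v : ω ⟶ ω, t ≫ v = 0 → v = 0 := by
    intro v hv
    obtain ⟨w, hw⟩ := Triangle.yoneda_exact₂ _ hT v hv
    have hw0 : w = 0 := by
      let e0 : ω⟦(0 : ℤ)⟧ ≅ ω := (shiftFunctorZero (Dual.D A) ℤ).app ω
      have h0 : w ≫ e0.inv = 0 := hv0.elim _ _
      calc w = (w ≫ e0.inv) ≫ e0.hom := by simp
        _ = 0 := by rw [h0, zero_comp]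
    rw [hw, hw0]
    exact comp_zero
  -- (b) surjectivity
  have hb_surj : ∀ u : (Dual.inD A K)⟦n⟧ ⟶ ω, ∃ v : ω ⟶ ω, t ≫ v = u := by
    intro u
    have hT2 := rot_of_distTriang _ (rot_of_distTriang _ hT)
    have hz : h ≫ u⟦(1 : ℤ)⟧' = 0 := hv1.elim _ _
    obtain ⟨G, hG⟩ : ∃ G : ω⟦(1 : ℤ)⟧ ⟶ ω⟦(1 : ℤ)⟧, u⟦(1 : ℤ)⟧' = (-t⟦(1 : ℤ)⟧') ≫ G :=
      Triangle.yoneda_exact₂ _ hT2 (u⟦(1 : ℤ)⟧') hz
    obtain ⟨v, rfl⟩ := (shiftFunctor (Dual.D A) (1 : ℤ)).map_surjective G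
    refine ⟨-v, ?_⟩
    apply (shiftFunctor (Dual.D A) (1 : ℤ)).map_injective
    refine Eq.trans ?_ hG.symm
    rw [CategoryTheory.Functor.map_comp, CategoryTheory.Functor.map_neg, Preadditive.comp_neg,
      Preadditive.neg_comp]
  -- (a) injectivity of `- ≫ t` on `End Kn`
  have ha_inj : ∀ φ : (Dual.inD A K)⟦n⟧ ⟶ (Dual.inD A K)⟦n⟧, φ ≫ t = 0 → φ = 0 := by
    intro φ hφ
    have hf : φ⟦(1 : ℤ)⟧' ≫ t⟦(1 : ℤ)⟧' = 0 := by
      rw [← CategoryTheory.Functor.map_comp, hφ, CategoryTheory.Functor.map_zero]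
    obtain ⟨ψ, hψ⟩ := Triangle.coyoneda_exact₁ _ hT (φ⟦(1 : ℤ)⟧') hf
    have hψ0 : ψ = 0 := h1' ψ
    apply (shiftFunctor (Dual.D A) (1 : ℤ)).map_injective
    refine hψ.trans ?_
    rw [hψ0, CategoryTheory.Functor.map_zero]
    exact zero_comp
  -- (a) surjectivity
  have ha_surj : ∀ u : (Dual.inD A K)⟦n⟧ ⟶ ω,
      ∃ φ : (Dual.inD A K)⟦n⟧ ⟶ (Dual.inD A K)⟦n⟧, φ ≫ t = u := by
    intro u
    obtain ⟨φ, hφ⟩ := Triangle.coyoneda_exact₂ _ hT u (h1 _)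
    exact ⟨φ, hφ.symm⟩
  -- scalars commute with `t`
  have hsc : ∀ a : A, (a • 𝟙 ((Dual.inD A K)⟦n⟧)) ≫ t = t ≫ (a • 𝟙 ω) := by
    intro a
    rw [Linear.smul_comp, Linear.comp_smul, Category.id_comp, Category.comp_id]
  -- `A → End Kn` is bijective
  have hKn : Function.Bijective (fun a : A => a • 𝟙 ((Dual.inD A K)⟦n⟧)) := by
    constructor
    · intro a b hab
      have hab' : a • 𝟙 ((Dual.inD A K)⟦n⟧) = b • 𝟙 ((Dual.inD A K)⟦n⟧) := hab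
      apply he.1
      show a • 𝟙 ω = b • 𝟙 ω
      have h2 : t ≫ (a • 𝟙 ω - b • 𝟙 ω) = 0 := by
        rw [Preadditive.comp_sub, ← hsc, ← hsc, hab', sub_self]
      exact sub_eq_zero.mp (hb_inj _ h2)
    · intro φ
      obtain ⟨v, hv⟩ := hb_surj (φ ≫ t)
      obtain ⟨a, ha⟩ := he.2 v
      refine ⟨a, ?_⟩
      show a • 𝟙 ((Dual.inD A K)⟦n⟧) = φ
      have h2 : (a • 𝟙 ((Dual.inD A K)⟦n⟧) - φ) ≫ t = 0 := by
        have ha' : a • 𝟙 ω = v := ha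
        rw [Preadditive.sub_comp, hsc, ha', hv, sub_self]
      exact sub_eq_zero.mp (ha_inj _ h2)
  -- transfer to `K`
  let S : ModuleCat.{u} A ⥤ Dual.D A :=
    DerivedCategory.singleFunctor (ModuleCat.{u} A) 0 ⋙ shiftFunctor (Dual.D A) n
  have hS : ∀ r : A, r • 𝟙 ((Dual.inD A K)⟦n⟧) = S.map (r • 𝟙 (ModuleCat.of A K)) := by
    intro r
    show r • 𝟙 ((Dual.inD A K)⟦n⟧) = (shiftFunctor (Dual.D A) n).map
      ((DerivedCategory.singleFunctor (ModuleCat.{u} A) 0).map (r • 𝟙 (ModuleCat.of A K)))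
    rw [CategoryTheory.Functor.map_smul, CategoryTheory.Functor.map_id,
      CategoryTheory.Functor.map_smul, CategoryTheory.Functor.map_id]
  have hid : ∀ r : A, (r • 𝟙 (ModuleCat.of A K)) =
      ModuleCat.ofHom (r • (LinearMap.id : K →ₗ[A] K)) := by
    intro r
    apply ModuleCat.hom_ext
    rfl
  constructor
  · intro r s hrs
    have hrs' : r • (LinearMap.id : K →ₗ[A] K) = s • (LinearMap.id : K →ₗ[A] K) := hrs
    apply hKn.1
    show r • 𝟙 ((Dual.inD A K)⟦n⟧) = s • 𝟙 ((Dual.inD A K)⟦n⟧)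
    rw [hS, hS, hid, hid, hrs']
  · intro ψ
    obtain ⟨a, ha⟩ := hKn.2 (S.map (ModuleCat.ofHom ψ))
    refine ⟨a, ?_⟩
    have ha' : a • 𝟙 ((Dual.inD A K)⟦n⟧) = S.map (ModuleCat.ofHom ψ) := ha
    rw [hS] at ha'
    have h3 := S.map_injective ha'
    rw [hid] at h3
    have h4 := congrArg ModuleCat.Hom.hom h3
    exact h4

end Groth.Agent.H84.DKS_T1
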