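import Mathlib
import Groth.Prelude.Def_Wider
import Groth.Prelude.Def_CAlg
import Groth.Prelude.Def_EGA4b

/-!
# (T2) for helper29 (S18719): `Ext¹(K, K) = 0` from the truncation triangle
-/

set_option autoImplicit false
universe u
open CategoryTheory CategoryTheory.Limits DerivedCategory Pretriangulated

attribute [local instance] HasDerivedCategory.standard

namespace Groth.Agent.H84.DKS_T2

theorem ext_one_subsingleton_of_triangle (A : Type u) [CommRing A] (ω : Dual.D A)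
    (hs : Subsingleton (ω ⟶ ω⟦(1 : ℤ)⟧)) (K : Type u) [AddCommGroup K] [Module A K] (n : ℤ)
    (C : Dual.D A) (t : (Dual.inD A K)⟦n⟧ ⟶ ω) (g : ω ⟶ C)
    (h : C ⟶ ((Dual.inD A K)⟦n⟧)⟦(1 : ℤ)⟧)
    (hT : Triangle.mk t g h ∈ distTriang (Dual.D A)) (hC : C.IsGE (-n + 1))
    (hv2 : Subsingleton (C ⟶ ω⟦(2 : ℤ)⟧)) :
    Subsingleton (Dual.inD A K ⟶ (Dual.inD A K)⟦(1 : ℤ)⟧) := by
  haveI hKnLE : DerivedCategory.TStructure.t.IsLE ((Dual.inD A K)⟦n⟧) (-n) :=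
    DerivedCategory.TStructure.t.isLE_shift (Dual.inD A K) 0 n (-n) (by omega)
  -- step 1: `Hom(Kn, C) = 0`
  have h1 : ∀ φ : (Dual.inD A K)⟦n⟧ ⟶ C, φ = 0 := fun φ =>
    DerivedCategory.TStructure.t.zero φ (-n) (-n + 1) (by omega)
  -- step 3: `Hom(Kn, ω⟦1⟧) = 0`
  have h3 : ∀ u : (Dual.inD A K)⟦n⟧ ⟶ ω⟦(1 : ℤ)⟧, u = 0 := by
    intro u
    have hT2 := rot_of_distTriang _ (rot_of_distTriang _ hT)
    have hz : h ≫ u⟦(1 : ℤ)⟧' = 0 := by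
      let e : (ω⟦(1 : ℤ)⟧)⟦(1 : ℤ)⟧ ≅ ω⟦(2 : ℤ)⟧ :=
        ((shiftFunctorAdd' (Dual.D A) (1 : ℤ) 1 2 (by norm_num)).app ω).symm
      have h0 : (h ≫ u⟦(1 : ℤ)⟧') ≫ e.hom = 0 := hv2.elim _ _
      calc h ≫ u⟦(1 : ℤ)⟧' = ((h ≫ u⟦(1 : ℤ)⟧') ≫ e.hom) ≫ e.inv := by simp
        _ = 0 := by rw [h0, zero_comp]
    obtain ⟨G, hG⟩ := Triangle.yoneda_exact₂ _ hT2 (u⟦(1 : ℤ)⟧') hz
    obtain ⟨v, rfl⟩ := (shiftFunctor (Dual.D A) (1 : ℤ)).map_surjective G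
    have hv : v = 0 := hs.elim _ _
    rw [hv] at hG
    apply (shiftFunctor (Dual.D A) (1 : ℤ)).map_injective
    refine hG.trans ?_
    simp only [Functor.map_zero]
    exact comp_zero
  -- step 2: `Hom(Kn, Kn⟦1⟧) = 0`
  have h2 : ∀ f : (Dual.inD A K)⟦n⟧ ⟶ ((Dual.inD A K)⟦n⟧)⟦(1 : ℤ)⟧, f = 0 := by
    intro f
    have hf : f ≫ t⟦(1 : ℤ)⟧' = 0 := h3 _
    obtain ⟨φ, hφ⟩ := Triangle.coyoneda_exact₁ _ hT f hf
    have hφ0 : φ = 0 := h1 φ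
    rw [hφ, hφ0]
    exact zero_comp
  -- unshift
  constructor
  intro a b
  apply (shiftFunctor (Dual.D A) n).map_injective
  let e : ((Dual.inD A K)⟦(1 : ℤ)⟧)⟦n⟧ ≅ ((Dual.inD A K)⟦n⟧)⟦(1 : ℤ)⟧ :=
    shiftComm (Dual.inD A K) 1 n
  have ha := h2 ((a⟦n⟧') ≫ e.hom)
  have hb := h2 ((b⟦n⟧') ≫ e.hom)
  calc a⟦n⟧' = (a⟦n⟧' ≫ e.hom) ≫ e.inv := by simp
    _ = (b⟦n⟧' ≫ e.hom) ≫ e.inv := by rw [ha, hb]
    _ = b⟦n⟧' := by simp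

end Groth.Agent.H84.DKS_T2
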