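import Mathlib

set_option autoImplicit false
universe u
open CategoryTheory CategoryTheory.Limits AlgebraicGeometry

namespace Groth.Agent.H84.EF_FP2

/-- The closed subscheme of an affine scheme cut out by a finitely generated ideal is locally of
finite presentation over it. -/
theorem lfp_subschemeι_ofIdealTop {X : Scheme.{u}} [IsAffine X] (I : Ideal Γ(X, ⊤)) (hI : I.FG) :
    LocallyOfFinitePresentation (Scheme.IdealSheafData.ofIdealTop I).subschemeι := by
  set c := Scheme.IdealSheafData.ofIdealTop I with hc
  haveI : IsAffine c.subscheme := isAffine_of_isAffineHom c.subschemeι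
  rw [HasRingHomProperty.iff_of_isAffine (P := @LocallyOfFinitePresentation)]
  have hsurj : Function.Surjective (c.subschemeι.appTop).hom :=
    c.subschemeι_app_surjective ⟨⊤, isAffineOpen_top X⟩
  have hker : RingHom.ker (c.subschemeι.appTop).hom = I := by
    have h1 := c.ker_subschemeι_app ⟨⊤, isAffineOpen_top X⟩
    have h2 : c.ideal ⟨⊤, isAffineOpen_top X⟩ = I := by
      simp [hc]
    exact h1.trans h2
  exact RingHom.FinitePresentation.of_surjective _ hsurj (hker ▸ hI)

end Groth.Agent.H84.EF_FP2
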