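import Mathlib

set_option autoImplicit false
universe u
open CategoryTheory CategoryTheory.Limits AlgebraicGeometry

namespace Groth.Agent.H84.EF_FP4

set_option backward.isDefEq.respectTransparency.types false in
/-- Local finite presentation of a closed subscheme can be checked after an fpqc base change over
each member of an open cover. -/
theorem lfp_of_cover {S : Scheme.{u}} (c : S.IdealSheafData) {ι : Type u} (U : ι → S.Opens)
    (hcov : ∀ s : S, ∃ i, s ∈ U i) (S' : ι → Scheme.{u}) (g : ∀ i, S' i ⟶ (U i : Scheme.{u}))
    (hfl : ∀ i, Flat (g i)) (hsurj : ∀ i, Surjective (g i)) (hqc : ∀ i, QuasiCompact (g i))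
    (h : ∀ i, LocallyOfFinitePresentation (c.comap (g i ≫ (U i).ι)).subschemeι) :
    LocallyOfFinitePresentation c.subschemeι := by
  have hU : iSup U = ⊤ := by
    refine eq_top_iff.mpr fun s _ => ?_
    obtain ⟨i, hi⟩ := hcov s
    exact TopologicalSpace.Opens.mem_iSup.mpr ⟨i, hi⟩
  refine IsZariskiLocalAtTarget.of_iSup_eq_top (P := @LocallyOfFinitePresentation) U hU fun i => ?_
  set f := c.subschemeι with hf
  have h1 := isPullback_morphismRestrict f (U i)
  have h2 := IsPullback.of_hasPullback (g i) (f ∣_ U i)
  have h3 := (h2.flip.paste_horiz h1.flip).flip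
  -- the first projection of the big square is locally of finite presentation
  have hk : LocallyOfFinitePresentation (pullback.fst (g i ≫ (U i).ι) f) := by
    have := c.comapIso_inv_subschemeι (g i ≫ (U i).ι)
    rw [← this]
    haveI := h i
    infer_instance
  have hfst : LocallyOfFinitePresentation (pullback.fst (g i) (f ∣_ U i)) := by
    have e := h3.isoPullback_hom_fst
    rw [← e]
    infer_instance
  exact MorphismProperty.of_isPullback_of_descendsAlong (P := @LocallyOfFinitePresentation)
    (Q := @Surjective ⊓ @Flat ⊓ @QuasiCompact) h2 ⟨⟨hsurj i, hfl i⟩, hqc i⟩ hfst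

end Groth.Agent.H84.EF_FP4
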