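import Mathlib
import Groth.Agent.H49.IdealDescent

set_option autoImplicit false
universe u
open CategoryTheory CategoryTheory.Limits AlgebraicGeometry

namespace Groth.Agent.H84.EF_L2

/-- An ideal sheaf contained in the kernels of `p i ≫ g` for a jointly surjective flat family `p i`
is contained in the kernel of `g`. -/
theorem le_ker_of_flat_cover {ι : Type*} {X Y : Scheme.{u}} {W : ι → Scheme.{u}} (p : ∀ i, W i ⟶ X)
    (hfl : ∀ i, Flat (p i)) (hsurj : ∀ x : X, ∃ i, ∃ w : W i, p i w = x) (g : X ⟶ Y)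
    (c : Y.IdealSheafData) (h : ∀ i, c ≤ (p i ≫ g).ker) : c ≤ g.ker := by
  refine Scheme.IdealSheafData.le_ofIdeals_iff.mpr fun U s hs => ?_
  rw [RingHom.mem_ker]
  set y := (g.app U).hom s with hy
  have hi : ∀ i, ((p i).app (g ⁻¹ᵁ U)).hom y = 0 := by
    intro i
    have h1 := (Scheme.Hom.ideal_ker_le (p i ≫ g) U) (h i U hs)
    rw [RingHom.mem_ker, Scheme.Hom.comp_app (p i) g U] at h1
    exact h1
  apply X.IsSheaf.section_ext
  intro x hx
  obtain ⟨V, hV, hxV, hVU⟩ :=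
    TopologicalSpace.Opens.isBasis_iff_nbhd.mp X.isBasis_affineOpens (U := g ⁻¹ᵁ U.1) hx
  have hV' : IsAffineOpen V := hV
  refine ⟨V, hVU, hxV, ?_⟩
  rw [map_zero]
  set t := (X.presheaf.map (homOfLE hVU).op).hom y with ht
  have : t ∈ (⊥ : Ideal Γ(X, V)) := by
    apply Groth.Agent.H49.IdealDescent.mem_of_forall_point hV' ⊥ t
    intro y' hy'
    obtain ⟨i, w, hw⟩ := hsurj y'
    have hwV : w ∈ (p i) ⁻¹ᵁ V := by
      change p i w ∈ V
      rw [hw]; exact hy'
    obtain ⟨W', hW', hwW', hW'V⟩ :=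
      TopologicalSpace.Opens.isBasis_iff_nbhd.mp (W i).isBasis_affineOpens hwV
    have hW'a : IsAffineOpen W' := hW'
    refine ⟨W i, p i, W', hW'a, hW'V, w, hwW', hw, ?_, ?_⟩
    · exact HasRingHomProperty.appLE (P := @Flat) (p i) (hfl i) ⟨V, hV'⟩ ⟨W', hW'a⟩ hW'V
    · rw [Ideal.map_bot, Ideal.mem_bot, ht, ← RingHom.comp_apply, ← CommRingCat.hom_comp,
        Scheme.Hom.map_appLE, Scheme.Hom.appLE, CommRingCat.hom_comp, RingHom.comp_apply, hi i,
        map_zero]
  exact (Ideal.mem_bot.mp this)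

end Groth.Agent.H84.EF_L2
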