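import Groth.Agent.H5.ExDefs
import Groth.Agent.H5.KerCE

/-!
# (D) for helper5's S0829: `Φ_{n+1} → P_{n+1} → P_n` is a monomorphism (Artin–Rees data)
-/

set_option autoImplicit false

universe u

open CategoryTheory CategoryTheory.Limits AlgebraicGeometry Opposite
open Groth.Agent.S9528 Groth.Agent.H5.Ker Groth.Agent.H5.Ex Groth.Agent.H5.KerCE

namespace Groth.Agent.H84.Ex_D

variable {A : Type u} [CommRing A] {X : Scheme.{u}} [X.Over (Spec (CommRingCat.of A))]
  (I : Ideal A)

/-- `KilledBy` passes to epimorphic images. -/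
theorem killedBy_of_epi {L : Ideal A} {M N : X.Modules} (f : M ⟶ N) [Epi f]
    (h : Formal.KilledBy L M) : Formal.KilledBy L N := by
  intro a ha
  rw [← cancel_epi f, ← Groth.Agent.S0832.smulMod_naturality, h a ha, zero_comp, comp_zero]

theorem mono_of_arData {G : X.Modules} {F : ℕᵒᵖ ⥤ X.Modules}
    (α : F ⟶ Formal.completion I G) {c c' : ℕ} (D : ARData I α c c') {t : ℕ}
    (hker : ∀ n, Formal.KilledBy (I ^ t) (kernel (α.app (op n)))) (s n : ℕ) (hs : c ≤ s)
    (hn : t + c' ≤ n + 1) : Mono (Φι I α s (n + 1) ≫ tP I α (Nat.le_succ n)) := by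
  refine Preadditive.mono_of_cancel_zero _ (fun {T} k hk => ?_)
  -- the pullback of `k` along the epi `Φπ`
  let v : pullback k (Φπ I α s (n + 1)) ⟶ T := pullback.fst _ _
  let u : pullback k (Φπ I α s (n + 1)) ⟶ P I α (n + 1 + s) := pullback.snd _ _
  haveI : Epi v := Abelian.epi_pullback_of_epi_g k (Φπ I α s (n + 1))
  have hvu : v ≫ k = u ≫ Φπ I α s (n + 1) := pullback.condition
  -- `u ≫ tP ≫ tP = 0`
  have hu0 : u ≫ tP I α (Nat.le_add_right (n + 1) s) ≫ tP I α (Nat.le_succ n) = 0 := by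
    rw [← Φπ_ι, Category.assoc, ← Category.assoc u, ← hvu, Category.assoc, hk, comp_zero]
  -- second component vanishes
  have hsnd : u ≫ sndP I α (n + 1 + s) = 0 := by
    rw [← tP_snd I α (Nat.le_add_right (n + 1) s), ← tP_snd I α (Nat.le_succ n),
      ← Category.assoc (tP I α (Nat.le_add_right (n + 1) s)), ← Category.assoc u, hu0, zero_comp]
  have hfst0 : (u ≫ fstP I α (n + 1 + s)) ≫ α.app (op (n + 1 + s)) = 0 := by
    rw [Category.assoc, condP, ← Category.assoc, hsnd, zero_comp]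
  let ℓ : pullback k (Φπ I α s (n + 1)) ⟶ kernel (α.app (op (n + 1 + s))) :=
    kernel.lift _ (u ≫ fstP I α (n + 1 + s)) hfst0
  have hℓ : ℓ ≫ kernel.ι _ = u ≫ fstP I α (n + 1 + s) := kernel.lift_ι _ _ _
  have hcs : n + 1 + c ≤ n + 1 + s := Nat.add_le_add_left hs (n + 1)
  -- the first component is `ℓ ≫ ψ`
  have hfst : (u ≫ tP I α (Nat.le_add_right (n + 1) s)) ≫ fstP I α (n + 1) =
      ℓ ≫ ψ α (Nat.le_add_right (n + 1) s) := by
    rw [Category.assoc, tP_fst, ← Category.assoc, ← hℓ, Category.assoc]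
    rfl
  -- factor through the image `E`
  let ψc := ψ α (Nat.le_add_right (n + 1) c)
  let e : pullback k (Φπ I α s (n + 1)) ⟶ Abelian.image ψc :=
    ℓ ≫ kN α hcs ≫ Abelian.factorThruImage ψc
  have heι : e ≫ Abelian.image.ι ψc = ℓ ≫ ψ α (Nat.le_add_right (n + 1) s) := by
    change (ℓ ≫ kN α hcs ≫ Abelian.factorThruImage ψc) ≫ Abelian.image.ι ψc = _
    rw [Category.assoc, Category.assoc, Abelian.image.fac]
    change ℓ ≫ kN α hcs ≫ ψ α (Nat.le_add_right (n + 1) c) = _
    rw [kN_ψ]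
  have he0 : e ≫ Abelian.image.ι ψc ≫ F.map (homOfLE (Nat.le_succ n)).op = 0 := by
    rw [← Category.assoc, heι, ← hfst, Category.assoc, Category.assoc, ← tP_fst,
      ← Category.assoc (tP I α (Nat.le_add_right (n + 1) s)), ← Category.assoc u, hu0, zero_comp]
  have hE : Formal.KilledBy (I ^ t) (Abelian.image ψc) :=
    killedBy_of_epi (Abelian.factorThruImage ψc) (hker (n + 1 + c))
  haveI : IsIso (Formal.modPowπ I t (Abelian.image ψc)) :=
    Groth.Agent.S0833.isIso_π_of_killed I hE le_rfl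
  have hez : e = 0 := by
    have h1 : e = kernel.lift _ e he0 ≫ kernel.ι _ := (kernel.lift_ι _ _ _).symm
    have h2 := D.ar n (n + 1) t (Nat.le_succ n) hn
    rw [← cancel_mono (Formal.modPowπ I t (Abelian.image ψc)), zero_comp, h1, Category.assoc]
    exact (congrArg (fun x => kernel.lift _ e he0 ≫ x) h2).trans comp_zero
  -- conclude
  have hut : u ≫ tP I α (Nat.le_add_right (n + 1) s) = 0 := by
    refine P_hom_ext I α ?_ ?_
    · rw [hfst, ← heι, hez, zero_comp, zero_comp]
    · rw [Category.assoc, tP_snd, hsnd, zero_comp]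
  have hkι : k ≫ Φι I α s (n + 1) = 0 := by
    rw [← cancel_epi v, ← Category.assoc, hvu, Category.assoc, Φπ_ι, hut, comp_zero]
  rw [← cancel_mono (Φι I α s (n + 1)), hkι, zero_comp]

end Groth.Agent.H84.Ex_D
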