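import Mathlib
import Groth.Agent.H69.FEtColim.Defs
import Groth.Agent.H2.FEtColim_TR
import Groth.Agent.H2.FEtColim_LOC
import Groth.Agent.H44.FEtColim_RANK
import Groth.Agent.H44.FEtColim_SPLIT2
import Groth.Agent.H54.FEtColim_CD

/-!
# (E1) for helper69 (S0284): the equalizer of two maps of finite étale algebras is finite étale
-/

set_option autoImplicit false
set_option linter.style.haveILetI false
universe u
open TensorProduct
open Groth.Agent.H69.FEtColim

namespace Groth.Agent.H84.FEtColim_E1

open Groth.Agent.H2.FEtColim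

/-- Constant ranks: split both by a faithfully flat extension. -/
theorem good_of_isEq_constRank {R E A B : Type u} [CommRing R] [CommRing E] [CommRing A]
    [CommRing B] [Algebra R E] [Algebra R A] [Algebra R B]
    [Module.Finite R A] [Algebra.Etale R A] [Module.Finite R B] [Algebra.Etale R B]
    {ι : E →ₐ[R] A} {φ ψ : A →ₐ[R] B} (h : IsEq ι φ ψ) (n m : ℕ)
    (hn : Module.rankAtStalk (R := R) A = n) (hm : Module.rankAtStalk (R := R) B = m) :
    Good R E := by
  obtain ⟨T, _, _, _, hA, hB⟩ :=
    Groth.Agent.H44.FEtColimSPLIT2.exists_split_both R A B n m hn hm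
  apply good_of_faithfullyFlat R E T
  have h1 := isEq_baseChange T h
  obtain ⟨n', ⟨eA⟩⟩ := Algebra.IsFiniteSplit.nonempty_algEquiv_fun T (T ⊗[R] A)
  obtain ⟨m', ⟨eB⟩⟩ := Algebra.IsFiniteSplit.nonempty_algEquiv_fun T (T ⊗[R] B)
  let φ' : (Fin n' → T) →ₐ[T] (Fin m' → T) :=
    ((eB : (T ⊗[R] B) →ₐ[T] (Fin m' → T)).comp
      (Algebra.TensorProduct.map (AlgHom.id T T) φ)).comp
      (eA.symm : (Fin n' → T) →ₐ[T] (T ⊗[R] A))
  let ψ' : (Fin n' → T) →ₐ[T] (Fin m' → T) :=
    ((eB : (T ⊗[R] B) →ₐ[T] (Fin m' → T)).comp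
      (Algebra.TensorProduct.map (AlgHom.id T T) ψ)).comp
      (eA.symm : (Fin n' → T) →ₐ[T] (T ⊗[R] A))
  have h2 := isEq_of_equiv h1 eA eB φ' ψ' (fun a => by simp [φ']) (fun a => by simp [ψ'])
  exact Groth.Agent.H54.FEtColim_CD.good_of_isEq_split T n' m' φ' ψ' (T ⊗[R] E) _ h2

/-- Constant rank of `A`: localize to make the rank of `B` constant. -/
theorem good_of_isEq_constRankA {R E A B : Type u} [CommRing R] [CommRing E] [CommRing A]
    [CommRing B] [Algebra R E] [Algebra R A] [Algebra R B]
    [Module.Finite R A] [Algebra.Etale R A] [Module.Finite R B] [Algebra.Etale R B]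
    {ι : E →ₐ[R] A} {φ ψ : A →ₐ[R] B} (h : IsEq ι φ ψ) (n : ℕ)
    (hn : Module.rankAtStalk (R := R) A = n) : Good R E := by
  apply good_of_locally
  intro p
  obtain ⟨f, hf, m, hm⟩ := Groth.Agent.H44.FEtColimRANK.exists_const_rank R B p
  refine ⟨f, hf, ?_⟩
  haveI : Module.Flat R (Localization.Away f) := IsLocalization.flat _ (Submonoid.powers f)
  haveI : Module.Flat R A := inferInstance
  have h1 := isEq_baseChange (Localization.Away f) h
  have hn' : Module.rankAtStalk (R := Localization.Away f) (Localization.Away f ⊗[R] A) = n := by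
    ext q
    rw [Module.rankAtStalk_baseChange, hn]
    rfl
  exact good_of_isEq_constRank h1 n m hn' hm

/-- (E1) the equalizer of two algebra maps between finite étale algebras is finite étale. -/
theorem good_of_isEq {R E A B : Type u} [CommRing R] [CommRing E] [CommRing A] [CommRing B]
    [Algebra R E] [Algebra R A] [Algebra R B]
    [Module.Finite R A] [Algebra.Etale R A] [Module.Finite R B] [Algebra.Etale R B]
    {ι : E →ₐ[R] A} {φ ψ : A →ₐ[R] B} (h : IsEq ι φ ψ) : Good R E := by
  apply good_of_locally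
  intro p
  obtain ⟨f, hf, n, hn⟩ := Groth.Agent.H44.FEtColimRANK.exists_const_rank R A p
  refine ⟨f, hf, ?_⟩
  haveI : Module.Flat R (Localization.Away f) := IsLocalization.flat _ (Submonoid.powers f)
  have h1 := isEq_baseChange (Localization.Away f) h
  exact good_of_isEq_constRankA h1 n hn

end Groth.Agent.H84.FEtColim_E1
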