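import Groth.Agent.H84.GerbeFp

set_option autoImplicit false

universe v₅ u₅ v₄ u₄ v₃ u₃ v₂ u₂ v u

open CategoryTheory CategoryTheory.Limits

namespace Groth.Agent.H84

section iso

variable {C : Type u} [Category.{v} C] (J : GrothendieckTopology C)
  {𝒳 : BasedCategory.{v₂, u₂} C} {𝒴 : BasedCategory.{v₄, u₄} C}

/-- being a gerbe is invariant under 2-isomorphism of the functor -/
theorem isGerbeOver_of_iso {π π' : 𝒳 ⥤ᵇ 𝒴} (α : π ≅ π') (hπ : Gerb.IsGerbeOver J π) :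
    Gerb.IsGerbeOver J π' := by
  constructor
  · intro y
    obtain ⟨R, hR, H⟩ := hπ.1 y
    refine ⟨R, hR, ?_⟩
    intro V f hf
    obtain ⟨x, g, hg⟩ := H f hf
    let ax : π'.obj x ⟶ π.obj x := α.inv.toNatTrans.app x
    have hax0 : 𝒴.p.IsHomLift (𝟙 (𝒳.p.obj x)) ax := BasedNatTrans.app_isHomLift α.inv x
    have hx : 𝒳.p.obj x = V := (π.w_obj x).symm.trans (IsHomLift.domain_eq 𝒴.p f g)
    have hax : 𝒴.p.IsHomLift (𝟙 V) ax := by rw [← hx]; exact hax0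
    exact ⟨x, ax ≫ g, IsHomLift.comp_lift_id_left 𝒴.p f g ax⟩
  · intro x₁ x₂ b' hb'
    let a₁ : π.obj x₁ ⟶ π'.obj x₁ := α.hom.toNatTrans.app x₁
    let a₂ : π'.obj x₂ ⟶ π.obj x₂ := α.inv.toNatTrans.app x₂
    have ha₁ : 𝒴.p.IsHomLift (𝟙 (𝒳.p.obj x₁)) a₁ := BasedNatTrans.app_isHomLift α.hom x₁
    have ha₂0 : 𝒴.p.IsHomLift (𝟙 (𝒳.p.obj x₂)) a₂ := BasedNatTrans.app_isHomLift α.inv x₂
    have h12 : 𝒳.p.obj x₂ = 𝒳.p.obj x₁ :=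
      (π'.w_obj x₂).symm.trans (IsHomLift.codomain_eq 𝒴.p (𝟙 (𝒳.p.obj x₁)) b')
    have ha₂ : 𝒴.p.IsHomLift (𝟙 (𝒳.p.obj x₁)) a₂ := by rw [← h12]; exact ha₂0
    have hb : 𝒴.p.IsHomLift (𝟙 (𝒳.p.obj x₁)) (a₁ ≫ b' ≫ a₂) := by
      have : 𝒴.p.IsHomLift (𝟙 (𝒳.p.obj x₁)) (b' ≫ a₂) :=
        IsHomLift.comp_of_lift_id 𝒴.p (𝒳.p.obj x₁) b' a₂
      exact IsHomLift.comp_of_lift_id 𝒴.p (𝒳.p.obj x₁) a₁ (b' ≫ a₂)
    obtain ⟨R, hR, H⟩ := hπ.2 x₁ x₂ (a₁ ≫ b' ≫ a₂) hb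
    refine ⟨R, hR, ?_⟩
    intro V f hf
    obtain ⟨x₀, φ, ψ, hφ, hψ, hcomm⟩ := H f hf
    refine ⟨x₀, φ, ψ, hφ, hψ, ?_⟩
    -- naturality
    have n1 : π.map φ ≫ a₁ = α.hom.toNatTrans.app x₀ ≫ π'.map φ := α.hom.toNatTrans.naturality φ
    have n2 : π.map ψ ≫ α.hom.toNatTrans.app x₂ = α.hom.toNatTrans.app x₀ ≫ π'.map ψ :=
      α.hom.toNatTrans.naturality ψ
    have hinv : a₂ ≫ α.hom.toNatTrans.app x₂ = 𝟙 _ := by
      have := congrArg (fun t => t.toNatTrans.app x₂) α.inv_hom_id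
      exact this
    have hiso : IsIso (α.hom.toNatTrans.app x₀) := by
      refine ⟨α.inv.toNatTrans.app x₀, ?_, ?_⟩
      · exact congrArg (fun t => t.toNatTrans.app x₀) α.hom_inv_id
      · exact congrArg (fun t => t.toNatTrans.app x₀) α.inv_hom_id
    have key : α.hom.toNatTrans.app x₀ ≫ (π'.map φ ≫ b') = α.hom.toNatTrans.app x₀ ≫ π'.map ψ := by
      rw [← n2, ← hcomm, ← Category.assoc, ← n1]
      simp only [Category.assoc]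
      rw [hinv, Category.comp_id]
    exact (cancel_epi (α.hom.toNatTrans.app x₀)).mp key

end iso

section equiv

variable {C : Type u} [Category.{v} C] (J : GrothendieckTopology C)
  {𝒳 : BasedCategory.{v₂, u₂} C} {𝒬 : BasedCategory.{v₃, u₃} C} {𝒴 : BasedCategory.{v₄, u₄} C}

theorem isEquivOver_inv {E : 𝒳 ⥤ᵇ 𝒬} {E' : 𝒬 ⥤ᵇ 𝒳}
    (η : BasedFunctor.comp E E' ≅ BasedFunctor.id 𝒳) (ε : BasedFunctor.comp E' E ≅ BasedFunctor.id 𝒬) :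
    FibCat.IsEquivOver E' := ⟨E, ⟨ε⟩, ⟨η⟩⟩

/-- if `E` is an equivalence over the base and `E ⋙ π` is a gerbe then so is `π` -/
theorem isGerbeOver_of_comp_isEquivOver (E : 𝒳 ⥤ᵇ 𝒬) (hE : FibCat.IsEquivOver E) (π : 𝒬 ⥤ᵇ 𝒴)
    (h : Gerb.IsGerbeOver J (BasedFunctor.comp E π)) : Gerb.IsGerbeOver J π := by
  obtain ⟨E', ⟨η⟩, ⟨ε⟩⟩ := hE
  have h1 := isGerbeOver_comp_of_isEquivOver J E' (isEquivOver_inv η ε) (BasedFunctor.comp E π) h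
  -- E' ⋙ E ⋙ π ≅ π
  let ε₀ : E'.toFunctor ⋙ E.toFunctor ≅ 𝟭 𝒬.obj := (BasedNatTrans.forgetful _ _).mapIso ε
  have α : BasedFunctor.comp E' (BasedFunctor.comp E π) ≅ π :=
    BasedNatIso.mkNatIso
      (NatIso.ofComponents (fun x => π.toFunctor.mapIso (ε₀.app x))
        (fun {x y} f => by
          have := ε₀.hom.naturality f
          change π.map (E.map (E'.map f)) ≫ π.map (ε₀.hom.app y) = π.map (ε₀.hom.app x) ≫ π.map f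
          rw [← Functor.map_comp, ← Functor.map_comp]
          exact congrArg _ this))
      (fun x => by
        change 𝒴.p.IsHomLift (𝟙 (𝒬.p.obj x)) (π.map (ε.hom.toNatTrans.app x))
        have : 𝒬.p.IsHomLift (𝟙 (𝒬.p.obj x)) (ε.hom.toNatTrans.app x) :=
          BasedNatTrans.app_isHomLift ε.hom x
        infer_instance)
  exact isGerbeOver_of_iso J α h1

end equiv

section descent

variable {C : Type u} [Category.{v} C] (J : GrothendieckTopology C)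
  {𝒜 : BasedCategory.{v₂, u₂} C} {𝒳 : BasedCategory.{v₃, u₃} C} {𝒮 : BasedCategory.{v₄, u₄} C}

/-- descent of the gerbe property along a base change which is locally essentially surjective -/
theorem isGerbeOver_of_fpFst [FibCat.IsFibGrpd 𝒜.p] [FibCat.IsFibGrpd 𝒳.p] [FibCat.IsFibGrpd 𝒮.p]
    (a : 𝒜 ⥤ᵇ 𝒮) (F : 𝒳 ⥤ᵇ 𝒮) (ha : Gerb.LocSurjObj J a)
    (h1 : Gerb.IsGerbeOver J (FibCat.fpFst a F)) : Gerb.IsGerbeOver J F := by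
  constructor
  · intro y
    obtain ⟨R, hR, H⟩ := ha y
    refine cover_trans J (T := fun W k => ∃ (x : 𝒳.obj) (g : F.obj x ⟶ y), 𝒮.p.IsHomLift k g) R hR ?_
    intro V f hf
    obtain ⟨y', g, hg⟩ := H f hf
    have e : 𝒜.p.obj y' = V := (a.w_obj y').symm.trans (IsHomLift.domain_eq 𝒮.p f g)
    obtain ⟨R', hR', H'⟩ := h1.1 y'
    refine ⟨𝒜.p.obj y', e, R', hR', ?_⟩
    intro W k hk
    obtain ⟨P, g', hg'⟩ := H' k hk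
    let g'' : P.obj.fst ⟶ y' := g'
    have hg'' : 𝒜.p.IsHomLift k g'' := hg'
    have hW : 𝒜.p.obj P.obj.fst = W := IsHomLift.domain_eq 𝒜.p k g''
    have hi : 𝒮.p.IsHomLift (𝟙 W) P.obj.iso.inv := by
      have h0 : 𝒮.p.IsHomLift (𝟙 (𝒜.p.obj P.obj.fst)) P.obj.iso.hom := P.property
      rw [← hW]
      infer_instance
    have h2 : 𝒮.p.IsHomLift (eqToHom e ≫ f) g := inferInstance
    have h3 : 𝒮.p.IsHomLift (k ≫ eqToHom e ≫ f) (a.map g'' ≫ g) :=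
      IsHomLift.comp 𝒮.p k (eqToHom e ≫ f) (a.map g'') g
    exact ⟨P.obj.snd, P.obj.iso.inv ≫ a.map g'' ≫ g,
      IsHomLift.comp_lift_id_left 𝒮.p (k ≫ eqToHom e ≫ f) (a.map g'' ≫ g) P.obj.iso.inv⟩
  · intro x₁ x₂ b hb
    obtain ⟨R, hR, H⟩ := ha (F.obj x₁)
    obtain ⟨R', hR', HR'⟩ := cover_transport J (F.w_obj x₁) R hR
    refine cover_trans J (T := fun V f => ∃ (x₀ : 𝒳.obj) (φ : x₀ ⟶ x₁) (ψ : x₀ ⟶ x₂),
      𝒳.p.IsHomLift f φ ∧ 𝒳.p.IsHomLift f ψ ∧ F.map φ ≫ b = F.map ψ) R' hR' ?_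
    intro V f hf
    obtain ⟨y', g, hg⟩ := H _ (HR' f hf)
    rw [IsHomLift.lift_comp_eqToHom_iff] at hg
    have e : 𝒜.p.obj y' = V := (a.w_obj y').symm.trans (IsHomLift.domain_eq 𝒮.p f g)
    have h12 : 𝒳.p.obj x₂ = 𝒳.p.obj x₁ :=
      (F.w_obj x₂).symm.trans (IsHomLift.codomain_eq 𝒮.p (𝟙 (𝒳.p.obj x₁)) b)
    obtain ⟨x₁V, φ₁, hφ₁⟩ := exists_lift_of_eq 𝒳.p f rfl
    obtain ⟨x₂V, φ₂, hφ₂⟩ := exists_lift_of_eq 𝒳.p f h12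
    obtain ⟨θ₁, hθ₁, hθ₁fac⟩ := exists_factor 𝒮.p f (F.map φ₁) (𝟙 V) f (by simp) g
    have hgb : 𝒮.p.IsHomLift f (g ≫ b) := IsHomLift.comp_lift_id_right 𝒮.p f g b
    obtain ⟨θ₂, hθ₂, hθ₂fac⟩ := exists_factor 𝒮.p f (F.map φ₂) (𝟙 V) f (by simp) (g ≫ b)
    haveI : IsIso θ₁ := isIso_of_lift_id V θ₁
    haveI : IsIso θ₂ := isIso_of_lift_id V θ₂
    have hP₁ : 𝒮.p.IsHomLift (𝟙 (𝒜.p.obj y')) (asIso θ₁).hom := by rw [e]; exact hθ₁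
    have hP₂ : 𝒮.p.IsHomLift (𝟙 (𝒜.p.obj y')) (asIso θ₂).hom := by rw [e]; exact hθ₂
    let P₁ : (FibCat.fp a F).obj := ⟨⟨y', x₁V, asIso θ₁⟩, hP₁⟩
    let P₂ : (FibCat.fp a F).obj := ⟨⟨y', x₂V, asIso θ₂⟩, hP₂⟩
    have hid : 𝒜.p.IsHomLift (𝟙 ((FibCat.fp a F).p.obj P₁)) (𝟙 y') :=
      IsHomLift.id rfl
    obtain ⟨R'', hR'', H''⟩ := h1.2 P₁ P₂ (𝟙 y') hid
    refine ⟨𝒜.p.obj y', e, R'', hR'', ?_⟩
    intro W k hk
    obtain ⟨P₀, Φ, Ψ, hΦ, hΨ, hcomm⟩ := H'' k hk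
    have hfst : Φ.hom.fst = Ψ.hom.fst := by
      have : Φ.hom.fst ≫ 𝟙 y' = Ψ.hom.fst := hcomm
      rwa [Category.comp_id] at this
    have hΦs : 𝒳.p.IsHomLift k ((FibCat.fpSnd a F).map Φ) :=
      (BasedFunctor.isHomLift_iff (FibCat.fpSnd a F) k Φ).mpr hΦ
    have hΨs : 𝒳.p.IsHomLift k ((FibCat.fpSnd a F).map Ψ) :=
      (BasedFunctor.isHomLift_iff (FibCat.fpSnd a F) k Ψ).mpr hΨ
    have hΦs' : 𝒳.p.IsHomLift k Φ.hom.snd := hΦs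
    have hΨs' : 𝒳.p.IsHomLift k Ψ.hom.snd := hΨs
    have hφ₁' : 𝒳.p.IsHomLift (eqToHom e ≫ f) φ₁ := inferInstance
    have hφ₂' : 𝒳.p.IsHomLift (eqToHom e ≫ f) φ₂ := inferInstance
    refine ⟨P₀.obj.snd, Φ.hom.snd ≫ φ₁, Ψ.hom.snd ≫ φ₂,
      IsHomLift.comp 𝒳.p k (eqToHom e ≫ f) Φ.hom.snd φ₁,
      IsHomLift.comp 𝒳.p k (eqToHom e ≫ f) Ψ.hom.snd φ₂, ?_⟩
    have w₁ : a.map Φ.hom.fst ≫ θ₁ = P₀.obj.iso.hom ≫ F.map Φ.hom.snd := Φ.hom.w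
    have w₂ : a.map Ψ.hom.fst ≫ θ₂ = P₀.obj.iso.hom ≫ F.map Ψ.hom.snd := Ψ.hom.w
    have key : P₀.obj.iso.hom ≫ (F.map (Φ.hom.snd ≫ φ₁) ≫ b) =
        P₀.obj.iso.hom ≫ F.map (Ψ.hom.snd ≫ φ₂) := by
      rw [Functor.map_comp, Functor.map_comp]
      rw [Category.assoc, ← Category.assoc P₀.obj.iso.hom, ← w₁, ← Category.assoc P₀.obj.iso.hom,
        ← w₂, hfst]
      simp only [Category.assoc]
      rw [hθ₂fac, reassoc_of% hθ₁fac]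
    exact (cancel_epi P₀.obj.iso.hom).mp key

end descent

end Groth.Agent.H84
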