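import Mathlib
import Groth.Prelude.Def_PLie

/-!
# Jacobson's formula `(a + b)^p = a^p + b^p - J_p(a, b)` in associative algebras of characteristic `p`

`J_p` is the sum from `PLie.jacobson`, written with commutators in the associative algebra (`bw`).
Also `ad (a^p) = (ad a)^p`.
-/

set_option autoImplicit false
universe u v w

namespace Groth.Agent.H84.Jac

open Polynomial Finset

/-! ### binomial congruences -/

theorem choose_pred_int (p : ℕ) (hp : p.Prime) : ∀ k : ℕ, k ≤ p - 1 →
    (p : ℤ) ∣ ((p - 1).choose k : ℤ) - (-1) ^ k := by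
  intro k
  induction k with
  | zero => intro _; simp
  | succ k ih =>
    intro hk
    have hk' : k ≤ p - 1 := by omega
    have h1 := ih hk'
    have hpos : 0 < p := hp.pos
    have h2 : (p - 1).choose (k + 1) + (p - 1).choose k = p.choose (k + 1) := by
      have hpp : p = (p - 1) + 1 := by omega
      conv_rhs => rw [hpp, Nat.choose_succ_succ]
      exact add_comm _ _
    have h3 : p ∣ p.choose (k + 1) := hp.dvd_choose_self (by omega) (by omega)
    have h3' : (p : ℤ) ∣ ((p.choose (k + 1) : ℕ) : ℤ) := Int.natCast_dvd_natCast.2 h3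
    have e : ((p - 1).choose (k + 1) : ℤ) - (-1) ^ (k + 1) =
        ((p.choose (k + 1) : ℕ) : ℤ) - (((p - 1).choose k : ℤ) - (-1) ^ k) := by
      rw [← h2]; push_cast; ring
    rw [e]
    exact dvd_sub h3' h1

theorem sign_choose_int (p : ℕ) (hp : p.Prime) (m : ℕ) (hm : m ≤ p - 1) :
    (p : ℤ) ∣ (-1) ^ (p - 1 - m) * ((p - 1).choose m : ℤ) - 1 := by
  have h1 := choose_pred_int p hp m hm
  have h2 : (p : ℤ) ∣ (-1) ^ (p - 1) - 1 := by
    rcases hp.eq_two_or_odd' with rfl | hodd
    · norm_num
    · have hev : Even (p - 1) := by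
        obtain ⟨k, hk⟩ := hodd
        exact ⟨k, by omega⟩
      rw [hev.neg_one_pow]; simp
  have e : (-1 : ℤ) ^ (p - 1 - m) * ((p - 1).choose m : ℤ) - 1 =
      (-1) ^ (p - 1 - m) * (((p - 1).choose m : ℤ) - (-1) ^ m) + ((-1) ^ (p - 1) - 1) := by
    have e' : (-1 : ℤ) ^ (p - 1) = (-1) ^ (p - 1 - m) * (-1) ^ m := by
      rw [← pow_add]; congr 1; omega
    rw [e']; ring
  rw [e]
  exact dvd_add (Dvd.dvd.mul_left h1 _) h2

/-- In a ring where `p = 0`, for commuting `x, y`: `(x - y)^(p-1) = ∑ x^k y^(p-1-k)`. -/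
theorem sub_pow_pred {E : Type*} [Ring E] (p : ℕ) (hp : p.Prime) (hpE : (p : E) = 0)
    (x y : E) (h : Commute x y) :
    (x - y) ^ (p - 1) = ∑ k ∈ range p, x ^ k * y ^ (p - 1 - k) := by
  have hz : ∀ (z : ℤ) (w : E), (p : ℤ) ∣ z - 1 → z • w = w := by
    rintro z w ⟨c, hc⟩
    have hz' : z = 1 + p * c := by linarith
    have h0 : ((p : ℤ)) • (c • w) = 0 := by
      rw [zsmul_eq_mul, Int.cast_natCast, hpE, zero_mul]
    rw [hz', add_smul, one_smul, mul_smul, h0, add_zero]
  rw [sub_eq_add_neg, (h.neg_right).add_pow]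
  have hp1 : p - 1 + 1 = p := Nat.sub_add_cancel hp.one_le
  rw [hp1]
  refine sum_congr rfl fun m hm => ?_
  have hm' : m ≤ p - 1 := by have := mem_range.1 hm; omega
  rw [neg_pow]
  have c1 : x ^ m * (-1 : E) ^ (p - 1 - m) = (-1) ^ (p - 1 - m) * x ^ m :=
    ((Commute.neg_one_left (x ^ m)).pow_left _).eq.symm
  have c2 : (x ^ m * y ^ (p - 1 - m)) * ((p - 1).choose m : E) =
      ((p - 1).choose m : E) * (x ^ m * y ^ (p - 1 - m)) :=
    (Nat.cast_commute _ _).eq.symm
  have key : x ^ m * ((-1) ^ (p - 1 - m) * y ^ (p - 1 - m)) * ((p - 1).choose m : E) =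
      ((-1 : ℤ) ^ (p - 1 - m) * ((p - 1).choose m : ℤ)) • (x ^ m * y ^ (p - 1 - m)) := by
    rw [zsmul_eq_mul]
    push_cast
    calc x ^ m * ((-1) ^ (p - 1 - m) * y ^ (p - 1 - m)) * ((p - 1).choose m : E)
        = (-1) ^ (p - 1 - m) * ((x ^ m * y ^ (p - 1 - m)) * ((p - 1).choose m : E)) := by
          rw [← mul_assoc (x ^ m), c1, mul_assoc ((-1) ^ (p - 1 - m)), mul_assoc]
      _ = ((-1) ^ (p - 1 - m) * ((p - 1).choose m : E)) * (x ^ m * y ^ (p - 1 - m)) := by
          rw [c2, ← mul_assoc]
  rw [key]
  exact hz _ _ (sign_choose_int p hp m hm')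

/-! ### left and right multiplications -/

section EndRing

variable {B : Type*} [Ring B]

theorem mulLeft_pow_apply (u : B) (k : ℕ) (w : B) :
    ((LinearMap.mulLeft ℤ u : Module.End ℤ B) ^ k) w = u ^ k * w := by
  induction k generalizing w with
  | zero => simp
  | succ k ih =>
    rw [pow_succ, Module.End.mul_apply, ih, LinearMap.mulLeft_apply, ← mul_assoc, ← pow_succ]

theorem mulRight_pow_apply (u : B) (k : ℕ) (w : B) :
    ((LinearMap.mulRight ℤ u : Module.End ℤ B) ^ k) w = w * u ^ k := by
  induction k generalizing w with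
  | zero => simp
  | succ k ih =>
    rw [pow_succ', Module.End.mul_apply, ih, LinearMap.mulRight_apply, mul_assoc, ← pow_succ]

theorem sub_pow_apply (u : B) (n : ℕ) (w : B) :
    (((LinearMap.mulLeft ℤ u : Module.End ℤ B) - LinearMap.mulRight ℤ u) ^ n) w =
      (fun w => u * w - w * u)^[n] w := by
  rw [Module.End.pow_apply]
  have : ⇑((LinearMap.mulLeft ℤ u : Module.End ℤ B) - LinearMap.mulRight ℤ u) =
      fun w => u * w - w * u := by
    funext w
    simp
  rw [this]

theorem natCast_end_eq_zero (p : ℕ) (hpB : (p : B) = 0) : ((p : ℕ) : Module.End ℤ B) = 0 := by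
  ext w
  rw [Module.End.natCast_apply, nsmul_eq_mul, hpB, zero_mul, LinearMap.zero_apply]

/-- `(ad u)^(p-1) v = ∑ u^k v u^(p-1-k)` in characteristic `p`. -/
theorem ad_pow_pred (p : ℕ) (hp : p.Prime) (hpB : (p : B) = 0) (u v : B) :
    (fun w => u * w - w * u)^[p - 1] v = ∑ k ∈ range p, u ^ k * v * u ^ (p - 1 - k) := by
  have hcomm : Commute (LinearMap.mulLeft ℤ u : Module.End ℤ B) (LinearMap.mulRight ℤ u) :=
    LinearMap.commute_mulLeft_right u u
  have h := sub_pow_pred p hp (natCast_end_eq_zero p hpB) _ _ hcomm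
  have h' := congrArg (fun f : Module.End ℤ B => f v) h
  rw [sub_pow_apply, LinearMap.sum_apply] at h'
  rw [h']
  refine sum_congr rfl fun k _ => ?_
  rw [Module.End.mul_apply, mulRight_pow_apply, mulLeft_pow_apply, mul_assoc]

/-- `(ad u)^p v = u^p v - v u^p` in characteristic `p`. -/
theorem ad_pow_char (p : ℕ) (hp : p.Prime) (hpB : (p : B) = 0) (u v : B) :
    (fun w => u * w - w * u)^[p] v = u ^ p * v - v * u ^ p := by
  have hcomm : Commute (LinearMap.mulLeft ℤ u : Module.End ℤ B) (LinearMap.mulRight ℤ u) :=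
    LinearMap.commute_mulLeft_right u u
  have h := sub_pow_pred p hp (natCast_end_eq_zero p hpB) _ _ hcomm
  have hp1 : p - 1 + 1 = p := Nat.sub_add_cancel hp.one_le
  have h2 : ((LinearMap.mulLeft ℤ u : Module.End ℤ B) - LinearMap.mulRight ℤ u) ^ p =
      (LinearMap.mulLeft ℤ u : Module.End ℤ B) ^ p - (LinearMap.mulRight ℤ u) ^ p := by
    conv_lhs => rw [← hp1, pow_succ', h]
    exact hcomm.mul_geom_sum₂ p
  have h' := congrArg (fun f : Module.End ℤ B => f v) h2
  rw [sub_pow_apply, LinearMap.sub_apply, mulLeft_pow_apply, mulRight_pow_apply] at h'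
  exact h'

end EndRing

/-! ### noncommutative derivative of a power -/

theorem derivative_pow_succ_noncomm {A : Type*} [Ring A] (u : A[X]) (n : ℕ) :
    derivative (u ^ (n + 1)) = ∑ k ∈ range (n + 1), u ^ k * derivative u * u ^ (n - k) := by
  induction n with
  | zero => simp
  | succ n ih =>
    rw [pow_succ, derivative_mul, ih, sum_range_succ _ (n + 1), sum_mul]
    congr 1
    · refine sum_congr rfl fun k hk => ?_
      have hk' : k ≤ n := by have := mem_range.1 hk; omega
      rw [mul_assoc, ← pow_succ, Nat.sub_add_comm hk']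
    · simp

/-! ### bracket words -/

section Words

variable {A : Type*} [Ring A]

/-- The right-nested commutator word `[x_{w₁}, [x_{w₂}, … [x_{wₙ}, b]]]` with `x_false = a`, `x_true = b`. -/
def bw (a b : A) : List Bool → A
  | [] => b
  | i :: w => (if i then b else a) * bw a b w - bw a b w * (if i then b else a)

theorem bw_nil (a b : A) : bw a b [] = b := rfl

theorem bw_cons (a b : A) (i : Bool) (w : List Bool) :
    bw a b (i :: w) = (if i then b else a) * bw a b w - bw a b w * (if i then b else a) := rfl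

/-- `a + X b` as a polynomial. -/
noncomputable def gen (a b : A) : A[X] := monomial 0 a + monomial 1 b

theorem gen_bracket_monomial (a b : A) (k : ℕ) (c : A) :
    gen a b * monomial k c - monomial k c * gen a b =
      monomial k (a * c - c * a) + monomial (k + 1) (b * c - c * b) := by
  simp only [gen, add_mul, mul_add, monomial_mul_monomial, zero_add, add_zero, map_sub,
    add_comm 1 k]
  abel

theorem sumBool_succ {M : Type*} [AddCommMonoid M] (n : ℕ) (g : List Bool → M) :
    ∑ t : Fin (n + 1) → Bool, g (List.ofFn t) =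
      ∑ t : Fin n → Bool, g (false :: List.ofFn t) +
        ∑ t : Fin n → Bool, g (true :: List.ofFn t) := by
  rw [← (Fin.consEquiv (fun _ : Fin (n + 1) => Bool)).sum_comp, Fintype.sum_prod_type,
    Fintype.sum_bool, add_comm]
  congr 1 <;> exact Fintype.sum_congr _ _ (fun t => by simp [List.ofFn_succ])

theorem ad_iter_gen (a b : A) (n : ℕ) :
    (fun w => gen a b * w - w * gen a b)^[n] (monomial 0 b) =
      ∑ t : Fin n → Bool, monomial ((List.ofFn t).count true) (bw a b (List.ofFn t)) := by
  induction n with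
  | zero => simp [bw]
  | succ n ih =>
    have h := sumBool_succ n (fun w => monomial (w.count true) (bw a b w))
    beta_reduce at h
    rw [Function.iterate_succ_apply', ih, h]
    beta_reduce
    rw [mul_sum, sum_mul, ← sum_sub_distrib, ← sum_add_distrib]
    refine Fintype.sum_congr _ _ fun t => ?_
    rw [gen_bracket_monomial]
    simp [bw_cons, List.count_cons]

theorem card_eq_count (n : ℕ) (t : Fin n → Bool) (c : Bool) :
    Fintype.card {i // t i = c} = (List.ofFn t).count c := by
  induction n with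
  | zero => simp
  | succ n ih =>
    rw [List.ofFn_succ, List.count_cons, ← ih (fun i => t i.succ), Fintype.card_subtype,
      Fintype.card_subtype, Fin.card_filter_univ_succ]
    by_cases h : t 0 = c <;> simp [h]

end Words

/-! ### Jacobson's formula -/

section Main

variable {R : Type*} [CommRing R] (p : ℕ) [hp : Fact p.Prime] [CharP R p]
variable {A : Type*} [Ring A] [Algebra R A]

include R in
theorem natCast_eq_zero_of_algebra : (p : A) = 0 := by
  rw [← map_natCast (algebraMap R A), CharP.cast_eq_zero R p, map_zero]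

include R in
theorem natCast_poly_eq_zero : ((p : ℕ) : A[X]) = 0 := by
  rw [← C_eq_natCast, natCast_eq_zero_of_algebra (R := R) p, C_0]

theorem natDegree_gen_le (a b : A) : (gen a b).natDegree ≤ 1 := by
  refine (natDegree_add_le _ _).trans (max_le ?_ ?_)
  · exact (natDegree_monomial_le a).trans (Nat.zero_le _)
  · exact natDegree_monomial_le b

theorem derivative_gen (a b : A) : derivative (gen a b) = monomial 0 b := by
  simp [gen, derivative_monomial]

include R in
/-- the coefficient identity: `(m+1) • S_{m+1} = ∑_{t, #true t = m} W_t`. -/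
theorem coeff_gen_pow (a b : A) (m : ℕ) :
    ((gen a b) ^ p).coeff (m + 1) * ((m : A) + 1) =
      ∑ t : Fin (p - 1) → Bool,
        if (List.ofFn t).count true = m then bw a b (List.ofFn t) else 0 := by
  have hp1 : p - 1 + 1 = p := Nat.sub_add_cancel hp.out.one_le
  have h1 : derivative ((gen a b) ^ p) =
      ∑ t : Fin (p - 1) → Bool,
        monomial ((List.ofFn t).count true) (bw a b (List.ofFn t)) := by
    rw [← ad_iter_gen, ad_pow_pred p hp.out (natCast_poly_eq_zero (R := R) p)]
    conv_lhs => rw [← hp1, derivative_pow_succ_noncomm, hp1, derivative_gen]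
  rw [← coeff_derivative, h1, finset_sum_coeff]
  refine Fintype.sum_congr _ _ fun t => ?_
  rw [coeff_monomial]

theorem coeff_zero_gen_pow (a b : A) : ((gen a b) ^ p).coeff 0 = a ^ p := by
  rw [← constantCoeff_apply, map_pow, constantCoeff_apply]
  simp [gen, coeff_monomial]

theorem coeff_top_gen_pow (a b : A) : ((gen a b) ^ p).coeff p = b ^ p := by
  have h := coeff_pow_of_natDegree_le (m := p) (natDegree_gen_le a b)
  rw [mul_one] at h
  rw [h]
  simp [gen, coeff_monomial]

theorem add_pow_eq_sum_coeff (a b : A) :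
    (a + b) ^ p = ∑ j ∈ range (p + 1), ((gen a b) ^ p).coeff j := by
  let ev : A[X] →+* A := eval₂RingHom' (RingHom.id A) 1 (fun _ => Commute.one_right _)
  have hev : ∀ q : A[X], ev q = eval₂ (RingHom.id A) 1 q := fun _ => rfl
  have h1 : ev (gen a b) = a + b := by
    rw [hev]; simp [gen, eval₂_add, eval₂_monomial]
  have h2 : ev ((gen a b) ^ p) = (a + b) ^ p := by rw [map_pow, h1]
  have hdeg : ((gen a b) ^ p).natDegree < p + 1 := by
    refine Nat.lt_succ_of_le (natDegree_pow_le.trans ?_)
    calc p * (gen a b).natDegree ≤ p * 1 := Nat.mul_le_mul_left _ (natDegree_gen_le a b)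
      _ = p := mul_one p
  rw [← h2, hev, eval₂_eq_sum_range' _ hdeg]
  simp

theorem coef_inv_mul (m : ℕ) (hm : m + 1 < p) (s : A) :
    ((ZMod.castHom (dvd_refl p) R) (((m + 1 : ℕ) : ZMod p)⁻¹)) • (s * ((m : A) + 1)) = s := by
  have hne : ((m + 1 : ℕ) : ZMod p) ≠ 0 := by
    rw [Ne, ZMod.natCast_eq_zero_iff]
    exact Nat.not_dvd_of_pos_of_lt (Nat.succ_pos m) hm
  have h1 : ((m : A) + 1) = algebraMap R A ((ZMod.castHom (dvd_refl p) R) ((m + 1 : ℕ) : ZMod p)) := by
    rw [map_natCast, map_natCast]; push_cast; rfl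
  rw [h1, ← mul_smul_comm, Algebra.smul_def, ← map_mul, ← map_mul, inv_mul_cancel₀ hne, map_one,
    map_one, mul_one]

/-- **Jacobson's formula** in an associative algebra of characteristic `p`. -/
theorem jacobson_assoc (a b : A) :
    (a + b) ^ p = a ^ p + b ^ p -
      ∑ t : Fin (p - 1) → Bool,
        ((ZMod.castHom (dvd_refl p) R) ((Fintype.card {i // t i = false} : ZMod p)⁻¹)) •
          bw a b (List.ofFn t) := by
  have hp1 : p - 1 + 1 = p := Nat.sub_add_cancel hp.out.one_le
  set S : ℕ → A := fun j => ((gen a b) ^ p).coeff j with hS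
  have hmid : ∀ m ∈ range (p - 1), S (m + 1) =
      ∑ t : Fin (p - 1) → Bool,
        if (List.ofFn t).count true = m then
          ((ZMod.castHom (dvd_refl p) R) (((m + 1 : ℕ) : ZMod p)⁻¹)) • bw a b (List.ofFn t)
        else 0 := by
    intro m hm
    have hm' : m + 1 < p := by have := mem_range.1 hm; omega
    have h := coeff_gen_pow (R := R) p a b m
    have h2 := coef_inv_mul (R := R) p m hm' (S (m + 1))
    rw [← h2]
    change _ • (((gen a b) ^ p).coeff (m + 1) * ((m : A) + 1)) = _
    rw [h, smul_sum]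
    refine Fintype.sum_congr _ _ fun t => ?_
    split_ifs <;> simp
  have hterm : ∀ t : Fin (p - 1) → Bool,
      (∑ m ∈ range (p - 1),
        if (List.ofFn t).count true = m then
          ((ZMod.castHom (dvd_refl p) R) (((m + 1 : ℕ) : ZMod p)⁻¹)) • bw a b (List.ofFn t)
        else 0) =
      -(((ZMod.castHom (dvd_refl p) R) ((Fintype.card {i // t i = false} : ZMod p)⁻¹)) •
          bw a b (List.ofFn t)) := by
    intro t
    have hlen : (List.ofFn t).count true + (List.ofFn t).count false = p - 1 := by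
      rw [List.count_true_add_count_false, List.length_ofFn]
    rw [card_eq_count]
    set k := (List.ofFn t).count true with hk
    set r := (List.ofFn t).count false with hr
    rw [Finset.sum_ite_eq (range (p - 1)) k]
    by_cases hlt : k < p - 1
    · rw [if_pos (mem_range.2 hlt)]
      have hkr : ((k + 1 : ℕ) : ZMod p) = -((r : ℕ) : ZMod p) := by
        rw [eq_neg_iff_add_eq_zero, ← Nat.cast_add]
        have : k + 1 + r = p := by omega
        rw [this, ZMod.natCast_self]
      rw [hkr, inv_neg, map_neg, neg_smul]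
    · have hr0 : r = 0 := by omega
      rw [if_neg (by simpa using hlt), hr0]
      simp
  rw [add_pow_eq_sum_coeff, sum_range_succ]
  change ∑ j ∈ range p, S j + S p = _
  conv_lhs => rw [← hp1, sum_range_succ', hp1]
  rw [sum_congr rfl hmid, sum_comm, Fintype.sum_congr _ _ hterm, sum_neg_distrib]
  have h0 : S 0 = a ^ p := coeff_zero_gen_pow p a b
  have hp' : S p = b ^ p := coeff_top_gen_pow p a b
  rw [h0, hp']
  abel

end Main

/-! ### transport to a Lie algebra -/

section Lie

variable {R : Type*} [CommRing R] (p : ℕ) [hp : Fact p.Prime] [CharP R p]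
variable {L : Type*} [LieRing L] [LieAlgebra R L] {A : Type*} [Ring A] [Algebra R A]
variable (e : L →ₗ[R] A) (he : ∀ x y : L, e ⁅x, y⁆ = e x * e y - e y * e x)

include he in
theorem map_bracketWord (x y : L) (w : List Bool) :
    e (PLie.bracketWord (PLie.pair x y) y w) = bw (e x) (e y) w := by
  induction w with
  | nil => rfl
  | cons i w ih =>
    rw [PLie.bracketWord_cons, he, ih, bw_cons]
    cases i <;> simp [PLie.pair]

include he in
theorem map_jacobson (x y : L) :
    e (PLie.jacobson R p x y) =
      ∑ t : Fin (p - 1) → Bool,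
        ((ZMod.castHom (dvd_refl p) R) ((Fintype.card {i // t i = false} : ZMod p)⁻¹)) •
          bw (e x) (e y) (List.ofFn t) := by
  unfold PLie.jacobson
  rw [map_sum]
  refine Fintype.sum_congr _ _ fun t => ?_
  rw [map_smul, map_bracketWord e he]

include he in
/-- Jacobson's formula for the images of elements of a Lie algebra in an associative algebra. -/
theorem add_pow_map (x y : L) :
    (e x + e y) ^ p = e x ^ p + e y ^ p - e (PLie.jacobson R p x y) := by
  rw [map_jacobson p e he, jacobson_assoc (R := R) p]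

include he in
theorem map_ad_iterate (x : L) (n : ℕ) (w : L) :
    e ((fun v => ⁅x, v⁆)^[n] w) = (fun v => e x * v - v * e x)^[n] (e w) := by
  induction n with
  | zero => rfl
  | succ n ih =>
    rw [Function.iterate_succ_apply', Function.iterate_succ_apply', he, ih]

include he in
/-- `e ((ad x)^p w) = (e x)^p (e w) - (e w) (e x)^p`. -/
theorem map_ad_pow (x w : L) :
    e ((LieAlgebra.ad R L x ^ p) w) = e x ^ p * e w - e w * e x ^ p := by
  have h1 : (LieAlgebra.ad R L x ^ p) w = (fun v => ⁅x, v⁆)^[p] w := by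
    rw [Module.End.pow_apply]
    rfl
  rw [h1, map_ad_iterate e he,
    ad_pow_char p hp.out (natCast_eq_zero_of_algebra (R := R) p)]

end Lie

end Groth.Agent.H84.Jac
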