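import Mathlib
import Groth.Agent.H84.Jacobson

/-! Special case of Jacobson's formula when the brackets of `a` commute, and Hochschild's formula
`(f D)^p = f^p D^p + (f δ)^{p-1}(f) D` for an element `D` of a ring normalising a commutative
subring on which it induces a derivation. -/

set_option autoImplicit false

namespace Groth.Agent.H84.Hoch

open Polynomial Finset Groth.Agent.H84.Jac

section Special

variable {A : Type*} [Ring A]

/-- the inner derivation `w ↦ b w - w b` -/
def adf (b : A) : A → A := fun w => b * w - w * b

theorem adf_apply (b w : A) : adf b w = b * w - w * b := rfl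

theorem adf_zero (b : A) : adf b 0 = 0 := by simp [adf]

theorem adf_iter_zero (b : A) (j : ℕ) : (adf b)^[j] 0 = 0 :=
  Function.iterate_fixed (adf_zero b) j

theorem adf_sum {ι : Type*} (b : A) (s : Finset ι) (g : ι → A) :
    adf b (∑ i ∈ s, g i) = ∑ i ∈ s, adf b (g i) := by
  simp only [adf, Finset.mul_sum, Finset.sum_mul, Finset.sum_sub_distrib]

/-- `m` and all its iterated brackets with `b` commute with `a` -/
def InM (a b m : A) : Prop := ∀ j : ℕ, a * (adf b)^[j] m = (adf b)^[j] m * a

theorem inM_zero (a b : A) : InM a b 0 := fun j => by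
  rw [adf_iter_zero, mul_zero, zero_mul]

theorem inM_adf {a b m : A} (h : InM a b m) : InM a b (adf b m) := fun j => by
  rw [← Function.iterate_succ_apply]; exact h (j + 1)

theorem bw_allTrue (a b : A) : ∀ w : List Bool, (∀ x ∈ w, x = true) → w ≠ [] → bw a b w = 0
  | [], _, h => absurd rfl h
  | (i :: w), hall, _ => by
    have hi : i = true := hall i List.mem_cons_self
    subst hi
    show b * bw a b w - bw a b w * b = 0
    by_cases hw : w = []
    · subst hw
      show b * b - b * b = 0
      exact sub_self _
    · rw [bw_allTrue a b w (fun x hx => hall x (List.mem_cons_of_mem _ hx)) hw, mul_zero,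
        zero_mul, sub_zero]

theorem bw_mem (a b : A) (h : InM a b (a * b - b * a)) :
    ∀ w : List Bool, false ∈ w → InM a b (bw a b w)
  | [], hw => absurd hw List.not_mem_nil
  | (i :: w), hw => by
    by_cases hfw : false ∈ w
    · have ih := bw_mem a b h w hfw
      cases i with
      | false =>
        show InM a b (a * bw a b w - bw a b w * a)
        have h0 : a * bw a b w - bw a b w * a = 0 := sub_eq_zero.2 (ih 0)
        rw [h0]; exact inM_zero a b
      | true =>
        show InM a b (b * bw a b w - bw a b w * b)
        exact inM_adf ih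
    · have hi : i = false := by
        rcases List.mem_cons.1 hw with h1 | h1
        · exact h1.symm
        · exact absurd h1 hfw
      subst hi
      have hall : ∀ x ∈ w, x = true := fun x hx => by
        cases x with
        | false => exact absurd hx hfw
        | true => rfl
      show InM a b (a * bw a b w - bw a b w * a)
      by_cases hw' : w = []
      · subst hw'; exact h
      · rw [bw_allTrue a b w hall hw', mul_zero, zero_mul, sub_zero]; exact inM_zero a b

variable {R : Type*} [CommRing R] [Algebra R A]

theorem adf_smul (b : A) (r : R) (x : A) : adf b (r • x) = r • adf b x := by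
  simp only [adf, mul_smul_comm, smul_mul_assoc, smul_sub]

theorem sum_bw (a b : A) (h : InM a b (a * b - b * a)) (c : ℕ → R) (n : ℕ) :
    ∑ t : Fin (n + 1) → Bool, c ((List.ofFn t).count false) • bw a b (List.ofFn t) =
      c 1 • (adf b)^[n] (a * b - b * a) := by
  induction n with
  | zero =>
    have h0 := sumBool_succ 0 (fun w => c (w.count false) • bw a b w)
    beta_reduce at h0
    rw [h0, Fintype.sum_unique, Fintype.sum_unique]
    simp [bw]
  | succ n ih =>
    have h0 := sumBool_succ (n + 1) (fun w => c (w.count false) • bw a b w)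
    beta_reduce at h0
    rw [h0]
    have h1 : ∑ t : Fin (n + 1) → Bool,
        c ((false :: List.ofFn t).count false) • bw a b (false :: List.ofFn t) = 0 := by
      refine Finset.sum_eq_zero fun t _ => ?_
      have h3 : bw a b (false :: List.ofFn t) = 0 := by
        show a * bw a b (List.ofFn t) - bw a b (List.ofFn t) * a = 0
        by_cases hf : false ∈ List.ofFn t
        · exact sub_eq_zero.2 (bw_mem a b h _ hf 0)
        · have hall : ∀ x ∈ List.ofFn t, x = true := fun x hx => by
            cases x with
            | false => exact absurd hx hf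
            | true => rfl
          have hne : List.ofFn t ≠ [] := by
            intro h'
            have := congrArg List.length h'
            simp at this
          rw [bw_allTrue a b _ hall hne, mul_zero, zero_mul, sub_zero]
      rw [h3, smul_zero]
    have h2 : ∀ t : Fin (n + 1) → Bool,
        c ((true :: List.ofFn t).count false) • bw a b (true :: List.ofFn t) =
          adf b (c ((List.ofFn t).count false) • bw a b (List.ofFn t)) := by
      intro t
      have hc : (true :: List.ofFn t).count false = (List.ofFn t).count false := by simp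
      rw [hc, adf_smul]
      rfl
    rw [h1, zero_add, Finset.sum_congr rfl (fun t _ => h2 t), ← adf_sum, ih, adf_smul,
      Function.iterate_succ_apply']

end Special

/-- Jacobson's formula when `a` commutes with all iterated brackets `(ad b)^j [a, b]`. -/
theorem add_pow_of_inM (R : Type*) [CommRing R] (p : ℕ) [hp : Fact p.Prime] [CharP R p]
    {A : Type*} [Ring A] [Algebra R A] (a b : A) (h : InM a b (a * b - b * a)) :
    (a + b) ^ p = a ^ p + b ^ p - (adf b)^[p - 2] (a * b - b * a) := by
  have hJ := jacobson_assoc (R := R) p a b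
  have h2 : p - 1 = (p - 2) + 1 := by have := hp.out.two_le; omega
  have hsum : ∀ k : ℕ, ∑ t : Fin k → Bool,
        ((ZMod.castHom (dvd_refl p) R) ((Fintype.card {i // t i = false} : ZMod p)⁻¹)) •
          bw a b (List.ofFn t) =
      ∑ t : Fin k → Bool, (ZMod.castHom (dvd_refl p) R)
        ((((List.ofFn t).count false : ℕ) : ZMod p)⁻¹) • bw a b (List.ofFn t) := by
    intro k
    refine Finset.sum_congr rfl fun t _ => ?_
    rw [card_eq_count]
  have key : ∀ k : ℕ, k = (p - 2) + 1 →
      ∑ t : Fin k → Bool, (ZMod.castHom (dvd_refl p) R)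
        ((((List.ofFn t).count false : ℕ) : ZMod p)⁻¹) • bw a b (List.ofFn t) =
      (adf b)^[p - 2] (a * b - b * a) := by
    intro k hk
    subst hk
    have h3 := sum_bw a b h (fun m : ℕ => (ZMod.castHom (dvd_refl p) R) ((m : ZMod p)⁻¹)) (p - 2)
    beta_reduce at h3
    rw [h3]
    simp
  rw [hJ, hsum (p - 1), key (p - 1) h2]

section Hochschild

theorem mulLeft_pow_apply' {S : Type*} [CommSemiring S] {P : Type*} [Semiring P] [Algebra S P]
    (g : P) (k : ℕ) (w : P) : ((LinearMap.mulLeft S g) ^ k) w = g ^ k * w := by
  induction k generalizing w with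
  | zero => simp
  | succ k ih =>
    rw [pow_succ', Module.End.mul_apply, ih, LinearMap.mulLeft_apply, pow_succ', mul_assoc]

/-- **Hochschild's formula.** -/
theorem hochschild {B : Type*} [CommRing B] (p : ℕ) [hp : Fact p.Prime] [CharP B p]
    {E : Type*} [Ring E] (ι : B →+* E) (D : E) (d : Derivation ℤ B B)
    (hD : ∀ b : B, D * ι b = ι b * D + ι (d b)) (f : B) :
    (ι f * D) ^ p = ι (f ^ p) * D ^ p + ι ((⇑(f • d))^[p - 1] f) * D := by
  classical
  have hp2 : 2 ≤ p := hp.out.two_le
  let _ : Algebra (ZMod p) B := ZMod.algebra B p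
  let _ : Differential B := ⟨f • d⟩
  let Lt : Derivation ℤ B[X] B[X] := Differential.mapCoeffs
  have hLt_mon : ∀ (n : ℕ) (c : B), Lt (monomial n c) = monomial n ((f • d) c) := fun n c =>
    Differential.mapCoeffs_monomial n c
  let opA : Module.End (ZMod p) B[X] := LinearMap.mulLeft (ZMod p) (monomial 1 f)
  let opB : Module.End (ZMod p) B[X] :=
    AddMonoidHom.toZModLinearMap p (Lt : B[X] →ₗ[ℤ] B[X]).toAddMonoidHom
  have opB_apply : ∀ P : B[X], opB P = Lt P := fun P => rfl
  have opA_apply : ∀ P : B[X], opA P = monomial 1 f * P := fun P => rfl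
  have hbr : ∀ g : B[X], adf opB (LinearMap.mulLeft (ZMod p) g) =
      LinearMap.mulLeft (ZMod p) (Lt g) := by
    intro g
    refine LinearMap.ext fun P => ?_
    show opB (g * P) - g * opB P = Lt g * P
    rw [opB_apply, opB_apply, Derivation.leibniz, smul_eq_mul, smul_eq_mul]
    ring
  have iterA : ∀ (j : ℕ) (g : B[X]), (adf opB)^[j] (LinearMap.mulLeft (ZMod p) g) =
      LinearMap.mulLeft (ZMod p) ((⇑Lt)^[j] g) := by
    intro j g
    induction j with
    | zero => rfl
    | succ j ih => rw [Function.iterate_succ_apply', ih, hbr, Function.iterate_succ_apply']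
  have iterL : ∀ (j : ℕ) (c : B), (⇑Lt)^[j] (monomial 1 c) = monomial 1 ((⇑(f • d))^[j] c) := by
    intro j c
    induction j with
    | zero => rfl
    | succ j ih => rw [Function.iterate_succ_apply', ih, hLt_mon, Function.iterate_succ_apply']
  have iter_neg : ∀ (k : ℕ) (c : B), (⇑(f • d))^[k] (-c) = -(⇑(f • d))^[k] c := by
    intro k c
    induction k with
    | zero => rfl
    | succ k ih => rw [Function.iterate_succ_apply', ih, map_neg, Function.iterate_succ_apply']
  have hx0 : opA * opB - opB * opA =
      LinearMap.mulLeft (ZMod p) (monomial 1 (-((f • d) f))) := by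
    have h1 := hbr (monomial 1 f)
    rw [hLt_mon] at h1
    have h2 : opA * opB - opB * opA = -(adf opB opA) := by simp [adf]
    rw [h2, h1]
    refine LinearMap.ext fun P => ?_
    simp [LinearMap.mulLeft_apply]
  have hInM : InM opA opB (opA * opB - opB * opA) := by
    intro j
    rw [hx0, iterA]
    refine LinearMap.ext fun P => ?_
    show monomial 1 f * (_ * P) = _ * (monomial 1 f * P)
    ring
  have hJ := add_pow_of_inM (ZMod p) p opA opB hInM
  rw [hx0, iterA, iterL, iter_neg] at hJ
  have hK : ∀ P : B[X], ι f * D * eval₂ ι D P = eval₂ ι D ((opA + opB) P) := by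
    intro P
    induction P using Polynomial.induction_on' with
    | add P Q hP hQ => rw [eval₂_add, mul_add, hP, hQ, map_add, eval₂_add]
    | monomial k c =>
      rw [LinearMap.add_apply, opA_apply, opB_apply, hLt_mon, monomial_mul_monomial, eval₂_add,
        eval₂_monomial, eval₂_monomial, eval₂_monomial]
      have e1 : (f • d) c = f * d c := rfl
      rw [e1, map_mul, map_mul, mul_assoc (ι f) D, ← mul_assoc D, hD, add_mul, mul_add, pow_add,
        pow_one]
      simp only [mul_assoc]
  have hpow : ∀ (n : ℕ) (P : B[X]),
      (ι f * D) ^ n * eval₂ ι D P = eval₂ ι D (((opA + opB) ^ n) P) := by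
    intro n
    induction n with
    | zero => intro P; simp
    | succ n ih =>
      intro P
      rw [pow_succ', mul_assoc, ih, hK, pow_succ', Module.End.mul_apply]
  have hB0 : (opB ^ p) 1 = 0 := by
    obtain ⟨m, rfl⟩ : ∃ m, p = m + 1 := ⟨p - 1, by omega⟩
    rw [pow_succ, Module.End.mul_apply, opB_apply, Derivation.map_one_eq_zero, map_zero]
  have hiter : (⇑(f • d))^[p - 2] ((f • d) f) = (⇑(f • d))^[p - 1] f := by
    rw [← Function.iterate_succ_apply]
    congr 2
    omega
  have h1 := hpow p 1
  rw [eval₂_one, mul_one] at h1
  rw [h1, hJ, LinearMap.sub_apply, LinearMap.add_apply, mulLeft_pow_apply', mul_one, hB0, add_zero,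
    LinearMap.mulLeft_apply, mul_one, monomial_pow, one_mul, eval₂_sub, eval₂_monomial,
    eval₂_monomial, hiter, map_neg, neg_mul, sub_neg_eq_add, pow_one]

end Hochschild

end Groth.Agent.H84.Hoch
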