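import Mathlib
import Groth.Prelude.Def_EtLim
import Groth.Agent.H67.HpullBC.Defs

/-!
# (M) mate_counit for S14389 (helper67 squad), provided by helper84
-/

set_option autoImplicit false
universe v₁ u₁ u
open CategoryTheory CategoryTheory.Limits AlgebraicGeometry Opposite
open Groth.Agent.H67.HpullBC

namespace Groth.Agent.H84.HpullBC_M

section Abstract


variable {A B A' B' : Type u₁} [Category.{v₁} A] [Category.{v₁} B] [Category.{v₁} A'] [Category.{v₁} B']
  {Lf : A ⥤ B} {Rf : B ⥤ A} (adjf : Lf ⊣ Rf)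
  {Lg : A ⥤ A'} {Rg : A' ⥤ A} (adjg : Lg ⊣ Rg)
  {Lf' : A' ⥤ B'} {Rf' : B' ⥤ A'} (adjf' : Lf' ⊣ Rf')
  {Lg' : B ⥤ B'} {Rg' : B' ⥤ B} (adjg' : Lg' ⊣ Rg')
  {Lc : A ⥤ B'} {Rc : B' ⥤ A} (adjc : Lc ⊣ Rc)
  {Lc' : A ⥤ B'} {Rc' : B' ⥤ A} (adjc' : Lc' ⊣ Rc')
  (pcf : Rg' ⋙ Rf ≅ Rc) (pcg : Rf' ⋙ Rg ≅ Rc') (pcong : Rc ≅ Rc') (lcong : Lc ≅ Lc')

theorem unit_ofNatIsoRight_app {C D : Type u₁} [Category.{v₁} C] [Category.{v₁} D] {F : C ⥤ D}
    {G H : D ⥤ C} (adj : F ⊣ G) (iso : G ≅ H) (X : C) :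
    (adj.ofNatIsoRight iso).unit.app X = adj.unit.app X ≫ iso.hom.app (F.obj X) := by
  rw [← Adjunction.homEquiv_id, Adjunction.homEquiv_ofNatIsoRight_apply, Adjunction.homEquiv_id]

theorem mate_counit_abs
    (hconj : ∀ (P : A) (G : B') (φ : Lc'.obj P ⟶ G),
      adjc.homEquiv P G (lcong.hom.app P ≫ φ) = adjc'.homEquiv P G φ ≫ pcong.inv.app G)
    (F : B) :
    ((Adjunction.leftAdjointUniq adjc ((adjf.comp adjg').ofNatIsoRight pcf)).symm ≪≫ lcong ≪≫
        Adjunction.leftAdjointUniq adjc' ((adjg.comp adjf').ofNatIsoRight pcg)).hom.app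
          (Rf.obj F) ≫
      Lf'.map ((adjg.homEquiv _ _).symm (Rf.map (adjg'.unit.app F) ≫ pcf.hom.app _ ≫
        pcong.hom.app _ ≫ pcg.inv.app _)) ≫
      adjf'.counit.app (Lg'.obj F) =
    Lg'.map (adjf.counit.app F) := by
  set u := Adjunction.leftAdjointUniq adjc ((adjf.comp adjg').ofNatIsoRight pcf) with hu
  set u' := Adjunction.leftAdjointUniq adjc' ((adjg.comp adjf').ofNatIsoRight pcg) with hu'
  set β := Rf.map (adjg'.unit.app F) ≫ pcf.hom.app _ ≫ pcong.hom.app _ ≫ pcg.inv.app _ with hβ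
  set bc0 := (adjg.homEquiv _ _).symm β with hbc0
  have hΘ : (u.symm ≪≫ lcong ≪≫ u').hom.app (Rf.obj F) =
      u.inv.app (Rf.obj F) ≫ lcong.hom.app (Rf.obj F) ≫ u'.hom.app (Rf.obj F) := by
    simp
  rw [hΘ, Category.assoc, Category.assoc]
  -- move `u.inv` to the right
  have key : lcong.hom.app (Rf.obj F) ≫ u'.hom.app (Rf.obj F) ≫ Lf'.map bc0 ≫
      adjf'.counit.app (Lg'.obj F) = u.hom.app (Rf.obj F) ≫ Lg'.map (adjf.counit.app F) := by
    apply (adjc.homEquiv _ _).injective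
    -- right hand side
    have hR : adjc.homEquiv _ _ (u.hom.app (Rf.obj F) ≫ Lg'.map (adjf.counit.app F)) =
        Rf.map (adjg'.unit.app F) ≫ pcf.hom.app (Lg'.obj F) := by
      rw [Adjunction.homEquiv_naturality_right, hu, Adjunction.homEquiv_leftAdjointUniq_hom_app,
        unit_ofNatIsoRight_app, Adjunction.comp_unit_app, Category.assoc, Category.assoc]
      have h1 : pcf.hom.app ((Lf ⋙ Lg').obj (Rf.obj F)) ≫ Rc.map (Lg'.map (adjf.counit.app F)) =
          Rf.map (Rg'.map (Lg'.map (adjf.counit.app F))) ≫ pcf.hom.app (Lg'.obj F) :=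
        (pcf.hom.naturality (Lg'.map (adjf.counit.app F))).symm
      have h2 : adjg'.unit.app (Lf.obj (Rf.obj F)) ≫ Rg'.map (Lg'.map (adjf.counit.app F)) =
          adjf.counit.app F ≫ adjg'.unit.app F :=
        (adjg'.unit.naturality (adjf.counit.app F)).symm
      rw [h1, ← Category.assoc (Rf.map _), ← Rf.map_comp, h2, Rf.map_comp, Category.assoc,
        ← Category.assoc (adjf.unit.app _), adjf.right_triangle_components]
      exact Category.id_comp _
    -- left hand side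
    have hL : adjc.homEquiv _ _ (lcong.hom.app (Rf.obj F) ≫ u'.hom.app (Rf.obj F) ≫
        Lf'.map bc0 ≫ adjf'.counit.app (Lg'.obj F)) =
        Rf.map (adjg'.unit.app F) ≫ pcf.hom.app (Lg'.obj F) := by
      rw [hconj, Adjunction.homEquiv_naturality_right, hu',
        Adjunction.homEquiv_leftAdjointUniq_hom_app, unit_ofNatIsoRight_app,
        Adjunction.comp_unit_app, Category.assoc, Category.assoc, Category.assoc]
      have h1 : pcg.hom.app ((Lg ⋙ Lf').obj (Rf.obj F)) ≫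
          Rc'.map (Lf'.map bc0 ≫ adjf'.counit.app (Lg'.obj F)) =
          Rg.map (Rf'.map (Lf'.map bc0 ≫ adjf'.counit.app (Lg'.obj F))) ≫
            pcg.hom.app (Lg'.obj F) :=
        (pcg.hom.naturality (Lf'.map bc0 ≫ adjf'.counit.app (Lg'.obj F))).symm
      have h2 : adjf'.unit.app (Lg.obj (Rf.obj F)) ≫
          Rf'.map (Lf'.map bc0 ≫ adjf'.counit.app (Lg'.obj F)) = bc0 := by
        rw [Rf'.map_comp, ← Category.assoc]
        have := adjf'.unit.naturality bc0
        simp only [Functor.id_obj, Functor.id_map, Functor.comp_obj, Functor.comp_map] at this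
        rw [← this, Category.assoc, adjf'.right_triangle_components, Category.comp_id]
      have h3 : adjg.unit.app (Rf.obj F) ≫ Rg.map bc0 = β := by
        exact (adjg.homEquiv_unit _ _ bc0).symm.trans (Equiv.apply_symm_apply _ _)
      have h1' : ∀ {Z : A} (k : Rc'.obj (Lg'.obj F) ⟶ Z),
          pcg.hom.app ((Lg ⋙ Lf').obj (Rf.obj F)) ≫
          Rc'.map (Lf'.map bc0 ≫ adjf'.counit.app (Lg'.obj F)) ≫ k =
          Rg.map (Rf'.map (Lf'.map bc0 ≫ adjf'.counit.app (Lg'.obj F))) ≫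
            pcg.hom.app (Lg'.obj F) ≫ k := by
        intro Z k
        rw [← Category.assoc, h1, Category.assoc]
      rw [h1', ← Category.assoc (Rg.map _), ← Rg.map_comp, h2,
        ← Category.assoc (adjg.unit.app _), h3, hβ]
      simp
    exact hL.trans hR.symm
  refine (congrArg (fun t => u.inv.app (Rf.obj F) ≫ t) key).trans ?_
  show u.inv.app (Rf.obj F) ≫ u.hom.app (Rf.obj F) ≫ Lg'.map (adjf.counit.app F) = _
  rw [← Category.assoc, Iso.inv_hom_id_app]
  exact Category.id_comp _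


end Abstract


set_option backward.isDefEq.respectTransparency.types false in
theorem pullbackCongr_rfl_hom_app {X Y : Scheme.{u}} (c : X ⟶ Y) (A : Y.Etale) :
    (MorphismProperty.Over.pullbackCongr (P := EtCoh.etaleMP) (Q := ⊤) (rfl : c = c)).hom.app A
      = 𝟙 _ := by
  apply MorphismProperty.Over.Hom.ext
  simp [MorphismProperty.Over.pullbackCongr]
  rfl

set_option backward.isDefEq.respectTransparency.types false in
theorem pushCongr_rfl_inv_app {X Y : Scheme.{u}} (c : X ⟶ Y) (G : EtCoh.Ab X) :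
    (EtCoh.pushCongr (rfl : c = c)).inv.app G = 𝟙 _ := by
  apply ObjectProperty.hom_ext
  ext U x
  simp only [EtCoh.pushCongr, Functor.sheafPushforwardContinuousIso_inv,
    Functor.sheafPushforwardContinuousNatTrans_app_hom, Functor.whiskerRight_app, NatTrans.op_app,
    pullbackCongr_rfl_hom_app]
  exact ConcreteCategory.congr_hom (G.obj.map_id (op ((EtCoh.bc c).obj (unop U)))) x

theorem conj_congr {X Y : Scheme.{u}} {c c' : X ⟶ Y} (h : c = c') (P : EtCoh.Ab Y)
    (G : EtCoh.Ab X) (φ : (EtCoh.pull c').obj P ⟶ G) :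
    (EtCoh.pullPushAdj c).homEquiv P G ((EtCore.pullCongr h).hom.app P ≫ φ) =
      (EtCoh.pullPushAdj c').homEquiv P G φ ≫ (EtCoh.pushCongr h).inv.app G := by
  subst h
  rw [pushCongr_rfl_inv_app, Category.comp_id]
  simp [EtCore.pullCongr]


variable {X Y X' Y' : Scheme.{u}} (f : X ⟶ Y) (g : Y' ⟶ Y) (f' : X' ⟶ Y') (g' : X' ⟶ X)
  (w : g' ≫ f = f' ≫ g)


theorem Theta_eq : Theta f g f' g' w = ((Adjunction.leftAdjointUniq (EtCoh.pullPushAdj (g' ≫ f))
        (((EtCoh.pullPushAdj f).comp (EtCoh.pullPushAdj g')).ofNatIsoRight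
          (EtCoh.pushComp f g'))).symm ≪≫ EtCore.pullCongr w ≪≫
      Adjunction.leftAdjointUniq (EtCoh.pullPushAdj (f' ≫ g))
        (((EtCoh.pullPushAdj g).comp (EtCoh.pullPushAdj f')).ofNatIsoRight
          (EtCoh.pushComp g f'))) := rfl

theorem bc0_eq (F : EtCoh.Ab X) : EtCoh.baseChange0 f g f' g' w F = (((EtCoh.pullPushAdj g).homEquiv ((EtCoh.push f).obj F)
        ((EtCoh.push f').obj ((EtCoh.pull g').obj F))).symm
        ((EtCoh.push f).map ((EtCoh.pullPushAdj g').unit.app F) ≫ (EtCoh.pushComp f g').hom.app _ ≫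
          (EtCoh.pushCongr w).hom.app _ ≫ (EtCoh.pushComp g f').inv.app _)) := rfl

theorem mc_unfolded (F : EtCoh.Ab X) :
    ((Adjunction.leftAdjointUniq (EtCoh.pullPushAdj (g' ≫ f))
        (((EtCoh.pullPushAdj f).comp (EtCoh.pullPushAdj g')).ofNatIsoRight
          (EtCoh.pushComp f g'))).symm ≪≫ EtCore.pullCongr w ≪≫
      Adjunction.leftAdjointUniq (EtCoh.pullPushAdj (f' ≫ g))
        (((EtCoh.pullPushAdj g).comp (EtCoh.pullPushAdj f')).ofNatIsoRight
          (EtCoh.pushComp g f'))).hom.app ((EtCoh.push f).obj F) ≫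
      (EtCoh.pull f').map (((EtCoh.pullPushAdj g).homEquiv ((EtCoh.push f).obj F)
        ((EtCoh.push f').obj ((EtCoh.pull g').obj F))).symm
        ((EtCoh.push f).map ((EtCoh.pullPushAdj g').unit.app F) ≫ (EtCoh.pushComp f g').hom.app _ ≫
          (EtCoh.pushCongr w).hom.app _ ≫ (EtCoh.pushComp g f').inv.app _)) ≫
      (EtCoh.pullPushAdj f').counit.app ((EtCoh.pull g').obj F) =
    (EtCoh.pull g').map ((EtCoh.pullPushAdj f).counit.app F) :=
  mate_counit_abs (EtCoh.pullPushAdj f) (EtCoh.pullPushAdj g) (EtCoh.pullPushAdj f')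
    (EtCoh.pullPushAdj g') (EtCoh.pullPushAdj (g' ≫ f)) (EtCoh.pullPushAdj (f' ≫ g))
    (EtCoh.pushComp f g') (EtCoh.pushComp g f') (EtCoh.pushCongr w) (EtCore.pullCongr w)
    (fun P G φ => conj_congr w P G φ) F

theorem mate_counit (F : EtCoh.Ab X) :
    (Theta f g f' g' w).hom.app ((EtCoh.push f).obj F) ≫
      (EtCoh.pull f').map (EtCoh.baseChange0 f g f' g' w F) ≫
      (EtCoh.pullPushAdj f').counit.app ((EtCoh.pull g').obj F) =
    (EtCoh.pull g').map ((EtCoh.pullPushAdj f).counit.app F) := by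
  rw [Theta_eq, bc0_eq]
  exact mc_unfolded f g f' g' w F

end Groth.Agent.H84.HpullBC_M
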