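import Mathlib
import Groth.Prelude.Def_Cyc
import Groth.Agent.H85.CycOpen

/-!
# (CIa) for helper34 (S1929): orders along specializations on a closed subscheme
-/

set_option autoImplicit false
set_option linter.style.haveILetI false

universe u

open CategoryTheory AlgebraicGeometry TopologicalSpace Opposite

namespace Groth.Agent.H84.KeyCIa

variable {X D : Scheme.{u}}

/-- (CIa) orders along specializations are the same on a closed subscheme and on the ambient
scheme (`O_{D,d}/𝔭_{d'}` is `O_{X,i d}/𝔭_{i d'}`, and `κ(d') = κ(i d')`). -/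
theorem ordAt_residueFieldMap (i : D ⟶ X) [IsClosedImmersion i] {d d' : D} (h : d' ⤳ d)
    (h' : i d' ⤳ i d) (g : X.residueField (i d')) :
    Cyc.ordAt d d' h ((i.residueFieldMap d').hom g) = Cyc.ordAt (i d) (i d') h' g := by
  -- the stalk maps are surjective
  have hsurj : ∀ z : D, Function.Surjective (i.stalkMap z).hom := fun z =>
    i.stalkMap_surjective z
  -- the residue field map is bijective
  have hres_inj : Function.Injective (i.residueFieldMap d').hom :=
    RingHom.injective (i.residueFieldMap d').hom
  have hres_surj : Function.Surjective (i.residueFieldMap d').hom := by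
    intro y
    obtain ⟨c, rfl⟩ := D.residue_surjective d' y
    obtain ⟨c', rfl⟩ := hsurj d' c
    refine ⟨X.residue (i d') c', ?_⟩
    have := congrArg (fun φ => φ.hom c') (Scheme.residue_residueFieldMap i d')
    exact this
  let σ : X.residueField (i d') ≃+* D.residueField d' :=
    RingEquiv.ofBijective (i.residueFieldMap d').hom ⟨hres_inj, hres_surj⟩
  -- compatibility of the specialization maps
  have hcomm : ∀ a : X.presheaf.stalk (i d),
      Cyc.specMap d d' h ((i.stalkMap d).hom a) =
        (i.residueFieldMap d').hom (Cyc.specMap (i d) (i d') h' a) :=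
    fun a => Groth.Agent.H85.CycOpen.specMap_comm i h a
  have hker : RingHom.ker (Cyc.specMap (i d) (i d') h') =
      (RingHom.ker (Cyc.specMap d d' h)).comap (i.stalkMap d).hom := by
    ext a
    rw [Ideal.mem_comap, RingHom.mem_ker, RingHom.mem_ker, hcomm]
    exact (map_eq_zero_iff _ hres_inj).symm
  let ψ : Cyc.LocQuot (i d) (i d') h' →+* Cyc.LocQuot d d' h :=
    Ideal.quotientMap (RingHom.ker (Cyc.specMap d d' h)) (i.stalkMap d).hom hker.le
  have hψ_inj : Function.Injective ψ := Ideal.quotientMap_injective' hker.ge
  have hψ_surj : Function.Surjective ψ := Ideal.quotientMap_surjective (hsurj d)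
  let e : Cyc.LocQuot (i d) (i d') h' ≃+* Cyc.LocQuot d d' h :=
    RingEquiv.ofBijective ψ ⟨hψ_inj, hψ_surj⟩
  have hcompat : ∀ r : Cyc.LocQuot (i d) (i d') h',
      σ (algebraMap (Cyc.LocQuot (i d) (i d') h') (X.residueField (i d')) r) =
        algebraMap (Cyc.LocQuot d d' h) (D.residueField d') (e r) := by
    intro r
    obtain ⟨a, rfl⟩ := Ideal.Quotient.mk_surjective r
    have e1 : e (Ideal.Quotient.mk (RingHom.ker (Cyc.specMap (i d) (i d') h')) a) =
        Ideal.Quotient.mk (RingHom.ker (Cyc.specMap d d' h)) ((i.stalkMap d).hom a) :=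
      Ideal.quotientMap_mk (I := RingHom.ker (Cyc.specMap d d' h))
        (J := RingHom.ker (Cyc.specMap (i d) (i d') h')) (f := (i.stalkMap d).hom) (H := hker.le)
    rw [e1]
    exact (hcomm a).symm
  unfold Cyc.ordAt
  exact Groth.Agent.H85.CycOpen.ordFrac_congr e σ hcompat g

end Groth.Agent.H84.KeyCIa
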