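import Mathlib
import Groth.Prelude.Def_HopfRep
import Groth.Agent.H83.TkConv

/-!
# Points of an affine group acting on a comodule (helper84)

For a comodule `E` over a commutative Hopf algebra `K` and an `R`-point `g : K →ₐ[k] R`, the
`R`-linear endomorphism `act g` of `R ⊗ E`, `r ⊗ e ↦ Σ r g(e₁) ⊗ e₀`.

* `act_mul`: `act (g * h) = act g ∘ act h` (convolution product of points)
* `act_natural`: compatibility with base change `R → R'`
* `baseChange_act`: an equivariant functional `π : E → k` is `act`-invariant
-/

set_option autoImplicit false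
universe u v w

open TensorProduct WithConv

namespace Groth.Agent.H84.LRE

attribute [local instance] Groth.Agent.H83.Tk.grp

section act

variable {k : Type u} [CommRing k] {K : Type v} [CommRing K] [HopfAlgebra k K]
variable {E : Type w} [AddCommGroup E] [Module k E] [HopfRep.Comod k K E]
variable {R : Type*} [CommRing R] [Algebra k R]

/-- `e ↦ Σ g(e₁) ⊗ e₀`. -/
noncomputable def cg (g : K →ₐ[k] R) : E →ₗ[k] R ⊗[k] E :=
  (TensorProduct.comm k E R).toLinearMap ∘ₗ (g.toLinearMap.lTensor E) ∘ₗ
    HopfRep.Comod.coact (k := k) (A := K) (V := E)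

theorem cg_apply (g : K →ₐ[k] R) (e : E) :
    cg g e = TensorProduct.comm k E R (g.toLinearMap.lTensor E
      (HopfRep.Comod.coact (k := k) (A := K) (V := E) e)) := rfl

/-- The action of the `R`-point `g` on `R ⊗ E`. -/
noncomputable def act (g : K →ₐ[k] R) : R ⊗[k] E →ₗ[R] R ⊗[k] E :=
  LinearMap.liftBaseChange R (cg g)

@[simp] theorem act_tmul (g : K →ₐ[k] R) (r : R) (e : E) : act g (r ⊗ₜ[k] e) = r • cg g e :=
  LinearMap.liftBaseChange_tmul ..

/-- auxiliary: `e ⊗ (c ⊗ c') ↦ g(c)h(c') ⊗ e` -/
noncomputable def Bgh (g h : K →ₐ[k] R) : E ⊗[k] (K ⊗[k] K) →ₗ[k] R ⊗[k] E :=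
  (TensorProduct.comm k E R).toLinearMap ∘ₗ
    LinearMap.lTensor E ((Algebra.TensorProduct.lift g h (fun _ _ => Commute.all _ _)).toLinearMap)

theorem act_cg (g h : K →ₐ[k] R) (e : E) :
    act g (cg h e) = cg (toConv g * toConv h).ofConv e := by
  have h1 : ∀ z : E ⊗[k] K, act g (TensorProduct.comm k E R (h.toLinearMap.lTensor E z)) =
      Bgh g h (TensorProduct.assoc k E K K
        ((HopfRep.Comod.coact (k := k) (A := K) (V := E)).rTensor K z)) := by
    intro z
    induction z using TensorProduct.induction_on with
    | zero => simp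
    | add x y hx hy => simp only [map_add, hx, hy]
    | tmul e' c' =>
      have h2 : ∀ y : E ⊗[k] K, h c' • TensorProduct.comm k E R (g.toLinearMap.lTensor E y) =
          Bgh g h (TensorProduct.assoc k E K K (y ⊗ₜ[k] c')) := by
        intro y
        induction y using TensorProduct.induction_on with
        | zero => simp
        | add x y hx hy => simp only [map_add, smul_add, TensorProduct.add_tmul, hx, hy]
        | tmul e'' c'' =>
          simp only [LinearMap.lTensor_tmul, AlgHom.toLinearMap_apply, TensorProduct.comm_tmul,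
            TensorProduct.assoc_tmul, Bgh, LinearMap.comp_apply, LinearEquiv.coe_coe,
            Algebra.TensorProduct.lift_tmul, TensorProduct.smul_tmul', smul_eq_mul]
          rw [mul_comm]
      simp only [LinearMap.lTensor_tmul, AlgHom.toLinearMap_apply, TensorProduct.comm_tmul,
        act_tmul, LinearMap.rTensor_tmul]
      rw [cg_apply, h2]
  rw [cg_apply, h1]
  have h3 := LinearMap.congr_fun (HopfRep.Comod.coassoc (k := k) (A := K) (V := E)) e
  simp only [LinearMap.comp_apply, LinearEquiv.coe_coe] at h3
  rw [h3, cg_apply]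
  generalize HopfRep.Comod.coact (k := k) (A := K) (V := E) e = y
  induction y using TensorProduct.induction_on with
  | zero => simp
  | add x y hx hy => simp only [map_add, hx, hy]
  | tmul e' c' =>
    simp only [LinearMap.lTensor_tmul, Bgh, LinearMap.comp_apply, LinearEquiv.coe_coe,
      AlgHom.toLinearMap_apply, TensorProduct.comm_tmul]
    rw [AlgHom.convMul_apply]

/-- `act` is multiplicative for the convolution product of points. -/
theorem act_mul (g h : K →ₐ[k] R) :
    act (E := E) (toConv g * toConv h).ofConv = act g ∘ₗ act h := by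
  apply TensorProduct.AlgebraTensorModule.ext
  intro r e
  rw [LinearMap.comp_apply, act_tmul, act_tmul, map_smul, act_cg]

theorem rTensor_smul {R' : Type*} [CommRing R'] [Algebra k R'] (f : R →ₐ[k] R') (r : R)
    (w : R ⊗[k] E) :
    f.toLinearMap.rTensor E (r • w) = f r • f.toLinearMap.rTensor E w := by
  induction w using TensorProduct.induction_on with
  | zero => simp
  | add x y hx hy => simp only [map_add, smul_add, hx, hy]
  | tmul r' e =>
    simp only [TensorProduct.smul_tmul', smul_eq_mul, LinearMap.rTensor_tmul,
      AlgHom.toLinearMap_apply, map_mul]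

theorem rTensor_cg {R' : Type*} [CommRing R'] [Algebra k R'] (f : R →ₐ[k] R') (g : K →ₐ[k] R)
    (e : E) : f.toLinearMap.rTensor E (cg g e) = cg (f.comp g) e := by
  rw [cg_apply, cg_apply]
  generalize HopfRep.Comod.coact (k := k) (A := K) (V := E) e = y
  induction y using TensorProduct.induction_on with
  | zero => simp
  | add x y hx hy => simp only [map_add, hx, hy]
  | tmul e' c' => simp

/-- naturality of `act` in the coefficient algebra -/
theorem act_natural {R' : Type*} [CommRing R'] [Algebra k R'] (f : R →ₐ[k] R') (g : K →ₐ[k] R)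
    (z : R ⊗[k] E) :
    f.toLinearMap.rTensor E (act g z) = act (f.comp g) (f.toLinearMap.rTensor E z) := by
  induction z using TensorProduct.induction_on with
  | zero => simp
  | add x y hx hy => simp only [map_add, hx, hy]
  | tmul r e =>
    rw [act_tmul, rTensor_smul, rTensor_cg, LinearMap.rTensor_tmul, act_tmul]
    rfl

/-- an equivariant functional is invariant under `act` -/
theorem baseChange_cg (π : E →ₗ[k] k)
    (hπ : LinearMap.rTensor K π ∘ₗ HopfRep.Comod.coact (k := k) (A := K) (V := E) =
      (TensorProduct.mk k k K).flip (1 : K) ∘ₗ π) (g : K →ₐ[k] R) (e : E) :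
    π.baseChange R (cg g e) = (1 : R) ⊗ₜ[k] π e := by
  have h1 : ∀ y : E ⊗[k] K, π.baseChange R (TensorProduct.comm k E R (g.toLinearMap.lTensor E y)) =
      TensorProduct.comm k k R (g.toLinearMap.lTensor k (π.rTensor K y)) := by
    intro y
    induction y using TensorProduct.induction_on with
    | zero => simp
    | add x y hx hy => simp only [map_add, hx, hy]
    | tmul e' c' => simp
  rw [cg_apply, h1]
  have h2 := LinearMap.congr_fun hπ e
  simp only [LinearMap.comp_apply] at h2
  rw [h2]
  simp

theorem baseChange_act (π : E →ₗ[k] k)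
    (hπ : LinearMap.rTensor K π ∘ₗ HopfRep.Comod.coact (k := k) (A := K) (V := E) =
      (TensorProduct.mk k k K).flip (1 : K) ∘ₗ π) (g : K →ₐ[k] R) (z : R ⊗[k] E) :
    π.baseChange R (act g z) = π.baseChange R z := by
  induction z using TensorProduct.induction_on with
  | zero => simp
  | add x y hx hy => simp only [map_add, hx, hy]
  | tmul r e =>
    rw [act_tmul, map_smul, baseChange_cg π hπ, LinearMap.baseChange_tmul,
      TensorProduct.smul_tmul', smul_eq_mul, mul_one]

end act

end Groth.Agent.H84.LRE
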