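import Groth.Agent.H84.LRE1
import Groth.Agent.H93.Integral

/-!
# Descent of invariants along a torsor `G → Q` under `K` (helper84)
-/

set_option autoImplicit false
universe u v w

open TensorProduct WithConv

namespace Groth.Agent.H84.LRE

attribute [local instance] Groth.Agent.H83.Tk.grp

section ff

/-- faithfully flat descent of membership in the range of a linear map -/
theorem mem_range_of_ff {Q G : Type*} [CommRing Q] [CommRing G] [Algebra Q G]
    [Module.FaithfullyFlat Q G] {N P : Type*} [AddCommGroup N] [Module Q N] [AddCommGroup P]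
    [Module Q P] (f : N →ₗ[Q] P) (x : P)
    (h : (1 : G) ⊗ₜ[Q] x ∈ LinearMap.range (f.lTensor G)) : x ∈ LinearMap.range f := by
  obtain ⟨Θ, hΘ⟩ := h
  set q := (LinearMap.range f).mkQ with hq
  have h0 : q ∘ₗ f = 0 := by
    ext n
    simp [hq]
  have h1 : q.lTensor G (f.lTensor G Θ) = 0 := by
    rw [← LinearMap.comp_apply, ← LinearMap.lTensor_comp, h0, LinearMap.lTensor_zero,
      LinearMap.zero_apply]
  rw [hΘ, LinearMap.lTensor_tmul] at h1
  have h2 : TensorProduct.mk Q G _ 1 (q x) = TensorProduct.mk Q G _ 1 0 := by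
    simpa using h1
  have h3 := Module.FaithfullyFlat.tensorProduct_mk_injective (A := Q) (B := G) _ h2
  exact (Submodule.Quotient.mk_eq_zero _).mp h3

end ff

section desc

variable {k : Type u} [Field k] {Q G K : Type u} [CommRing Q] [CommRing G] [CommRing K]
  [HopfAlgebra k Q] [HopfAlgebra k G] [HopfAlgebra k K]
  (φ : Q →ₐc[k] G) (ψ : G →ₐc[k] K)
  [Algebra Q G] [IsScalarTower k Q G]

/-- `a ↦ Σ a₁ ⊗ ψ(a₂)` -/
noncomputable def coK : G →ₐ[k] G ⊗[k] K :=
  (Algebra.TensorProduct.map (AlgHom.id k G) (ψ : G →ₐ[k] K)).comp (Bialgebra.comulAlgHom k G)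

theorem coK_eq : toConv (coK ψ) =
    toConv (Algebra.TensorProduct.includeLeft : G →ₐ[k] G ⊗[k] K) *
      toConv ((Algebra.TensorProduct.includeRight : K →ₐ[k] G ⊗[k] K).comp (ψ : G →ₐ[k] K)) := by
  apply WithConv.ofConv_injective
  apply AlgHom.ext
  intro a
  rw [AlgHom.convMul_apply]
  change Algebra.TensorProduct.map (AlgHom.id k G) (ψ : G →ₐ[k] K) (Coalgebra.comul (R := k) a) = _
  generalize Coalgebra.comul (R := k) a = t
  induction t using TensorProduct.induction_on with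
  | zero => simp
  | add x y hx hy => simp only [map_add, hx, hy]
  | tmul x y => simp

include φ in
theorem coK_commutes (hφ : ∀ q, algebraMap Q G q = φ q)
    (hψφ : ∀ q, ψ (φ q) = algebraMap k K (Coalgebra.counit q)) (q : Q) :
    coK ψ (algebraMap Q G q) = algebraMap Q (G ⊗[k] K) q := by
  rw [hφ, Algebra.TensorProduct.algebraMap_apply, hφ]
  change Algebra.TensorProduct.map (AlgHom.id k G) (ψ : G →ₐ[k] K)
    (Coalgebra.comul (R := k) (φ q)) = _
  rw [← CoalgHomClass.map_comp_comul_apply]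
  have h1 : ∀ t : Q ⊗[k] Q, Algebra.TensorProduct.map (AlgHom.id k G) (ψ : G →ₐ[k] K)
      (TensorProduct.map (φ : Q →ₗ[k] G) (φ : Q →ₗ[k] G) t) =
      TensorProduct.map (φ : Q →ₗ[k] G) (Algebra.linearMap k K)
        (LinearMap.lTensor Q (Coalgebra.counit (R := k) (A := Q)) t) := by
    intro t
    induction t using TensorProduct.induction_on with
    | zero => simp
    | add x y hx hy => simp only [map_add, hx, hy]
    | tmul x y => simp [hψφ]
  rw [h1, Coalgebra.lTensor_counit_comul]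
  simp

/-- `coK` as a `Q`-algebra map -/
noncomputable def coKQ (hφ : ∀ q, algebraMap Q G q = φ q)
    (hψφ : ∀ q, ψ (φ q) = algebraMap k K (Coalgebra.counit q)) : G →ₐ[Q] G ⊗[k] K :=
  { (coK ψ : G →+* G ⊗[k] K) with
    commutes' := coK_commutes φ ψ hφ hψφ }

@[simp] theorem coKQ_apply (hφ : ∀ q, algebraMap Q G q = φ q)
    (hψφ : ∀ q, ψ (φ q) = algebraMap k K (Coalgebra.counit q)) (a : G) :
    coKQ φ ψ hφ hψφ a = coK ψ a := rfl

variable {E : Type u} [AddCommGroup E] [Module k E] [HopfRep.Comod k K E]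

/-- the difference of the two coactions on `G ⊗ E` (kernel = induced module) -/
noncomputable def dmap (hφ : ∀ q, algebraMap Q G q = φ q)
    (hψφ : ∀ q, ψ (φ q) = algebraMap k K (Coalgebra.counit q)) :
    G ⊗[k] E →ₗ[Q] (G ⊗[k] K) ⊗[k] E :=
  ((act (E := E) (Algebra.TensorProduct.includeRight : K →ₐ[k] G ⊗[k] K)).restrictScalars Q) ∘ₗ
    (TensorProduct.AlgebraTensorModule.map (coKQ φ ψ hφ hψφ).toLinearMap LinearMap.id)
  - TensorProduct.AlgebraTensorModule.map
      (Algebra.TensorProduct.includeLeft : G →ₐ[Q] G ⊗[k] K).toLinearMap LinearMap.id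

theorem dmap_tmul (hφ : ∀ q, algebraMap Q G q = φ q)
    (hψφ : ∀ q, ψ (φ q) = algebraMap k K (Coalgebra.counit q)) (x : G) (e : E) :
    dmap φ ψ hφ hψφ (x ⊗ₜ[k] e) =
      coK ψ x • cg (Algebra.TensorProduct.includeRight : K →ₐ[k] G ⊗[k] K) e -
        (x ⊗ₜ[k] (1 : K)) ⊗ₜ[k] e := by
  simp [dmap]

/-- `x ⊗ e ↦ π(e) x` -/
noncomputable def pmap (π : E →ₗ[k] k) : G ⊗[k] E →ₗ[Q] G :=
  (TensorProduct.AlgebraTensorModule.rid k Q G).toLinearMap ∘ₗ
    TensorProduct.AlgebraTensorModule.map LinearMap.id π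

@[simp] theorem pmap_tmul (π : E →ₗ[k] k) (x : G) (e : E) :
    pmap (Q := Q) π (x ⊗ₜ[k] e) = π e • x := by
  simp [pmap]

end desc

end Groth.Agent.H84.LRE
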