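import Groth.Agent.H84.LRE2

/-!
# Descent of invariants along a torsor, part 2: the universal invariant element (helper84)
-/

set_option autoImplicit false
universe u v w

open TensorProduct WithConv

namespace Groth.Agent.H84.LRE

attribute [local instance] Groth.Agent.H83.Tk.grp

theorem grp_aux {Γ : Type*} [Group Γ] (p u w : Γ) : p * ((u * p)⁻¹ * w) = u⁻¹ * w := by
  group

section desc

variable {k : Type u} [Field k] {Q G K : Type u} [CommRing Q] [CommRing G] [CommRing K]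
  [HopfAlgebra k Q] [HopfAlgebra k G] [HopfAlgebra k K]
  (φ : Q →ₐc[k] G) (ψ : G →ₐc[k] K)
  [Algebra Q G] [IsScalarTower k Q G]
  {E : Type u} [AddCommGroup E] [Module k E] [HopfRep.Comod k K E]

/-- the inclusion `G ⊗ K → G ⊗[Q] (G ⊗ K)` -/
noncomputable def jR : (G ⊗[k] K) →ₐ[k] G ⊗[Q] (G ⊗[k] K) :=
  (Algebra.TensorProduct.includeRight : (G ⊗[k] K) →ₐ[Q] G ⊗[Q] (G ⊗[k] K)).restrictScalars k

omit [HopfRep.Comod k K E] in
theorem assoc_smul (g : G) (y : G ⊗[k] K) (w : (G ⊗[k] K) ⊗[k] E) :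
    TensorProduct.AlgebraTensorModule.assoc k Q Q G (G ⊗[k] K) E
      ((g ⊗ₜ[Q] y) • (jR (k := k) (Q := Q) (G := G) (K := K)).toLinearMap.rTensor E w) =
      g ⊗ₜ[Q] (y • w) := by
  induction w using TensorProduct.induction_on with
  | zero => simp
  | add x y hx hy => simp only [map_add, smul_add, hx, hy, TensorProduct.tmul_add]
  | tmul y' e =>
    simp only [LinearMap.rTensor_tmul, AlgHom.toLinearMap_apply, TensorProduct.smul_tmul',
      smul_eq_mul]
    change TensorProduct.AlgebraTensorModule.assoc k Q Q G (G ⊗[k] K) E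
      (((g ⊗ₜ[Q] y) * ((1 : G) ⊗ₜ[Q] y')) ⊗ₜ[k] e) = _
    rw [Algebra.TensorProduct.tmul_mul_tmul, mul_one,
      TensorProduct.AlgebraTensorModule.assoc_tmul]

variable (hφ : ∀ q, algebraMap Q G q = φ q)
    (hψφ : ∀ q, ψ (φ q) = algebraMap k K (Coalgebra.counit q))

/-- `id ⊗ coK` -/
noncomputable def idΔ : G ⊗[Q] G →ₐ[k] G ⊗[Q] (G ⊗[k] K) :=
  (Algebra.TensorProduct.map (AlgHom.id Q G) (coKQ φ ψ hφ hψφ)).restrictScalars k

/-- `id ⊗ includeLeft` -/
noncomputable def idi : G ⊗[Q] G →ₐ[k] G ⊗[Q] (G ⊗[k] K) :=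
  (Algebra.TensorProduct.map (AlgHom.id Q G)
    (Algebra.TensorProduct.includeLeft : G →ₐ[Q] G ⊗[k] K)).restrictScalars k

/-- the `K`-point `c ↦ 1 ⊗ (1 ⊗ c)` -/
noncomputable def u₃ : K →ₐ[k] G ⊗[Q] (G ⊗[k] K) :=
  (jR (k := k) (Q := Q) (G := G) (K := K)).comp
    (Algebra.TensorProduct.includeRight : K →ₐ[k] G ⊗[k] K)

theorem sq1 (z : (G ⊗[Q] G) ⊗[k] E) :
    (dmap (E := E) φ ψ hφ hψφ).lTensor G (TensorProduct.AlgebraTensorModule.assoc k Q Q G G E z) =
      TensorProduct.AlgebraTensorModule.assoc k Q Q G (G ⊗[k] K) E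
        (act (u₃ (k := k) (Q := Q) (G := G) (K := K))
            ((idΔ φ ψ hφ hψφ).toLinearMap.rTensor E z) -
          (idi (k := k) (Q := Q) (G := G) (K := K)).toLinearMap.rTensor E z) := by
  induction z using TensorProduct.induction_on with
  | zero => simp
  | add x y hx hy =>
    simp only [map_add, hx, hy, map_sub]
    abel
  | tmul w e =>
    induction w using TensorProduct.induction_on with
    | zero => simp
    | add x y hx hy =>
      simp only [TensorProduct.add_tmul, map_add, hx, hy, map_sub]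
      abel
    | tmul g x =>
      rw [TensorProduct.AlgebraTensorModule.assoc_tmul, LinearMap.lTensor_tmul, dmap_tmul,
        LinearMap.rTensor_tmul, LinearMap.rTensor_tmul, act_tmul, map_sub,
        TensorProduct.tmul_sub]
      congr 1
      · have h1 : cg (E := E) (u₃ (k := k) (Q := Q) (G := G) (K := K)) e =
            (jR (k := k) (Q := Q) (G := G) (K := K)).toLinearMap.rTensor E
              (cg (Algebra.TensorProduct.includeRight : K →ₐ[k] G ⊗[k] K) e) :=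
          (rTensor_cg _ _ e).symm
        rw [h1]
        exact (assoc_smul g (coK ψ x) _).symm

omit [HopfRep.Comod k K E] in
theorem sq2 (π : E →ₗ[k] k) (z : (G ⊗[Q] G) ⊗[k] E) :
    (pmap (Q := Q) (G := G) π).lTensor G (TensorProduct.AlgebraTensorModule.assoc k Q Q G G E z) =
      TensorProduct.AlgebraTensorModule.rid k (G ⊗[Q] G) (G ⊗[Q] G)
        (π.baseChange (G ⊗[Q] G) z) := by
  induction z using TensorProduct.induction_on with
  | zero => simp
  | add x y hx hy => simp only [map_add, hx, hy]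
  | tmul w e =>
    induction w using TensorProduct.induction_on with
    | zero => simp
    | add x y hx hy => simp only [TensorProduct.add_tmul, map_add, hx, hy]
    | tmul g x =>
      rw [TensorProduct.AlgebraTensorModule.assoc_tmul, LinearMap.lTensor_tmul, pmap_tmul,
        LinearMap.baseChange_tmul, TensorProduct.AlgebraTensorModule.rid_tmul,
        TensorProduct.tmul_smul]

/-- the two inclusions `G → G ⊗[Q] G` -/
noncomputable def v₁ : G →ₐ[k] G ⊗[Q] G :=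
  (Algebra.TensorProduct.includeLeft : G →ₐ[Q] G ⊗[Q] G).restrictScalars k

noncomputable def v₂ : G →ₐ[k] G ⊗[Q] G :=
  (Algebra.TensorProduct.includeRight : G →ₐ[Q] G ⊗[Q] G).restrictScalars k

/-- `a ↦ Σ a₂ ⊗ S(a₁)` -/
noncomputable def μ₂ : G →ₐ[k] G ⊗[Q] G :=
  ((toConv (v₂ (k := k) (Q := Q) (G := G)))⁻¹ * toConv (v₁ (k := k) (Q := Q) (G := G))).ofConv

include hφ in
theorem μ₂_φ (q : Q) :
    μ₂ (k := k) (Q := Q) (G := G) (φ q) = algebraMap k (G ⊗[Q] G) (Coalgebra.counit q) := by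
  have h1 : Groth.Agent.H83.Tk.preComp (G ⊗[Q] G) φ (toConv (v₁ (k := k) (Q := Q) (G := G))) =
      Groth.Agent.H83.Tk.preComp (G ⊗[Q] G) φ (toConv (v₂ (k := k) (Q := Q) (G := G))) := by
    apply WithConv.ofConv_injective
    apply AlgHom.ext
    intro b
    change (φ b) ⊗ₜ[Q] (1 : G) = (1 : G) ⊗ₜ[Q] (φ b)
    rw [← hφ]
    exact Algebra.TensorProduct.tmul_one_eq_one_tmul (R := Q) (A := G) (B := G) b
  have h2 : Groth.Agent.H83.Tk.preComp (G ⊗[Q] G) φ
      ((toConv (v₂ (k := k) (Q := Q) (G := G)))⁻¹ * toConv (v₁ (k := k) (Q := Q) (G := G))) = 1 := by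
    rw [map_mul, map_inv, h1, inv_mul_cancel]
  have := congrArg (fun x => x.ofConv q) h2
  change ((toConv (v₂ (k := k) (Q := Q) (G := G)))⁻¹ *
    toConv (v₁ (k := k) (Q := Q) (G := G))).ofConv (φ q) = _
  simpa [Groth.Agent.H83.Tk.preComp_apply, Groth.Agent.H83.Tk.one_apply'] using this

variable (hψ : Function.Surjective ψ)
  (hker : ∀ a : G, ψ a = 0 →
    a ∈ Ideal.map (φ : Q →+* G) (RingHom.ker (Bialgebra.counitAlgHom k Q)))

include hφ hker in
theorem ker_le : RingHom.ker (ψ : G →ₐ[k] K).toRingHom ≤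
    RingHom.ker (μ₂ (k := k) (Q := Q) (G := G)).toRingHom := by
  intro a ha
  have h1 := hker a ha
  have hle : Ideal.map (φ : Q →+* G) (RingHom.ker (Bialgebra.counitAlgHom k Q)) ≤
      RingHom.ker (μ₂ (k := k) (Q := Q) (G := G)).toRingHom := by
    rw [Ideal.map_le_iff_le_comap]
    intro q hq
    rw [Ideal.mem_comap, RingHom.mem_ker]
    change μ₂ (k := k) (Q := Q) (G := G) (φ q) = 0
    rw [μ₂_φ φ hφ]
    have : Coalgebra.counit (R := k) q = 0 := hq
    rw [this, map_zero]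
  exact hle h1

/-- the translation map `K → G ⊗[Q] G`, `ψ(a) ↦ Σ a₂ ⊗ S(a₁)` -/
noncomputable def τ₂ : K →ₐ[k] G ⊗[Q] G :=
  AlgHom.liftOfSurjective (ψ : G →ₐ[k] K) hψ (μ₂ (k := k) (Q := Q) (G := G))
    (ker_le φ ψ hφ hker)

theorem τ₂_comp : (τ₂ φ ψ hφ hψ hker).comp (ψ : G →ₐ[k] K) = μ₂ (k := k) (Q := Q) (G := G) :=
  AlgHom.liftOfSurjective_comp ..

theorem key_identity :
    toConv (u₃ (k := k) (Q := Q) (G := G) (K := K)) *
      toConv ((idΔ φ ψ hφ hψφ).comp (τ₂ φ ψ hφ hψ hker)) =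
    toConv ((idi (k := k) (Q := Q) (G := G) (K := K)).comp (τ₂ φ ψ hφ hψ hker)) := by
  have hinj : Function.Injective (Groth.Agent.H83.Tk.preComp (G ⊗[Q] (G ⊗[k] K)) ψ) := by
    intro x y hxy
    apply WithConv.ofConv_injective
    apply AlgHom.ext
    intro c
    obtain ⟨a, rfl⟩ := hψ c
    exact DFunLike.congr_fun (congrArg ofConv hxy) a
  apply hinj
  rw [map_mul]
  have hA : Groth.Agent.H83.Tk.preComp (G ⊗[Q] (G ⊗[k] K)) ψ
      (toConv ((idΔ φ ψ hφ hψφ).comp (τ₂ φ ψ hφ hψ hker))) =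
      Groth.Agent.H83.Tk.postComp (idΔ φ ψ hφ hψφ)
        ((toConv (v₂ (k := k) (Q := Q) (G := G)))⁻¹ * toConv (v₁ (k := k) (Q := Q) (G := G))) := by
    apply WithConv.ofConv_injective
    change ((idΔ φ ψ hφ hψφ).comp (τ₂ φ ψ hφ hψ hker)).comp (ψ : G →ₐ[k] K) =
      (idΔ φ ψ hφ hψφ).comp (μ₂ (k := k) (Q := Q) (G := G))
    rw [AlgHom.comp_assoc, τ₂_comp]
  have hB : Groth.Agent.H83.Tk.preComp (G ⊗[Q] (G ⊗[k] K)) ψ
      (toConv ((idi (k := k) (Q := Q) (G := G) (K := K)).comp (τ₂ φ ψ hφ hψ hker))) =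
      Groth.Agent.H83.Tk.postComp (idi (k := k) (Q := Q) (G := G) (K := K))
        ((toConv (v₂ (k := k) (Q := Q) (G := G)))⁻¹ * toConv (v₁ (k := k) (Q := Q) (G := G))) := by
    apply WithConv.ofConv_injective
    change ((idi (k := k) (Q := Q) (G := G) (K := K)).comp (τ₂ φ ψ hφ hψ hker)).comp
      (ψ : G →ₐ[k] K) = (idi (k := k) (Q := Q) (G := G) (K := K)).comp
        (μ₂ (k := k) (Q := Q) (G := G))
    rw [AlgHom.comp_assoc, τ₂_comp]
  rw [hA, hB, map_mul, map_mul, map_inv, map_inv]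
  have h1 : Groth.Agent.H83.Tk.postComp (idΔ φ ψ hφ hψφ)
      (toConv (v₁ (k := k) (Q := Q) (G := G))) =
      Groth.Agent.H83.Tk.postComp (idi (k := k) (Q := Q) (G := G) (K := K))
        (toConv (v₁ (k := k) (Q := Q) (G := G))) := by
    apply WithConv.ofConv_injective
    apply AlgHom.ext
    intro a
    change Algebra.TensorProduct.map (AlgHom.id Q G) (coKQ φ ψ hφ hψφ) (a ⊗ₜ[Q] (1 : G)) =
      Algebra.TensorProduct.map (AlgHom.id Q G)
        (Algebra.TensorProduct.includeLeft : G →ₐ[Q] G ⊗[k] K) (a ⊗ₜ[Q] (1 : G))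
    rw [Algebra.TensorProduct.map_tmul, Algebra.TensorProduct.map_tmul, map_one, map_one]
  have h2 : Groth.Agent.H83.Tk.postComp (idΔ φ ψ hφ hψφ)
      (toConv (v₂ (k := k) (Q := Q) (G := G))) =
      Groth.Agent.H83.Tk.postComp (idi (k := k) (Q := Q) (G := G) (K := K))
        (toConv (v₂ (k := k) (Q := Q) (G := G))) *
      Groth.Agent.H83.Tk.preComp (G ⊗[Q] (G ⊗[k] K)) ψ
        (toConv (u₃ (k := k) (Q := Q) (G := G) (K := K))) := by
    have h3 : Groth.Agent.H83.Tk.postComp (idΔ φ ψ hφ hψφ)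
        (toConv (v₂ (k := k) (Q := Q) (G := G))) =
        Groth.Agent.H83.Tk.postComp (jR (k := k) (Q := Q) (G := G) (K := K))
          (toConv (coK ψ)) := by
      apply WithConv.ofConv_injective
      apply AlgHom.ext
      intro a
      change Algebra.TensorProduct.map (AlgHom.id Q G) (coKQ φ ψ hφ hψφ) ((1 : G) ⊗ₜ[Q] a) =
        (1 : G) ⊗ₜ[Q] (coK ψ a)
      rw [Algebra.TensorProduct.map_tmul, map_one, coKQ_apply]
    rw [h3, coK_eq, map_mul]
    congr 1
  rw [h1, h2]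
  exact grp_aux (Γ := WithConv (G →ₐ[k] G ⊗[Q] (G ⊗[k] K))) _ _ _

include hψ hker in
/-- **Descent**: there is an invariant element of `G ⊗ E` mapping to `1` under `π`. -/
theorem exists_invariant [Module.FaithfullyFlat Q G] (π : E →ₗ[k] k)
    (hπ : LinearMap.rTensor K π ∘ₗ HopfRep.Comod.coact (k := k) (A := K) (V := E) =
      (TensorProduct.mk k k K).flip (1 : K) ∘ₗ π) (e₀ : E) (he₀ : π e₀ = 1) :
    ∃ m : G ⊗[k] E, dmap (E := E) φ ψ hφ hψφ m = 0 ∧ pmap (Q := Q) (G := G) π m = 1 := by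
  set Θ : (G ⊗[Q] G) ⊗[k] E := act (τ₂ φ ψ hφ hψ hker) ((1 : G ⊗[Q] G) ⊗ₜ[k] e₀) with hΘ
  set Θ' := TensorProduct.AlgebraTensorModule.assoc k Q Q G G E Θ with hΘ'
  have h1 : (dmap (E := E) φ ψ hφ hψφ).lTensor G Θ' = 0 := by
    rw [hΘ', sq1]
    have h0 : act (u₃ (k := k) (Q := Q) (G := G) (K := K))
        ((idΔ φ ψ hφ hψφ).toLinearMap.rTensor E Θ) -
          (idi (k := k) (Q := Q) (G := G) (K := K)).toLinearMap.rTensor E Θ = 0 := by
      rw [hΘ, act_natural, act_natural, LinearMap.rTensor_tmul, LinearMap.rTensor_tmul,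
        AlgHom.toLinearMap_apply, AlgHom.toLinearMap_apply, map_one, map_one,
        ← LinearMap.comp_apply, ← act_mul, key_identity φ ψ hφ hψφ hψ hker, sub_self]
    rw [h0, map_zero]
  have h2 : (pmap (Q := Q) (G := G) π).lTensor G Θ' = (1 : G) ⊗ₜ[Q] (1 : G) := by
    rw [hΘ', sq2, hΘ, baseChange_act π hπ, LinearMap.baseChange_tmul, he₀,
      TensorProduct.AlgebraTensorModule.rid_tmul, one_smul]
    rfl
  set D : G ⊗[k] E →ₗ[Q] ((G ⊗[k] K) ⊗[k] E) × G :=
    (dmap (E := E) φ ψ hφ hψφ).prod (pmap (Q := Q) (G := G) π) with hD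
  have hD' : D = LinearMap.inl Q ((G ⊗[k] K) ⊗[k] E) G ∘ₗ (dmap (E := E) φ ψ hφ hψφ) +
      LinearMap.inr Q ((G ⊗[k] K) ⊗[k] E) G ∘ₗ (pmap (Q := Q) (G := G) π) := by
    apply LinearMap.ext
    intro n
    simp [hD]
  have h3 : (1 : G) ⊗ₜ[Q] (((0 : (G ⊗[k] K) ⊗[k] E), (1 : G)) : ((G ⊗[k] K) ⊗[k] E) × G) ∈
      LinearMap.range (D.lTensor G) := by
    refine ⟨Θ', ?_⟩
    rw [hD', LinearMap.lTensor_add, LinearMap.add_apply, LinearMap.lTensor_comp,
      LinearMap.lTensor_comp, LinearMap.comp_apply, LinearMap.comp_apply, h1, h2, map_zero,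
      zero_add, LinearMap.lTensor_tmul, LinearMap.inr_apply]
  obtain ⟨m, hm⟩ := mem_range_of_ff D _ h3
  exact ⟨m, congrArg Prod.fst hm, congrArg Prod.snd hm⟩

end desc

end Groth.Agent.H84.LRE
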