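import Groth.Agent.H84.LRE3
import Groth.Agent.H40.LinRedCrit
import Groth.Agent.H40.IntegralBC

/-!
# Linear reductivity of the kernel in an exact sequence (helper84)

`lifting_of_exact`: if `1 → K → G → Q → 1` is exact (on coordinate rings `φ : Q → G` faithfully
flat, `ψ : G → K` surjective with kernel `φ(Q⁺)G`) and `G` has a total integral, then `K` has the
lifting property of invariants (hence is linearly reductive).
-/

set_option autoImplicit false
universe u v w

open TensorProduct WithConv

namespace Groth.Agent.H84.LRE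

section fixed

variable {k : Type u} [Field k] {Q G K : Type u} [CommRing Q] [CommRing G] [CommRing K]
  [HopfAlgebra k Q] [HopfAlgebra k G] [HopfAlgebra k K]
  (φ : Q →ₐc[k] G) (ψ : G →ₐc[k] K)
  [Algebra Q G] [IsScalarTower k Q G]
  {E : Type u} [AddCommGroup E] [Module k E] [HopfRep.Comod k K E]
  (hφ : ∀ q, algebraMap Q G q = φ q)
  (hψφ : ∀ q, ψ (φ q) = algebraMap k K (Coalgebra.counit q))

/-- `x ⊗ c ↦ α(x) c` -/
noncomputable def lam (α : G →ₗ[k] k) : G ⊗[k] K →ₗ[k] K :=
  (TensorProduct.lid k K).toLinearMap ∘ₗ α.rTensor K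

theorem lam_mul (α : G →ₗ[k] k) (y : G ⊗[k] K) (c : K) :
    lam α (y * ((1 : G) ⊗ₜ[k] c)) = lam α y * c := by
  induction y using TensorProduct.induction_on with
  | zero => simp
  | add x y hx hy => simp only [add_mul, map_add, hx, hy]
  | tmul x c' => simp [lam]

theorem lam_coK (α : G →ₗ[k] k) (hα : H93.IsInt α) (x : G) :
    lam α (coK ψ x) = α x • (1 : K) := by
  have h1 : ∀ t : G ⊗[k] G,
      lam α (Algebra.TensorProduct.map (AlgHom.id k G) (ψ : G →ₐ[k] K) t) =
        ψ (TensorProduct.lid k G (α.rTensor G t)) := by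
    intro t
    induction t using TensorProduct.induction_on with
    | zero => simp
    | add x y hx hy => simp only [map_add, hx, hy]
    | tmul a b => simp [lam]
  change lam α (Algebra.TensorProduct.map (AlgHom.id k G) (ψ : G →ₐ[k] K)
    (Coalgebra.comul (R := k) x)) = _
  rw [h1, ← hα x, map_smul, map_one]

theorem lam_act (α : G →ₗ[k] k) (y : G ⊗[k] K) (e : E) :
    (lam (K := K) α).rTensor E
      (y • cg (Algebra.TensorProduct.includeRight : K →ₐ[k] G ⊗[k] K) e) =
    lam α y • TensorProduct.comm k E K (HopfRep.Comod.coact (k := k) (A := K) (V := E) e) := by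
  rw [cg_apply]
  generalize HopfRep.Comod.coact (k := k) (A := K) (V := E) e = t
  induction t using TensorProduct.induction_on with
  | zero => simp
  | add x y hx hy => simp only [map_add, smul_add, hx, hy]
  | tmul e' c =>
    simp only [LinearMap.lTensor_tmul, AlgHom.toLinearMap_apply, TensorProduct.comm_tmul,
      Algebra.TensorProduct.includeRight_apply, TensorProduct.smul_tmul', smul_eq_mul,
      LinearMap.rTensor_tmul, lam_mul]

/-- the vector obtained by integrating over `G` -/
noncomputable def vint (α : G →ₗ[k] k) : G ⊗[k] E →ₗ[k] E :=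
  (TensorProduct.lid k E).toLinearMap ∘ₗ α.rTensor E

@[simp] theorem vint_tmul (α : G →ₗ[k] k) (x : G) (e : E) : vint α (x ⊗ₜ[k] e) = α x • e := by
  simp [vint]

theorem lam_dmap (α : G →ₗ[k] k) (hα : H93.IsInt α) (m : G ⊗[k] E) :
    (lam (K := K) α).rTensor E (dmap (E := E) φ ψ hφ hψφ m) =
      TensorProduct.comm k E K (HopfRep.Comod.coact (k := k) (A := K) (V := E) (vint α m)) -
        (1 : K) ⊗ₜ[k] vint α m := by
  induction m using TensorProduct.induction_on with
  | zero => simp
  | add x y hx hy =>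
    simp only [map_add, hx, hy, TensorProduct.tmul_add]
    abel
  | tmul x e =>
    rw [dmap_tmul, map_sub, lam_act, lam_coK ψ α hα, vint_tmul, LinearMap.rTensor_tmul]
    congr 1
    · rw [smul_assoc, one_smul, map_smul, map_smul]
    · simp [lam, TensorProduct.smul_tmul]

theorem fixed_of_invariant (α : G →ₗ[k] k) (hα : H93.IsInt α) (m : G ⊗[k] E)
    (hm : dmap (E := E) φ ψ hφ hψφ m = 0) : vint α m ∈ HopfRep.fixedPts k K E := by
  have h1 := lam_dmap φ ψ hφ hψφ α hα m
  rw [hm, map_zero] at h1
  have h2 : TensorProduct.comm k E K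
      (HopfRep.Comod.coact (k := k) (A := K) (V := E) (vint α m)) =
      (1 : K) ⊗ₜ[k] vint α m := (sub_eq_zero.mp h1.symm)
  change HopfRep.Comod.coact (k := k) (A := K) (V := E) (vint α m) = vint α m ⊗ₜ[k] (1 : K)
  have h3 := congrArg (TensorProduct.comm k E K).symm h2
  rw [LinearEquiv.symm_apply_apply] at h3
  rw [h3]
  simp

theorem pi_vint (α : G →ₗ[k] k) (π : E →ₗ[k] k) (m : G ⊗[k] E) :
    π (vint α m) = α (pmap (Q := Q) (G := G) π m) := by
  induction m using TensorProduct.induction_on with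
  | zero => simp
  | add x y hx hy => simp only [map_add, hx, hy]
  | tmul x e => simp [mul_comm]

end fixed

section main

variable {k : Type u} [Field k] {Q G K : Type u} [CommRing Q] [CommRing G] [CommRing K]
  [HopfAlgebra k Q] [HopfAlgebra k G] [HopfAlgebra k K]
  (φ : Q →ₐc[k] G) (ψ : G →ₐc[k] K)
  [Algebra Q G] [IsScalarTower k Q G]
  (hφ : ∀ q, algebraMap Q G q = φ q)
  (hψφ : ∀ q, ψ (φ q) = algebraMap k K (Coalgebra.counit q))
  (hψ : Function.Surjective ψ)
  (hker : ∀ a : G, ψ a = 0 →
    a ∈ Ideal.map (φ : Q →+* G) (RingHom.ker (Bialgebra.counitAlgHom k Q)))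

include hφ hψφ hψ hker in
theorem lifting_of_exact [Module.FaithfullyFlat Q G]
    (hG : HopfRep.IsLinearlyReductive k G) : Groth.Agent.H40.LinRedCrit.Lifting k K := by
  obtain ⟨α, hα, hα1⟩ := (Groth.Agent.H40.isLinearlyReductive_iff_exists_isInt).mp hG
  intro E _ _ _ hfin π hsurj hπ
  obtain ⟨e₀, he₀⟩ := hsurj 1
  obtain ⟨m, hm1, hm2⟩ := exists_invariant φ ψ hφ hψφ hψ hker π hπ e₀ he₀
  refine ⟨vint α m, fixed_of_invariant φ ψ hφ hψφ α hα m hm1, ?_⟩
  rw [pi_vint (Q := Q), hm2, hα1]
  exact one_ne_zero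

end main

end Groth.Agent.H84.LRE
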