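import Groth.Agent.H84.UE1
import Groth.Agent.H83.HopfAux
import Groth.Agent.H83.TkGeneral
import Groth.Agent.H93.Integral

/-!
# Total integral of an extension (helper84)

`exists_isInt_of_exact`: for `1 → K → G → Q → 1` exact, total integrals on `K` and `Q` give a
total integral on `G`.
-/

set_option autoImplicit false
universe u v w

open TensorProduct

namespace Groth.Agent.H84.LRE

section Lt

variable {k : Type u} [CommRing k] {G : Type v} [CommRing G] [HopfAlgebra k G]

/-- translation by a functional: `a ↦ Σ β(a₁) a₂` -/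
noncomputable def Lt (β : G →ₗ[k] k) : G →ₗ[k] G :=
  (TensorProduct.lid k G).toLinearMap ∘ₗ β.rTensor G ∘ₗ Coalgebra.comul

theorem Lt_apply (β : G →ₗ[k] k) (a : G) :
    Lt β a = TensorProduct.lid k G (β.rTensor G (Coalgebra.comul (R := k) a)) := rfl

theorem comul_Lt (β : G →ₗ[k] k) (a : G) :
    Coalgebra.comul (R := k) (Lt β a) = (Lt β).rTensor G (Coalgebra.comul (R := k) a) := by
  set F : G ⊗[k] (G ⊗[k] G) →ₗ[k] G ⊗[k] G :=
    (TensorProduct.lid k (G ⊗[k] G)).toLinearMap ∘ₗ β.rTensor (G ⊗[k] G) with hF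
  have h1 : ∀ t : G ⊗[k] G, Coalgebra.comul (R := k) (TensorProduct.lid k G (β.rTensor G t)) =
      F (LinearMap.lTensor G (Coalgebra.comul (R := k)) t) := by
    intro t
    induction t using TensorProduct.induction_on with
    | zero => simp
    | add x y hx hy => simp only [map_add, hx, hy]
    | tmul a' b' => simp [hF]
  have h2 : ∀ t : G ⊗[k] G, F (TensorProduct.assoc k G G G
      (LinearMap.rTensor G (Coalgebra.comul (R := k)) t)) = (Lt β).rTensor G t := by
    intro t
    induction t using TensorProduct.induction_on with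
    | zero => simp
    | add x y hx hy => simp only [map_add, hx, hy]
    | tmul a' b' =>
      have h3 : ∀ s : G ⊗[k] G, F (TensorProduct.assoc k G G G (s ⊗ₜ[k] b')) =
          TensorProduct.lid k G (β.rTensor G s) ⊗ₜ[k] b' := by
        intro s
        induction s using TensorProduct.induction_on with
        | zero => simp
        | add x y hx hy => simp only [map_add, TensorProduct.add_tmul, hx, hy]
        | tmul x y => simp [hF, TensorProduct.smul_tmul']
      rw [LinearMap.rTensor_tmul, h3, LinearMap.rTensor_tmul, Lt_apply]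
  rw [Lt_apply, h1, ← Coalgebra.coassoc_apply, h2]

end Lt

section main

variable {k : Type u} [Field k] {Q G K : Type u} [CommRing Q] [CommRing G] [CommRing K]
  [HopfAlgebra k Q] [HopfAlgebra k G] [HopfAlgebra k K]
  (φ : Q →ₐc[k] G) (ψ : G →ₐc[k] K)

theorem psi_Lt (αK : K →ₗ[k] k) (hαK : H93.IsInt αK) (a : G) :
    ψ (Lt (αK ∘ₗ (ψ : G →ₗ[k] K)) a) = αK (ψ a) • (1 : K) := by
  have h : ∀ t : G ⊗[k] G,
      ψ (TensorProduct.lid k G ((αK ∘ₗ (ψ : G →ₗ[k] K)).rTensor G t)) =
        TensorProduct.lid k K (αK.rTensor K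
          (TensorProduct.map (ψ : G →ₗ[k] K) (ψ : G →ₗ[k] K) t)) := by
    intro t
    induction t using TensorProduct.induction_on with
    | zero => simp
    | add x y hx hy => simp only [map_add, hx, hy]
    | tmul a' b' => simp
  rw [Lt_apply, h, CoalgHomClass.map_comp_comul_apply, ← hαK]

/-- `Σ α_K(ψ a₁) a₂` is left coinvariant -/
theorem left_coinv (αK : K →ₗ[k] k) (hαK : H93.IsInt αK) (a : G) :
    (ψ : G →ₗ[k] K).rTensor G (Coalgebra.comul (R := k) (Lt (αK ∘ₗ (ψ : G →ₗ[k] K)) a)) =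
      (1 : K) ⊗ₜ[k] Lt (αK ∘ₗ (ψ : G →ₗ[k] K)) a := by
  rw [comul_Lt, Lt_apply]
  generalize Coalgebra.comul (R := k) a = t
  induction t using TensorProduct.induction_on with
  | zero => simp
  | add x y hx hy => simp only [map_add, hx, hy, TensorProduct.tmul_add]
  | tmul a' b' =>
    rw [LinearMap.rTensor_tmul, LinearMap.rTensor_tmul]
    change ψ (Lt (αK ∘ₗ (ψ : G →ₗ[k] K)) a') ⊗ₜ[k] b' = _
    rw [psi_Lt ψ αK hαK]
    simp [TensorProduct.smul_tmul]

/-- the antipode turns left coinvariants into right coinvariants -/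
theorem right_coinv_antipode (x : G)
    (hx : (ψ : G →ₗ[k] K).rTensor G (Coalgebra.comul (R := k) x) = (1 : K) ⊗ₜ[k] x) :
    (ψ : G →ₗ[k] K).lTensor G (Coalgebra.comul (R := k) (HopfAlgebraStruct.antipode k x)) =
      HopfAlgebraStruct.antipode k x ⊗ₜ[k] (1 : K) := by
  rw [Groth.Agent.H83.comul_antipode]
  have h : ∀ t : G ⊗[k] G, (ψ : G →ₗ[k] K).lTensor G
      (TensorProduct.map (HopfAlgebraStruct.antipode k) (HopfAlgebraStruct.antipode k)
        (TensorProduct.comm k G G t)) =
      TensorProduct.map (HopfAlgebraStruct.antipode k) (HopfAlgebraStruct.antipode k)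
        (TensorProduct.comm k K G ((ψ : G →ₗ[k] K).rTensor G t)) := by
    intro t
    induction t using TensorProduct.induction_on with
    | zero => simp
    | add x y hx hy => simp only [map_add, hx, hy]
    | tmul a b =>
      simp only [TensorProduct.comm_tmul, TensorProduct.map_tmul, LinearMap.lTensor_tmul,
        LinearMap.rTensor_tmul]
      congr 1
      exact (Groth.Agent.H83.Tk.bialgHom_antipode ψ a).symm
  rw [h, hx]
  simp

include φ in
theorem Lt_mem_range
    (hJ : RingHom.ker (ψ : G →ₐ[k] K) =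
      Ideal.map (φ : Q →+* G) (RingHom.ker (Bialgebra.counitAlgHom k Q)))
    (αK : K →ₗ[k] k) (hαK : H93.IsInt αK) (a : G) :
    Lt (αK ∘ₗ (ψ : G →ₗ[k] K)) a ∈ Set.range φ := by
  set x := Lt (αK ∘ₗ (ψ : G →ₗ[k] K)) a with hx
  have h1 := right_coinv_antipode ψ x (left_coinv ψ αK hαK a)
  set J : Ideal G := RingHom.ker (ψ : G →ₐ[k] K) with hJdef
  have hinj : Function.Injective
      ((Ideal.kerLiftAlg (ψ : G →ₐ[k] K)).toLinearMap.lTensor G) :=
    Module.Flat.lTensor_preserves_injective_linearMap _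
      (Ideal.kerLiftAlg_injective (ψ : G →ₐ[k] K))
  have h2 : ∀ t : G ⊗[k] G, (Ideal.kerLiftAlg (ψ : G →ₐ[k] K)).toLinearMap.lTensor G
      ((Ideal.Quotient.mkₐ k J).toLinearMap.lTensor G t) = (ψ : G →ₗ[k] K).lTensor G t := by
    intro t
    induction t using TensorProduct.induction_on with
    | zero => simp
    | add x y hx hy => simp only [map_add, hx, hy]
    | tmul a b =>
      simp only [LinearMap.lTensor_tmul, AlgHom.toLinearMap_apply, Ideal.Quotient.mkₐ_eq_mk]
      rfl
  have h3 : (Ideal.Quotient.mkₐ k J).toLinearMap.lTensor G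
      (Coalgebra.comul (R := k) (HopfAlgebraStruct.antipode k x)) =
      HopfAlgebraStruct.antipode k x ⊗ₜ[k] (1 : G ⧸ J) := by
    apply hinj
    rw [h2, h1, LinearMap.lTensor_tmul, AlgHom.toLinearMap_apply, map_one]
  obtain ⟨q, hq⟩ := Groth.Agent.H84.UE.mem_range_of_coinv φ J hJ _ h3
  refine ⟨HopfAlgebraStruct.antipode k q, ?_⟩
  rw [← Groth.Agent.H83.Tk.bialgHom_antipode, hq, Groth.Agent.H83.Tk.antipode_antipode']

include φ in
/-- total integrals on `K` and `Q` give a total integral on `G` -/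
theorem exists_isInt_of_exact (hφinj : Function.Injective φ)
    (hJ : RingHom.ker (ψ : G →ₐ[k] K) =
      Ideal.map (φ : Q →+* G) (RingHom.ker (Bialgebra.counitAlgHom k Q)))
    (αK : K →ₗ[k] k) (hαK : H93.IsInt αK) (hK1 : αK 1 = 1)
    (αQ : Q →ₗ[k] k) (hαQ : H93.IsInt αQ) (hQ1 : αQ 1 = 1) :
    ∃ α : G →ₗ[k] k, H93.IsInt α ∧ α 1 = 1 := by
  obtain ⟨r, hr⟩ := LinearMap.exists_leftInverse_of_injective (φ : Q →ₗ[k] G)
    (LinearMap.ker_eq_bot.mpr hφinj)
  have hr' : ∀ q, r (φ q) = q := fun q => LinearMap.congr_fun hr q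
  set Ek := Lt (αK ∘ₗ (ψ : G →ₗ[k] K)) with hEk
  refine ⟨αQ ∘ₗ r ∘ₗ Ek, ?_, ?_⟩
  · intro a
    obtain ⟨q, hq⟩ := Lt_mem_range φ ψ hJ αK hαK a
    have h1 : (αQ ∘ₗ r ∘ₗ Ek).rTensor G (Coalgebra.comul (R := k) a) =
        (αQ ∘ₗ r).rTensor G (Coalgebra.comul (R := k) (Ek a)) := by
      rw [hEk, comul_Lt, ← LinearMap.rTensor_comp_apply]
      rfl
    have h2 : ∀ t : Q ⊗[k] Q, TensorProduct.lid k G ((αQ ∘ₗ r).rTensor G
        (TensorProduct.map (φ : Q →ₗ[k] G) (φ : Q →ₗ[k] G) t)) =
        φ (TensorProduct.lid k Q (αQ.rTensor Q t)) := by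
      intro t
      induction t using TensorProduct.induction_on with
      | zero => simp
      | add x y hx hy => simp only [map_add, hx, hy]
      | tmul a b => simp [hr']
    rw [h1, ← hq, ← CoalgHomClass.map_comp_comul_apply, h2, ← hαQ q, map_smul, map_one]
    simp only [LinearMap.comp_apply]
    rw [← hq, hr']
  · have h1 : Ek 1 = 1 := by
      rw [hEk, Lt_apply, Bialgebra.comul_one, Algebra.TensorProduct.one_def,
        LinearMap.rTensor_tmul, LinearMap.comp_apply]
      simp [hK1]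
    simp only [LinearMap.comp_apply]
    rw [h1]
    have h2 : r 1 = 1 := by
      have := hr' 1
      rwa [map_one] at this
    rw [h2, hQ1]

end main

end Groth.Agent.H84.LRE
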