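import Groth.Agent.H84.OT9
import Mathlib

/-!
# The group algebra of `ℤ/p` (the Hopf algebra of `μ_p`)
-/

set_option autoImplicit false
set_option linter.unusedSectionVars false
universe u v w

namespace Groth.Agent.H84.OT

open WithConv TensorProduct Groth.Agent.H1.FinHopf Groth.Agent.S18468

noncomputable section

section GroupLike
variable {R : Type u} [CommRing R] {A : Type u} [CommRing A] [HopfAlgebra R A]

theorem powConv_groupLike (a : A) (ha : IsGroupLikeElem R a) (n : ℕ) :
    SGA3b.powConv R A n a = a ^ n := by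
  induction n with
  | zero => rw [powConv_zero_apply, ha.counit_eq_one, map_one, pow_zero]
  | succ n ih =>
    rw [powConv_def R A (n + 1), pow_succ]
    have h := AlgHom.convMul_apply (toConv (AlgHom.id R A) ^ n) (toConv (AlgHom.id R A)) a
    rw [ha.comul_eq_tmul_self, Algebra.TensorProduct.lift_tmul] at h
    refine h.trans ?_
    show SGA3b.powConv R A n a * a = a ^ (n + 1)
    rw [ih, pow_succ]

end GroupLike

section ProjT
variable (p : ℕ) [Fact p.Prime] (R : Type u) [CommRing R] (u : R) (χ : (ZMod p)ˣ →* Rˣ)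
  (A : Type u) [CommRing A] [HopfAlgebra R A]

theorem proj_T_apply (hp : (toConv (AlgHom.id R A)) ^ p = 1) (i : ℕ) (m' : (ZMod p)ˣ) (f : A) :
    OortTate.proj R A p u χ i (T p R A m' f) =
      (((χ m' : Rˣ) : R) ^ i) • OortTate.proj R A p u χ i f := by
  rw [← T_proj p R u χ A hp i m' f, proj_apply, proj_apply, map_smul, map_sum]
  congr 1
  refine Finset.sum_congr rfl (fun m _ => ?_)
  rw [map_smul, ← LinearMap.comp_apply, ← LinearMap.comp_apply, ← T_mul p R A hp,
    ← T_mul p R A hp, mul_comm]

end ProjT

section Mu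
variable (p : ℕ) [hpf : Fact p.Prime] (R : Type u) [CommRing R] (u : R) (χ : (ZMod p)ˣ →* Rˣ)

local notation "HH" => MonoidAlgebra R (Multiplicative (ZMod p))

theorem counit_of (g : Multiplicative (ZMod p)) :
    Coalgebra.counit (R := R) (MonoidAlgebra.of R (Multiplicative (ZMod p)) g) = 1 :=
  (MonoidAlgebra.isGroupLikeElem_of (R := R) (A := R) g).counit_eq_one

theorem powConv_of (n : ℕ) (g : Multiplicative (ZMod p)) :
    SGA3b.powConv R HH n (MonoidAlgebra.of R (Multiplicative (ZMod p)) g) =
      MonoidAlgebra.of R (Multiplicative (ZMod p)) (g ^ n) := by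
  rw [powConv_groupLike _ (MonoidAlgebra.isGroupLikeElem_of (R := R) (A := R) g), map_pow]

theorem killed_mu : (toConv (AlgHom.id R HH)) ^ p = 1 := by
  apply WithConv.ofConv_injective
  apply MonoidAlgebra.algHom_ext
  case single_one_left => exact Subsingleton.elim _ _
  intro g
  have h2 : g ^ p = 1 := by
    have := pow_card_eq_one (G := Multiplicative (ZMod p)) (x := g)
    rwa [Fintype.card_multiplicative, ZMod.card] at this
  rw [← MonoidAlgebra.of_apply]
  show SGA3b.powConv R HH p (MonoidAlgebra.of R _ g) =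
    algebraMap R HH (Coalgebra.counit (R := R) (MonoidAlgebra.of R _ g))
  rw [powConv_of, h2, map_one, counit_of, map_one]

theorem T_muT (m : (ZMod p)ˣ) :
    T p R HH m (OortTate.muT R p - 1) =
      MonoidAlgebra.of R (Multiplicative (ZMod p)) (Multiplicative.ofAdd ((m : ZMod p))) - 1 := by
  rw [T_apply, map_sub, map_one, powConv_of]
  congr 2
  rw [← ofAdd_nsmul, nsmul_one, ZMod.natCast_zmod_val]

theorem counit_muT_sub_one : Coalgebra.counit (R := R) (OortTate.muT R p - 1 : HH) = 0 := by
  rw [map_sub, counit_of, Bialgebra.counit_one, sub_self]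

theorem ygen_mem (i : ℕ) : OortTate.ygen R p u χ i ∈ OortTate.eigenAug R HH p χ i :=
  proj_mem p R u χ HH (killed_mu p R) i _ (counit_muT_sub_one p R)

theorem proj_aug_mem_span (i : ℕ) (h : HH) :
    OortTate.proj R HH p u χ i (aug R HH h) ∈ Submodule.span R {OortTate.ygen R p u χ i} := by
  induction h using MonoidAlgebra.induction_on with
  | of g =>
    by_cases hg : Multiplicative.toAdd g = 0
    · have h1 : g = 1 := by
        rw [← ofAdd_toAdd g, hg]; rfl
      rw [h1, map_one, aug_apply, Bialgebra.counit_one, map_one, sub_self, map_zero]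
      exact Submodule.zero_mem _
    · let m : (ZMod p)ˣ := Units.mk0 (Multiplicative.toAdd g) hg
      have h1 : aug R HH (MonoidAlgebra.of R _ g) = T p R HH m (OortTate.muT R p - 1) := by
        rw [T_muT, aug_apply, counit_of, map_one]
        rfl
      rw [h1, proj_T_apply p R u χ HH (killed_mu p R)]
      exact Submodule.smul_mem _ _ (Submodule.mem_span_singleton_self _)
  | add x y hx hy => rw [map_add, map_add]; exact Submodule.add_mem _ hx hy
  | smul r x hx => rw [map_smul, map_smul]; exact Submodule.smul_mem _ _ hx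

theorem eigenAug_mu_eq (hu : u * ((p - 1 : ℕ) : R) = 1) (i : ℕ) :
    OortTate.eigenAug R HH p χ i = Submodule.span R {OortTate.ygen R p u χ i} := by
  apply le_antisymm
  · intro f hf
    have h1 := qq_of_mem p R u χ HH hu i f hf
    rw [← h1, qq_apply]
    exact proj_aug_mem_span p R u χ i f
  · rw [Submodule.span_le, Set.singleton_subset_iff]
    exact ygen_mem p R u χ i

/-- the coefficient of `T` -/
def cfT : HH →ₗ[R] R :=
  (Finsupp.lapply (Multiplicative.ofAdd (1 : ZMod p))) ∘ₗ
    (MonoidAlgebra.coeffLinearEquiv R).toLinearMap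

theorem cfT_of (g : Multiplicative (ZMod p)) :
    cfT p R (MonoidAlgebra.of R _ g) = if g = Multiplicative.ofAdd (1 : ZMod p) then 1 else 0 := by
  show (MonoidAlgebra.of R (Multiplicative (ZMod p)) g).coeff (Multiplicative.ofAdd (1 : ZMod p)) = _
  rw [MonoidAlgebra.of_apply, MonoidAlgebra.coeff_single, Finsupp.single_apply]

theorem cfT_one : cfT p R (1 : HH) = 0 := by
  rw [← map_one (MonoidAlgebra.of R (Multiplicative (ZMod p))), cfT_of, if_neg]
  intro h
  have h1 : (0 : ZMod p) = 1 := congrArg Multiplicative.toAdd h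
  exact zero_ne_one h1

theorem cfT_ygen (i : ℕ) : cfT p R (OortTate.ygen R p u χ i) = u := by
  show cfT p R (OortTate.proj R HH p u χ i (OortTate.muT R p - 1)) = u
  rw [proj_apply, map_smul, map_sum, Finset.sum_eq_single (1 : (ZMod p)ˣ)]
  · rw [map_smul, T_muT, map_sub, cfT_of, cfT_one, if_pos (by rw [Units.val_one]), sub_zero,
      inv_one, map_one, Units.val_one, one_pow, smul_eq_mul, smul_eq_mul, mul_one, mul_one]
  · intro m _ hm
    rw [map_smul, T_muT, map_sub, cfT_of, cfT_one, if_neg, sub_zero, smul_zero]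
    intro h
    apply hm
    have h1 : (m : ZMod p) = 1 := congrArg Multiplicative.toAdd h
    exact Units.val_eq_one.1 h1
  · intro h
    exact absurd (Finset.mem_univ _) h

theorem smul_ygen_eq_zero (hu : u * ((p - 1 : ℕ) : R) = 1) (i : ℕ) (r : R)
    (h : r • OortTate.ygen R p u χ i = 0) : r = 0 := by
  have h1 := congrArg (cfT p R) h
  rw [map_smul, cfT_ygen, map_zero, smul_eq_mul] at h1
  calc r = r * (u * ((p - 1 : ℕ) : R)) := by rw [hu, mul_one]
    _ = (r * u) * ((p - 1 : ℕ) : R) := by ring
    _ = 0 := by rw [h1, zero_mul]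

theorem rank_mu (q : PrimeSpectrum R) : Module.rankAtStalk (R := R) HH q = p := by
  haveI : Nontrivial R := q.nontrivial
  haveI : Module.Free R HH := Module.Free.of_basis (MonoidAlgebra.basis (Multiplicative (ZMod p)) R)
  have h2 := congrFun (Module.rankAtStalk_eq_finrank_of_free (R := R) (M := HH)) q
  rw [h2]
  show Module.finrank R HH = p
  rw [Module.finrank_eq_card_basis (MonoidAlgebra.basis (Multiplicative (ZMod p)) R),
    Fintype.card_multiplicative, ZMod.card]

end Mu

end

end Groth.Agent.H84.OT
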