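import Groth.Agent.H84.OT2
import Mathlib

/-!
# Finite projective modules of rank one: faithfulness and endomorphisms
-/

set_option autoImplicit false
set_option linter.unusedSectionVars false
universe u v w

namespace Groth.Agent.H84.OT

open TensorProduct

noncomputable section

section FreeOne
variable {S : Type u} [CommRing S] [Nontrivial S] {Q : Type v} [AddCommGroup Q] [Module S Q]
  [Module.Free S Q]
  [Module.Finite S Q]

theorem alt_of_finrank_one (h : Module.finrank S Q = 1) (g : Q →ₗ[S] S) (v w : Q) :
    g v • w = g w • v := by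
  let b : Module.Basis (Fin 1) S Q := Module.finBasisOfFinrankEq S Q h
  have hv : v = b.repr v 0 • b 0 := by
    conv_lhs => rw [← b.sum_repr v]
    rw [Fin.sum_univ_one]
  have hw : w = b.repr w 0 • b 0 := by
    conv_lhs => rw [← b.sum_repr w]
    rw [Fin.sum_univ_one]
  rw [hv, hw]
  simp only [map_smul, smul_eq_mul, smul_smul]
  congr 1
  ring

theorem smul_basis_eq_zero (h : Module.finrank S Q = 1) (c : S) (hc : ∀ z : Q, c • z = 0) :
    c = 0 := by
  let b : Module.Basis (Fin 1) S Q := Module.finBasisOfFinrankEq S Q h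
  have h1 := congrArg (fun z => b.repr z 0) (hc (b 0))
  simpa using h1

end FreeOne

section RankOne
variable {R : Type u} [CommRing R] {P : Type v} [AddCommGroup P] [Module R P] [Module.Finite R P]
  [Module.Projective R P]

theorem loc_finrank_one (hrk : ∀ q : PrimeSpectrum R, Module.rankAtStalk P q = 1) (m : Ideal R)
    [hm : m.IsMaximal] :
    Module.finrank (Localization.AtPrime m) (Localization.AtPrime m ⊗[R] P) = 1 := by
  have h1 := Module.rankAtStalk_eq_finrank_tensorProduct (R := R) (M := P)
    (⟨m, hm.isPrime⟩ : PrimeSpectrum R)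
  rw [hrk] at h1
  exact h1.symm

theorem smul_one_smul_tmul (S : Type w) [CommRing S] [Algebra R S] (r : R) (y : P) :
    (r • (1 : S)) • ((1 : S) ⊗ₜ[R] y) = (1 : S) ⊗ₜ[R] (r • y) := by
  rw [TensorProduct.smul_tmul', smul_eq_mul, mul_one, TensorProduct.smul_tmul]

/-- `f x • y = f y • x` in a projective module of rank one -/
theorem alt_rank_one (hrk : ∀ q : PrimeSpectrum R, Module.rankAtStalk P q = 1)
    (f : P →ₗ[R] R) (x y : P) : f x • y = f y • x := by
  apply Module.eq_of_localization_maximal
    (fun m _ => Localization.AtPrime m ⊗[R] P)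
    (fun m _ => TensorProduct.mk R (Localization.AtPrime m) P 1)
  intro m hm
  show (1 : Localization.AtPrime m) ⊗ₜ[R] (f x • y) = (1 : Localization.AtPrime m) ⊗ₜ[R] (f y • x)
  haveI : Module.Free (Localization.AtPrime m) (Localization.AtPrime m ⊗[R] P) :=
    Module.free_of_flat_of_isLocalRing (R := Localization.AtPrime m)
      (P := Localization.AtPrime m ⊗[R] P)
  have h := alt_of_finrank_one (loc_finrank_one hrk m) (bcF (Localization.AtPrime m) f)
    ((1 : Localization.AtPrime m) ⊗ₜ[R] x) ((1 : Localization.AtPrime m) ⊗ₜ[R] y)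
  rw [bcF_tmul, bcF_tmul, smul_one_smul_tmul, smul_one_smul_tmul] at h
  exact h

/-- a projective module of rank one is faithful -/
theorem faithful_rank_one (hrk : ∀ q : PrimeSpectrum R, Module.rankAtStalk P q = 1) (r : R)
    (h : ∀ x : P, r • x = 0) : r = 0 := by
  apply Module.eq_of_localization_maximal
    (fun m _ => Localization.AtPrime m ⊗[R] R)
    (fun m _ => TensorProduct.mk R (Localization.AtPrime m) R 1)
  intro m hm
  show (1 : Localization.AtPrime m) ⊗ₜ[R] r = (1 : Localization.AtPrime m) ⊗ₜ[R] (0 : R)
  haveI : Module.Free (Localization.AtPrime m) (Localization.AtPrime m ⊗[R] P) :=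
    Module.free_of_flat_of_isLocalRing (R := Localization.AtPrime m)
      (P := Localization.AtPrime m ⊗[R] P)
  have h1 : ∀ z : Localization.AtPrime m ⊗[R] P, (algebraMap R (Localization.AtPrime m) r) • z = 0 := by
    intro z
    induction z using TensorProduct.induction_on with
    | zero => rw [smul_zero]
    | tmul s x => rw [algebraMap_smul, ← TensorProduct.tmul_smul, h x, TensorProduct.tmul_zero]
    | add a b ha hb => rw [smul_add, ha, hb, add_zero]
  have h2 := smul_basis_eq_zero (loc_finrank_one hrk m) _ h1
  have h3 : (1 : Localization.AtPrime m) ⊗ₜ[R] r =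
      (algebraMap R (Localization.AtPrime m) r) ⊗ₜ[R] (1 : R) := by
    rw [Algebra.algebraMap_eq_smul_one, TensorProduct.smul_tmul, smul_eq_mul, mul_one]
  rw [h3, h2, TensorProduct.zero_tmul, TensorProduct.tmul_zero]

/-- every endomorphism of a projective module of rank one is a homothety -/
theorem end_rank_one (hrk : ∀ q : PrimeSpectrum R, Module.rankAtStalk P q = 1)
    (E : P →ₗ[R] P) : ∃ c : R, ∀ x, E x = c • x := by
  classical
  obtain ⟨n, F, G, -, -, hFG⟩ := Module.Finite.exists_comp_eq_id_of_projective R P
  let e : Fin n → P := fun k => F (fun j => if k = j then 1 else 0)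
  let g : Fin n → (P →ₗ[R] R) := fun k => (LinearMap.proj k) ∘ₗ G
  have hx : ∀ x : P, x = ∑ k, g k x • e k := by
    intro x
    have h1 := LinearMap.congr_fun hFG x
    rw [LinearMap.comp_apply, LinearMap.id_apply, LinearMap.pi_apply_eq_sum_univ F (G x)] at h1
    exact h1.symm
  refine ⟨∑ k, g k (E (e k)), fun x => ?_⟩
  conv_lhs => rw [hx x]
  rw [map_sum, Finset.sum_smul]
  refine Finset.sum_congr rfl (fun k _ => ?_)
  rw [map_smul]
  exact (alt_rank_one hrk (g k) (E (e k)) x).symm

end RankOne

end

end Groth.Agent.H84.OT
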