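import Groth.Agent.H84.OT11
import Groth.Agent.H84.OT10
import Groth.Agent.S18471
import Mathlib

/-!
# The Cartier pairing: `A ⊗ A^D ≅ End(A)` with the convolution product
-/

set_option autoImplicit false
set_option linter.unusedSectionVars false
universe u v w

namespace Groth.Agent.H84.OT

open WithConv TensorProduct Groth.Agent.H1.FinHopf Groth.Agent.S18468

noncomputable section

section Theta
variable (R : Type u) [CommRing R] (A : Type u) [CommRing A] [HopfAlgebra R A]
  [Coalgebra.IsCocomm R A] [Module.Finite R A] [Module.Projective R A]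

instance instRightDistribAD : RightDistribClass (A ⊗[R] CartDual.D R A) := by
  let _ : Semiring (A ⊗[R] CartDual.D R A) := inferInstance
  infer_instance

instance instLeftDistribAD : LeftDistribClass (A ⊗[R] CartDual.D R A) := by
  let _ : Semiring (A ⊗[R] CartDual.D R A) := inferInstance
  infer_instance

instance instMulZeroAD : MulZeroClass (A ⊗[R] CartDual.D R A) := by
  let _ : Semiring (A ⊗[R] CartDual.D R A) := inferInstance
  infer_instance

/-- the canonical map `A ⊗ A^D → End(A)` -/
def Theta : A ⊗[R] CartDual.D R A →ₗ[R] (A →ₗ[R] A) :=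
  TensorProduct.lift ((LinearMap.smulRightₗ (R := R) (M := A) (M₂ := A)).flip.compl₂
    (CartDual.toDual R A).toLinearMap)

theorem Theta_tmul (x : A) (f : CartDual.D R A) (a : A) :
    Theta R A (x ⊗ₜ[R] f) a = f.ofConv a • x := rfl

theorem Theta_eq (t : A ⊗[R] CartDual.D R A) (a : A) :
    Theta R A t a = TensorProduct.rid R A
      (LinearMap.lTensor A ((Module.Dual.eval R A a) ∘ₗ (CartDual.toDual R A).toLinearMap) t) := by
  induction t using TensorProduct.induction_on with
  | zero => simp
  | tmul x f =>
    rw [Theta_tmul, LinearMap.lTensor_tmul, TensorProduct.rid_tmul]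
    rfl
  | add s t hs ht => rw [map_add, LinearMap.add_apply, hs, ht, map_add, map_add]

theorem Theta_injective (t : A ⊗[R] CartDual.D R A) (h : Theta R A t = 0) : t = 0 := by
  apply tensor_eq_zero_of_forall_proj
  intro g G
  obtain ⟨a, ha⟩ := (Module.evalEquiv R A).surjective (G ∘ₗ (CartDual.toDual R A).symm.toLinearMap)
  have hG : G = (Module.Dual.eval R A a) ∘ₗ (CartDual.toDual R A).toLinearMap := by
    apply LinearMap.ext
    intro f
    have h1 := LinearMap.congr_fun ha ((CartDual.toDual R A) f)
    rw [LinearMap.comp_apply, LinearEquiv.coe_coe, LinearEquiv.symm_apply_apply] at h1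
    rw [← h1]
    rfl
  have h2 : ∀ s : A ⊗[R] CartDual.D R A,
      LinearMap.mul' R R (TensorProduct.map g G s) = g (Theta R A s a) := by
    intro s
    induction s using TensorProduct.induction_on with
    | zero => simp
    | tmul x f =>
      rw [TensorProduct.map_tmul, LinearMap.mul'_apply, Theta_tmul, map_smul, hG, smul_eq_mul,
        mul_comm]
      rfl
    | add s t hs ht => rw [map_add, map_add, hs, ht, map_add, LinearMap.add_apply, map_add]
  rw [h2, h, LinearMap.zero_apply, map_zero]

theorem mul'_map_smulRight (f' g' : A →ₗ[R] R) (x y : A) (T : A ⊗[R] A) :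
    LinearMap.mul' R A (TensorProduct.map (f'.smulRight x) (g'.smulRight y) T) =
      LinearMap.mul' R R (TensorProduct.map f' g' T) • (x * y) := by
  induction T using TensorProduct.induction_on with
  | zero => simp
  | tmul a b =>
    rw [TensorProduct.map_tmul, LinearMap.mul'_apply, TensorProduct.map_tmul, LinearMap.mul'_apply,
      LinearMap.smulRight_apply, LinearMap.smulRight_apply, smul_mul_smul_comm]
  | add s t hs ht => rw [map_add, map_add, hs, ht, map_add, map_add, add_smul]

theorem Theta_mul_apply (s t : A ⊗[R] CartDual.D R A) (a : A) :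
    Theta R A (s * t) a = LinearMap.mul' R A
      (TensorProduct.map (Theta R A s) (Theta R A t) (Coalgebra.comul (R := R) a)) := by
  induction s using TensorProduct.induction_on with
  | zero => rw [zero_mul, map_zero, TensorProduct.map_zero_left]; rfl
  | tmul x f =>
    induction t using TensorProduct.induction_on with
    | zero => rw [mul_zero, map_zero, TensorProduct.map_zero_right]; rfl
    | tmul y g =>
      rw [Algebra.TensorProduct.tmul_mul_tmul, Theta_tmul]
      have h1 : Theta R A (x ⊗ₜ[R] f) = (f.ofConv).smulRight x := rfl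
      have h2 : Theta R A (y ⊗ₜ[R] g) = (g.ofConv).smulRight y := rfl
      rw [h1, h2, mul'_map_smulRight]
      rfl
    | add t1 t2 h1 h2 =>
      rw [mul_add, map_add, LinearMap.add_apply, h1, h2, map_add, TensorProduct.map_add_right,
        LinearMap.add_apply, map_add]
  | add s1 s2 h1 h2 =>
    rw [add_mul, map_add, LinearMap.add_apply, h1, h2, map_add, TensorProduct.map_add_left,
      LinearMap.add_apply, map_add]

theorem Theta_mul (s t : A ⊗[R] CartDual.D R A) :
    toConv (Theta R A (s * t)) = toConv (Theta R A s) * toConv (Theta R A t) := by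
  apply WithConv.ofConv_injective
  apply LinearMap.ext
  intro a
  exact Theta_mul_apply R A s t a

theorem Theta_one : toConv (Theta R A 1) = 1 := by
  apply WithConv.ofConv_injective
  apply LinearMap.ext
  intro a
  show Theta R A ((1 : A) ⊗ₜ[R] (1 : CartDual.D R A)) a = algebraMap R A (Coalgebra.counit (R := R) a)
  rw [Theta_tmul, Algebra.algebraMap_eq_smul_one]
  rfl

theorem Theta_pow (t : A ⊗[R] CartDual.D R A) (n : ℕ) :
    toConv (Theta R A (t ^ n)) = (toConv (Theta R A t)) ^ n := by
  induction n with
  | zero => rw [pow_zero, pow_zero, Theta_one]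
  | succ n ih => rw [pow_succ, pow_succ, Theta_mul, ih]

end Theta

end

end Groth.Agent.H84.OT
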