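import Groth.Agent.H84.OT12
import Mathlib

/-!
# The image of `y_1` under the comorphism of the Cartier pairing
-/

set_option autoImplicit false
set_option linter.unusedSectionVars false
universe u v w

namespace Groth.Agent.H84.OT

open WithConv TensorProduct Groth.Agent.H1.FinHopf Groth.Agent.S18468

noncomputable section

section Pairing
variable (p : ℕ) [hpf : Fact p.Prime] (R : Type u) [CommRing R] (u : R) (χ : (ZMod p)ˣ →* Rˣ)
  (A : Type u) [CommRing A] [HopfAlgebra R A]

theorem T_algebraMap (m : (ZMod p)ˣ) (r : R) : T p R A m (algebraMap R A r) = algebraMap R A r := by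
  rw [T_apply, AlgHom.commutes]

theorem aug_T (m : (ZMod p)ˣ) (a : A) : aug R A (T p R A m a) = T p R A m (aug R A a) := by
  rw [aug_apply, aug_apply, counit_T, map_sub, T_algebraMap]

theorem qq_T (hpk : (toConv (AlgHom.id R A)) ^ p = 1) (i : ℕ) (m : (ZMod p)ˣ) (a : A) :
    qq p R u χ A i (T p R A m a) = (((χ m : Rˣ) : R) ^ i) • qq p R u χ A i a := by
  rw [qq_apply, qq_apply, aug_T, proj_T_apply p R u χ A hpk]

theorem qq_apply_sum (i : ℕ) (a : A) :
    qq p R u χ A i a = u • ∑ m : (ZMod p)ˣ, ((((χ m⁻¹ : Rˣ) : R) ^ i) •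
      (T p R A m a - algebraMap R A (Coalgebra.counit (R := R) a))) := by
  rw [qq_apply, proj_apply]
  congr 1
  refine Finset.sum_congr rfl (fun m _ => ?_)
  rw [aug_apply, map_sub, T_algebraMap]

variable [Coalgebra.IsCocomm R A] [Module.Finite R A] [Module.Projective R A]

theorem dual_apply_qq (hu : u * ((p - 1 : ℕ) : R) = 1) (i : ℕ) (w : CartDual.D R A)
    (hw : w ∈ OortTate.eigenAug R (CartDual.D R A) p χ i) (a : A) :
    w.ofConv (qq p R u χ A i a) = w.ofConv a := by
  obtain ⟨hw1, hw2⟩ := (Groth.Agent.S18471.mem_eigenAug_dual p R χ A i w).1 hw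
  have h1 : ∀ b : A, w.ofConv (OortTate.proj R A p u χ i b) = w.ofConv b := by
    intro b
    rw [proj_apply, map_smul, map_sum]
    have h2 : ∀ m : (ZMod p)ˣ, w.ofConv ((((χ m⁻¹ : Rˣ) : R) ^ i) • T p R A m b) =
        (((χ m⁻¹ : Rˣ) : R) ^ i * ((χ m : Rˣ) : R) ^ i) * w.ofConv b := by
      intro m
      have h3 := LinearMap.congr_fun (hw2 m) b
      rw [LinearMap.comp_apply, LinearMap.smul_apply] at h3
      rw [map_smul, h3, smul_eq_mul, smul_eq_mul, mul_assoc]
    simp only [h2]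
    rw [← Finset.sum_mul, sum_diag p R χ i, smul_eq_mul, ← mul_assoc, hu, one_mul]
  rw [qq_apply, h1, aug_apply, map_sub, Algebra.algebraMap_eq_smul_one, map_smul, hw1, smul_zero,
    sub_zero]

variable (δ : A ⊗[R] CartDual.D R A)
  (ϕ : MonoidAlgebra R (Multiplicative (ZMod p)) →ₐ[R] A ⊗[R] CartDual.D R A)

theorem Theta_delta (hδ : ∀ a : A, TensorProduct.rid R A
      (LinearMap.lTensor A ((Module.Dual.eval R A a) ∘ₗ (CartDual.toDual R A).toLinearMap) δ) = a) :
    Theta R A δ = LinearMap.id := by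
  apply LinearMap.ext
  intro a
  rw [Theta_eq, hδ a, LinearMap.id_apply]

theorem Theta_phi_pow (hδ : ∀ a : A, TensorProduct.rid R A
      (LinearMap.lTensor A ((Module.Dual.eval R A a) ∘ₗ (CartDual.toDual R A).toLinearMap) δ) = a)
    (hϕ : ϕ (OortTate.muT R p) = δ) (n : ℕ) :
    Theta R A (ϕ (OortTate.muT R p ^ n)) = (SGA3b.powConv R A n).toLinearMap := by
  have h0 : ϕ (OortTate.muT R p ^ n) = δ ^ n := by
    rw [← hϕ]
    exact ϕ.toRingHom.map_pow _ n
  rw [h0, Groth.Agent.S18471.powConv_toLinearMap]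
  have h := Theta_pow R A δ n
  rw [Theta_delta R A δ hδ] at h
  exact congrArg ofConv h

theorem Theta_one_apply (a : A) :
    Theta R A 1 a = algebraMap R A (Coalgebra.counit (R := R) a) := by
  have h := congrArg (fun F : WithConv (A →ₗ[R] A) => F.ofConv a) (Theta_one R A)
  exact h

theorem ygen_eq (i : ℕ) :
    OortTate.ygen R p u χ i = u • ∑ m : (ZMod p)ˣ, ((((χ m⁻¹ : Rˣ) : R) ^ i) •
      (OortTate.muT R p ^ ((m : ZMod p).val) - 1)) := by
  show OortTate.proj R (MonoidAlgebra R (Multiplicative (ZMod p))) p u χ i (OortTate.muT R p - 1) = _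
  rw [proj_apply]
  congr 1
  refine Finset.sum_congr rfl (fun m _ => ?_)
  rw [T_muT]
  congr 2
  rw [← map_pow, ← ofAdd_nsmul, nsmul_one, ZMod.natCast_zmod_val]

theorem Theta_phi_ygen (hδ : ∀ a : A, TensorProduct.rid R A
      (LinearMap.lTensor A ((Module.Dual.eval R A a) ∘ₗ (CartDual.toDual R A).toLinearMap) δ) = a)
    (hϕ : ϕ (OortTate.muT R p) = δ) (i : ℕ) :
    Theta R A (ϕ (OortTate.ygen R p u χ i)) = qq p R u χ A i := by
  apply LinearMap.ext
  intro a
  rw [ygen_eq, map_smul, map_sum, map_smul, map_sum, LinearMap.smul_apply, LinearMap.sum_apply,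
    qq_apply_sum]
  congr 1
  refine Finset.sum_congr rfl (fun m _ => ?_)
  have h1 : ϕ (OortTate.muT R p ^ ((m : ZMod p).val) - 1) =
      ϕ (OortTate.muT R p ^ ((m : ZMod p).val)) - 1 := by
    rw [map_sub]
    congr 1
    exact ϕ.toRingHom.map_one
  rw [map_smul, map_smul, LinearMap.smul_apply, h1, map_sub, LinearMap.sub_apply,
    Theta_phi_pow p R A δ ϕ hδ hϕ, Theta_one_apply]
  rfl

end Pairing

end

end Groth.Agent.H84.OT
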