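import Groth.Agent.H84.OT13
import Mathlib

/-!
# Structure of a group of order `p` whose first eigenspace is free: `A = R[x]/(x^p - αx)`
-/

set_option autoImplicit false
set_option linter.unusedSectionVars false
set_option linter.style.haveILetI false
universe u v w

namespace Groth.Agent.H84.OT

open WithConv TensorProduct Groth.Agent.H1.FinHopf Groth.Agent.S18468

noncomputable section

section RankDual

theorem rankAtStalk_dual (R : Type u) [CommRing R] (M : Type u) [AddCommGroup M] [Module R M]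
    [Module.Finite R M] [Module.Projective R M] (q : PrimeSpectrum R) :
    Module.rankAtStalk (Module.Dual R M) q = Module.rankAtStalk M q := by
  let S := q.asIdeal.primeCompl
  let Rq := Localization.AtPrime q.asIdeal
  let Mq := LocalizedModule S M
  let f := LocalizedModule.mkLinearMap S M
  let g := Algebra.linearMap R Rq
  haveI : Module.FinitePresentation R M := Module.finitePresentation_of_projective R M
  let φ := IsLocalizedModule.mapExtendScalars S f g Rq
  haveI : IsLocalizedModule S φ :=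
    Module.FinitePresentation.isLocalizedModule_mapExtendScalars S f g Rq
  let e : LocalizedModule S (Module.Dual R M) ≃ₗ[Rq] (Mq →ₗ[Rq] Rq) :=
    IsLocalizedModule.mapEquiv S (LocalizedModule.mkLinearMap S (Module.Dual R M)) φ Rq
      (LinearEquiv.refl R _)
  haveI : Module.Free Rq Mq := Module.free_of_flat_of_isLocalRing
  show Module.finrank Rq (LocalizedModule S (Module.Dual R M)) = Module.finrank Rq Mq
  rw [e.finrank_eq, Module.finrank_linearMap, Module.finrank_self, mul_one]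

theorem rankAtStalk_D (R : Type u) [CommRing R] (A : Type u) [AddCommGroup A] [Module R A]
    [Module.Finite R A] [Module.Projective R A] (q : PrimeSpectrum R) :
    Module.rankAtStalk (CartDual.D R A) q = Module.rankAtStalk A q := by
  rw [← rankAtStalk_dual R A q]
  exact congrFun (Module.rankAtStalk_eq_of_equiv (CartDual.toDual R A)) q

end RankDual

section Mod
variable (p : ℕ) [hpf : Fact p.Prime] (R : Type u) [CommRing R] (u : R) (χ : (ZMod p)ˣ →* Rˣ)
  (A : Type u) [CommRing A] [HopfAlgebra R A]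

theorem proj_mod (i : ℕ) :
    OortTate.proj R A p u χ i = OortTate.proj R A p u χ (i % (p - 1)) := by
  unfold OortTate.proj
  congr 1
  refine Finset.sum_congr rfl (fun m _ => ?_)
  rw [pow_eq_pow_mod i (chi_pow_card p R χ m⁻¹)]

theorem qq_mod (i : ℕ) : qq p R u χ A i = qq p R u χ A (i % (p - 1)) := by
  unfold qq
  rw [proj_mod]

theorem qq_of_mem_ne' (hχ : ∀ m : (ZMod p)ˣ, m ≠ 1 → IsUnit ((χ m : R) - 1)) (i j : ℕ)
    (hij : i % (p - 1) ≠ j % (p - 1)) (f : A)
    (hf : f ∈ OortTate.eigenAug R A p χ j) : qq p R u χ A i f = 0 := by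
  have hp : p.Prime := hpf.out
  have hpos : 0 < p - 1 := by have := hp.one_lt; omega
  rw [qq_mod]
  rw [eigenAug_mod] at hf
  exact qq_of_mem_ne p R u χ A hχ _ _ (Nat.mod_lt _ hpos) (Nat.mod_lt _ hpos) hij f hf

theorem sum_qq_Ico (hu : u * ((p - 1 : ℕ) : R) = 1)
    (hχ : ∀ m : (ZMod p)ˣ, m ≠ 1 → IsUnit ((χ m : R) - 1)) (a : A) :
    ∑ t ∈ Finset.Ico 1 p, qq p R u χ A t a = aug R A a := by
  have hp : p.Prime := hpf.out
  rw [← sum_qq p R u χ A hu hχ a, Fin.sum_univ_eq_sum_range (fun i => qq p R u χ A i a) (p - 1),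
    Finset.sum_Ico_eq_sum_range]
  obtain ⟨k, hk⟩ : ∃ k, p - 1 = k + 1 := ⟨p - 2, by have := hp.one_lt; omega⟩
  rw [hk, Finset.sum_range_succ, Finset.sum_range_succ']
  congr 1
  · refine Finset.sum_congr rfl (fun i _ => ?_)
    rw [add_comm]
  · rw [qq_mod p R u χ A (1 + k), hk, add_comm 1 k, Nat.mod_self]

end Mod

theorem mod_ne_of_ne (n i j : ℕ) (hi1 : 1 ≤ i) (hi2 : i ≤ n) (hj1 : 1 ≤ j) (hj2 : j ≤ n)
    (hij : i ≠ j) : i % n ≠ j % n := by
  rcases Nat.lt_or_ge i n with h | h
  · rw [Nat.mod_eq_of_lt h]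
    rcases Nat.lt_or_ge j n with h' | h'
    · rw [Nat.mod_eq_of_lt h']; exact hij
    · have : j = n := by omega
      subst this; rw [Nat.mod_self]; omega
  · have : i = n := by omega
    subst this
    rw [Nat.mod_self]
    have h' : j < i := by omega
    rw [Nat.mod_eq_of_lt h']; omega

section ST
variable (p : ℕ) [hpf : Fact p.Prime] (R : Type u) [CommRing R] (u : R) (χ : (ZMod p)ˣ →* Rˣ)
  (A : Type u) [CommRing A] [HopfAlgebra R A] [Module.Finite R A] [Module.Projective R A]

theorem eigenAug_eq_span_pow (hpk : (toConv (AlgHom.id R A)) ^ p = 1)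
    (hu : u * ((p - 1 : ℕ) : R) = 1)
    (hχ : ∀ m : (ZMod p)ˣ, m ≠ 1 → IsUnit ((χ m : R) - 1))
    (hχp : ∀ m : (ZMod p)ˣ,
      ((χ m : Rˣ) : R) - (((m : ZMod p).val : ℕ) : R) ∈ Ideal.span ({(p : R)} : Set R))
    (hrk : ∀ q : PrimeSpectrum R, Module.rankAtStalk A q = p)
    (x : A) (hx : Submodule.span R {x} = OortTate.eigenAug R A p χ 1)
    (t : ℕ) (ht1 : 1 ≤ t) (ht2 : t ≤ p - 1) :
    OortTate.eigenAug R A p χ t = Submodule.span R {x ^ t} := by
  rw [← eigenAug_one_pow_eq p R u χ A hpk hu hχ hχp hrk t ht1 ht2, ← hx, Submodule.span_pow,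
    Set.singleton_pow]

theorem pow_smul_eq_zero (hpk : (toConv (AlgHom.id R A)) ^ p = 1)
    (hu : u * ((p - 1 : ℕ) : R) = 1)
    (hχ : ∀ m : (ZMod p)ˣ, m ≠ 1 → IsUnit ((χ m : R) - 1))
    (hχp : ∀ m : (ZMod p)ˣ,
      ((χ m : Rˣ) : R) - (((m : ZMod p).val : ℕ) : R) ∈ Ideal.span ({(p : R)} : Set R))
    (hrk : ∀ q : PrimeSpectrum R, Module.rankAtStalk A q = p)
    (x : A) (hx : Submodule.span R {x} = OortTate.eigenAug R A p χ 1)
    (t : ℕ) (ht1 : 1 ≤ t) (ht2 : t ≤ p - 1) (r : R) (h : r • x ^ t = 0) : r = 0 := by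
  haveI := finite_eigenAug p R u χ A hpk hu t
  haveI := projective_eigenAug p R u χ A hpk hu t
  apply faithful_rank_one (P := OortTate.eigenAug R A p χ t)
    (fun q => rankAtStalk_eigenAug p R u χ A hpk hu hχ hχp hrk t q) r
  intro y
  have hy : (y : A) ∈ Submodule.span R {x ^ t} := by
    rw [← eigenAug_eq_span_pow p R u χ A hpk hu hχ hχp hrk x hx t ht1 ht2]
    exact y.2
  rw [Submodule.mem_span_singleton] at hy
  obtain ⟨s, hs⟩ := hy
  apply Subtype.ext
  rw [Submodule.coe_smul, ← hs, smul_comm, h, smul_zero]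
  rfl

theorem pow_mem_eigenAug' (x : A) (hx : Submodule.span R {x} = OortTate.eigenAug R A p χ 1)
    (i : ℕ) (hi : 1 ≤ i) : x ^ i ∈ OortTate.eigenAug R A p χ i := by
  obtain ⟨s, rfl⟩ : ∃ s, i = s + 1 := ⟨i - 1, by omega⟩
  exact pow_mem_eigenAug p R χ A x (hx ▸ Submodule.mem_span_singleton_self x) s

theorem pows_span (hpk : (toConv (AlgHom.id R A)) ^ p = 1)
    (hu : u * ((p - 1 : ℕ) : R) = 1)
    (hχ : ∀ m : (ZMod p)ˣ, m ≠ 1 → IsUnit ((χ m : R) - 1))
    (hχp : ∀ m : (ZMod p)ˣ,
      ((χ m : Rˣ) : R) - (((m : ZMod p).val : ℕ) : R) ∈ Ideal.span ({(p : R)} : Set R))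
    (hrk : ∀ q : PrimeSpectrum R, Module.rankAtStalk A q = p)
    (x : A) (hx : Submodule.span R {x} = OortTate.eigenAug R A p χ 1) (a : A) :
    ∃ r : ℕ → R, a = ∑ i ∈ Finset.range p, r i • x ^ i := by
  have hp : p.Prime := hpf.out
  have h1 : ∀ t, ∃ s : R, t ∈ Finset.Ico 1 p → s • x ^ t = qq p R u χ A t a := by
    intro t
    by_cases ht : t ∈ Finset.Ico 1 p
    · have hm := qq_mem p R u χ A hpk t a
      rw [Finset.mem_Ico] at ht
      rw [eigenAug_eq_span_pow p R u χ A hpk hu hχ hχp hrk x hx t ht.1 (by omega),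
        Submodule.mem_span_singleton] at hm
      obtain ⟨s, hs⟩ := hm
      exact ⟨s, fun _ => hs⟩
    · exact ⟨0, fun h => absurd h ht⟩
  choose s hs using h1
  refine ⟨fun i => if i = 0 then Coalgebra.counit (R := R) a else s i, ?_⟩
  rw [Finset.range_eq_Ico, Finset.sum_eq_sum_Ico_succ_bot hp.pos]
  have h2 : ∑ t ∈ Finset.Ico (0 + 1) p,
      (if t = 0 then Coalgebra.counit (R := R) a else s t) • x ^ t =
      ∑ t ∈ Finset.Ico 1 p, qq p R u χ A t a := by
    refine Finset.sum_congr rfl (fun t ht => ?_)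
    rw [if_neg (by rw [Finset.mem_Ico] at ht; omega), hs t ht]
  rw [h2, sum_qq_Ico p R u χ A hu hχ, aug_apply]
  dsimp only
  rw [if_pos rfl, pow_zero, Algebra.algebraMap_eq_smul_one]
  abel

theorem pows_indep (hpk : (toConv (AlgHom.id R A)) ^ p = 1)
    (hu : u * ((p - 1 : ℕ) : R) = 1)
    (hχ : ∀ m : (ZMod p)ˣ, m ≠ 1 → IsUnit ((χ m : R) - 1))
    (hχp : ∀ m : (ZMod p)ˣ,
      ((χ m : Rˣ) : R) - (((m : ZMod p).val : ℕ) : R) ∈ Ideal.span ({(p : R)} : Set R))
    (hrk : ∀ q : PrimeSpectrum R, Module.rankAtStalk A q = p)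
    (x : A) (hx : Submodule.span R {x} = OortTate.eigenAug R A p χ 1) (r : ℕ → R)
    (h : ∑ i ∈ Finset.range p, r i • x ^ i = 0) : ∀ i, i < p → r i = 0 := by
  have hp : p.Prime := hpf.out
  have hmem := pow_mem_eigenAug' p R χ A x hx
  intro i hi
  by_cases hi0 : i = 0
  · subst hi0
    have h1 := congrArg (Coalgebra.counit (R := R)) h
    rw [map_sum, map_zero, Finset.sum_eq_single 0] at h1
    · rw [pow_zero, map_smul, Bialgebra.counit_one, smul_eq_mul, mul_one] at h1
      exact h1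
    · intro j _ hj
      rw [map_smul, counit_of_mem p R χ A j _ (hmem j (by omega)), smul_zero]
    · intro h0
      exact absurd (Finset.mem_range.2 hp.pos) h0
  · have h1 := congrArg (qq p R u χ A i) h
    rw [map_sum, map_zero, Finset.sum_eq_single i] at h1
    · rw [map_smul, qq_of_mem p R u χ A hu i _ (hmem i (by omega))] at h1
      exact pow_smul_eq_zero p R u χ A hpk hu hχ hχp hrk x hx i (by omega) (by omega) (r i) h1
    · intro j hj hji
      rw [map_smul]
      by_cases hj0 : j = 0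
      · subst hj0
        rw [pow_zero, ← map_one (algebraMap R A), qq_algebraMap, smul_zero]
      · rw [Finset.mem_range] at hj
        rw [qq_of_mem_ne' p R u χ A hχ i j
          (mod_ne_of_ne (p - 1) i j (by omega) (by omega) (by omega) (by omega)
            (fun h => hji h.symm)) _ (hmem j (by omega)), smul_zero]
    · intro h0
      exact absurd (Finset.mem_range.2 hi) h0

end ST

section Pres
variable {R : Type u} [CommRing R] {B : Type v} [CommRing B] [Algebra R B]
open Polynomial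

theorem ker_aeval_le (b : B) (β : R) (p : ℕ) (hp : 2 ≤ p) (hb : b ^ p = β • b)
    (hI : ∀ r : ℕ → R, ∑ i ∈ Finset.range p, r i • b ^ i = 0 → ∀ i, i < p → r i = 0)
    {C' : Type w} [CommRing C'] [Algebra R C'] (c : C') (hc : c ^ p = β • c) :
    RingHom.ker (aeval b : R[X] →ₐ[R] B).toRingHom ≤
      RingHom.ker (aeval c : R[X] →ₐ[R] C').toRingHom := by
  intro g hg
  rw [RingHom.mem_ker] at hg ⊢
  change aeval b g = 0 at hg
  change aeval c g = 0
  rcases subsingleton_or_nontrivial R with hR | hR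
  · have : g = 0 := Subsingleton.elim _ _
    rw [this, map_zero]
  let f : R[X] := X ^ p - C β * X
  have hdeg1 : degree (C β * X) < (p : WithBot ℕ) := by
    calc degree (C β * X) ≤ 1 := degree_C_mul_X_le β
      _ < (p : WithBot ℕ) := by exact_mod_cast hp
  have hf : f.Monic := monic_X_pow_sub hdeg1
  have hfb : aeval b f = 0 := by
    simp only [f, map_sub, map_pow, map_mul, aeval_X, aeval_C, hb, Algebra.smul_def, sub_self]
  have hfc : aeval c f = 0 := by
    simp only [f, map_sub, map_pow, map_mul, aeval_X, aeval_C, hc, Algebra.smul_def, sub_self]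
  have hfd : f.natDegree = p := by
    have h2 : (C β * X : R[X]).natDegree < (X ^ p : R[X]).natDegree := by
      rw [natDegree_X_pow]
      exact lt_of_le_of_lt ((natDegree_C_mul_le β X).trans natDegree_X_le) (by omega)
    rw [natDegree_sub_eq_left_of_natDegree_lt h2, natDegree_X_pow]
  have hf1 : f ≠ 1 := by
    intro h
    rw [h, natDegree_one] at hfd
    omega
  have h1 := modByMonic_add_div g f
  have hdeg : (g %ₘ f).natDegree < p := by
    have := natDegree_modByMonic_lt g hf hf1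
    rwa [hfd] at this
  have hrb : aeval b (g %ₘ f) = 0 := by
    have h2 := congrArg (aeval b) h1
    rw [map_add, map_mul, hfb, zero_mul, add_zero, hg] at h2
    exact h2
  have hcoeff : ∀ i, i < p → (g %ₘ f).coeff i = 0 := by
    apply hI
    rw [← hrb]
    conv_rhs => rw [as_sum_range' (g %ₘ f) p hdeg]
    rw [map_sum]
    refine Finset.sum_congr rfl (fun i _ => ?_)
    rw [aeval_monomial, Algebra.smul_def]
  have hr0 : g %ₘ f = 0 := by
    rw [as_sum_range' (g %ₘ f) p hdeg]
    refine Finset.sum_eq_zero (fun i hi => ?_)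
    rw [hcoeff i (Finset.mem_range.1 hi), monomial_zero_right]
  rw [← h1, hr0, zero_add, map_mul, hfc, zero_mul]

theorem aeval_surjective (b : B) (p : ℕ)
    (hS : ∀ y : B, ∃ r : ℕ → R, y = ∑ i ∈ Finset.range p, r i • b ^ i) :
    Function.Surjective (aeval b : R[X] →ₐ[R] B) := by
  intro y
  obtain ⟨r, hr⟩ := hS y
  refine ⟨∑ i ∈ Finset.range p, monomial i (r i), ?_⟩
  rw [map_sum, hr]
  refine Finset.sum_congr rfl (fun i _ => ?_)
  rw [aeval_monomial, Algebra.smul_def]

theorem exists_algHom (b : B) (β : R) (p : ℕ) (hp : 2 ≤ p) (hb : b ^ p = β • b)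
    (hS : ∀ y : B, ∃ r : ℕ → R, y = ∑ i ∈ Finset.range p, r i • b ^ i)
    (hI : ∀ r : ℕ → R, ∑ i ∈ Finset.range p, r i • b ^ i = 0 → ∀ i, i < p → r i = 0)
    {C' : Type w} [CommRing C'] [Algebra R C'] (c : C') (hc : c ^ p = β • c) :
    ∃ ψ : B →ₐ[R] C', ψ b = c := by
  refine ⟨AlgHom.liftOfSurjective (aeval b) (aeval_surjective b p hS) (aeval c)
    (ker_aeval_le b β p hp hb hI c hc), ?_⟩
  have := AlgHom.liftOfSurjective_apply (aeval b) (aeval_surjective b p hS) (aeval c)
    (ker_aeval_le b β p hp hb hI c hc) X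
  rwa [aeval_X, aeval_X] at this

theorem adjoin_eq_top_of_span (b : B) (p : ℕ)
    (hS : ∀ y : B, ∃ r : ℕ → R, y = ∑ i ∈ Finset.range p, r i • b ^ i) :
    Algebra.adjoin R {b} = ⊤ := by
  rw [Algebra.adjoin_singleton_eq_range_aeval, AlgHom.range_eq_top]
  exact aeval_surjective b p hS

end Pres

end

end Groth.Agent.H84.OT
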