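import Groth.Agent.H84.OT14
import Mathlib

/-!
# The universal constants `w_i` and the pairing between powers of the generators
-/

set_option autoImplicit false
set_option linter.unusedSectionVars false
set_option linter.style.haveILetI false
universe u v w

namespace Groth.Agent.H84.OT

open WithConv TensorProduct Groth.Agent.H1.FinHopf Groth.Agent.S18468

noncomputable section

section Univ
variable (p : ℕ) [hpf : Fact p.Prime] (R : Type u) [CommRing R] (u : R) (χ : (ZMod p)ˣ →* Rˣ)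
  (A : Type u) [CommRing A] [HopfAlgebra R A]

local notation "HH" => MonoidAlgebra R (Multiplicative (ZMod p))

/-- the monoid homomorphism from `ℤ/p` determined by an element of order dividing `p` -/
def zpowHom {M : Type*} [Monoid M] (d : M) (hd : d ^ p = 1) : Multiplicative (ZMod p) →* M where
  toFun m := d ^ (Multiplicative.toAdd m).val
  map_one' := by
    show d ^ (ZMod.val (0 : ZMod p)) = 1
    rw [ZMod.val_zero, pow_zero]
  map_mul' a b := by
    show d ^ (ZMod.val (Multiplicative.toAdd a + Multiplicative.toAdd b)) = _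
    rw [ZMod.val_add, ← pow_add, ← pow_eq_pow_mod _ hd]

theorem zpowHom_apply {M : Type*} [Monoid M] (d : M) (hd : d ^ p = 1)
    (m : Multiplicative (ZMod p)) : zpowHom p d hd m = d ^ (Multiplicative.toAdd m).val := rfl

theorem iota_pow (hpk : (toConv (AlgHom.id R A)) ^ p = 1) :
    (toConv (LinearMap.id : A →ₗ[R] A)) ^ p = 1 := by
  apply WithConv.ofConv_injective
  rw [← Groth.Agent.S18471.powConv_toLinearMap, powConv_def, hpk]
  rfl

/-- the algebra map from the group algebra of `ℤ/p` to the convolution algebra of `A` -/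
def Phi (hpk : (toConv (AlgHom.id R A)) ^ p = 1) : HH →ₐ[R] WithConv (A →ₗ[R] A) :=
  MonoidAlgebra.lift R (WithConv (A →ₗ[R] A)) (Multiplicative (ZMod p))
    (zpowHom p (toConv (LinearMap.id : A →ₗ[R] A)) (iota_pow p R A hpk))

theorem Phi_muT_pow (hpk : (toConv (AlgHom.id R A)) ^ p = 1) (n : ℕ) :
    Phi p R A hpk (OortTate.muT R p ^ n) = (toConv (LinearMap.id : A →ₗ[R] A)) ^ n := by
  rw [map_pow]
  congr 1
  show MonoidAlgebra.lift R (WithConv (A →ₗ[R] A)) (Multiplicative (ZMod p)) _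
    (MonoidAlgebra.of R (Multiplicative (ZMod p)) (Multiplicative.ofAdd 1)) = _
  rw [MonoidAlgebra.lift_of, zpowHom_apply]
  show (toConv (LinearMap.id : A →ₗ[R] A)) ^ (ZMod.val (1 : ZMod p)) = _
  rw [ZMod.val_one, pow_one]

theorem Phi_ygen (hpk : (toConv (AlgHom.id R A)) ^ p = 1) (i : ℕ) :
    Phi p R A hpk (OortTate.ygen R p u χ i) = toConv (qq p R u χ A i) := by
  apply WithConv.ofConv_injective
  apply LinearMap.ext
  intro a
  rw [ygen_eq, map_smul, map_sum, ofConv_toConv, qq_apply_sum, ofConv_smul, ofConv_sum,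
    LinearMap.smul_apply, LinearMap.sum_apply]
  congr 1
  refine Finset.sum_congr rfl (fun m _ => ?_)
  rw [map_smul, map_sub, map_one, Phi_muT_pow, ofConv_smul, ofConv_sub, LinearMap.smul_apply,
    LinearMap.sub_apply, ← Groth.Agent.S18471.powConv_toLinearMap]
  rfl

theorem exists_wc (hu : u * ((p - 1 : ℕ) : R) = 1) :
    ∃ w : ℕ → R, ∀ i, 1 ≤ i →
      OortTate.ygen R p u χ 1 ^ i = w i • OortTate.ygen R p u χ i := by
  have h1 : ∀ i, ∃ w : R, 1 ≤ i →
      OortTate.ygen R p u χ 1 ^ i = w • OortTate.ygen R p u χ i := by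
    intro i
    by_cases hi : 1 ≤ i
    · obtain ⟨s, rfl⟩ : ∃ s, i = s + 1 := ⟨i - 1, by omega⟩
      have hm := pow_mem_eigenAug p R χ HH (OortTate.ygen R p u χ 1) (ygen_mem p R u χ 1) s
      rw [eigenAug_mu_eq p R u χ hu (s + 1), Submodule.mem_span_singleton] at hm
      obtain ⟨w, hw⟩ := hm
      exact ⟨w, fun _ => hw.symm⟩
    · exact ⟨0, fun h => absurd h hi⟩
  choose w hw using h1
  exact ⟨w, hw⟩

theorem qq_one_pow (hpk : (toConv (AlgHom.id R A)) ^ p = 1) (w : ℕ → R)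
    (hw : ∀ i, 1 ≤ i → OortTate.ygen R p u χ 1 ^ i = w i • OortTate.ygen R p u χ i)
    (i : ℕ) (hi : 1 ≤ i) :
    (toConv (qq p R u χ A 1)) ^ i = w i • toConv (qq p R u χ A i) := by
  rw [← Phi_ygen p R u χ A hpk, ← map_pow, hw i hi, map_smul, Phi_ygen]

end Univ

section Pairing
variable (p : ℕ) [hpf : Fact p.Prime] (R : Type u) [CommRing R] (u : R) (χ : (ZMod p)ˣ →* Rˣ)
  (A : Type u) [CommRing A] [HopfAlgebra R A] [Coalgebra.IsCocomm R A] [Module.Finite R A]
  [Module.Projective R A]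

theorem qq_one_eq (hpk : (toConv (AlgHom.id R A)) ^ p = 1)
    (hu : u * ((p - 1 : ℕ) : R) = 1)
    (x : A) (hx : Submodule.span R {x} = OortTate.eigenAug R A p χ 1)
    (ξ : CartDual.D R A) (hξ : ξ ∈ OortTate.eigenAug R (CartDual.D R A) p χ 1)
    (hxξ : ξ.ofConv x = 1) :
    qq p R u χ A 1 = Theta R A (x ⊗ₜ[R] ξ) := by
  apply LinearMap.ext
  intro a
  have hm := qq_mem p R u χ A hpk 1 a
  rw [← hx, Submodule.mem_span_singleton] at hm
  obtain ⟨r, hr⟩ := hm
  have h1 := dual_apply_qq p R u χ A hu 1 ξ hξ a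
  rw [← hr, map_smul, hxξ, smul_eq_mul, mul_one] at h1
  rw [Theta_tmul, ← hr, h1]

theorem pairing_diag (hpk : (toConv (AlgHom.id R A)) ^ p = 1)
    (hu : u * ((p - 1 : ℕ) : R) = 1)
    (hχ : ∀ m : (ZMod p)ˣ, m ≠ 1 → IsUnit ((χ m : R) - 1))
    (hχp : ∀ m : (ZMod p)ˣ,
      ((χ m : Rˣ) : R) - (((m : ZMod p).val : ℕ) : R) ∈ Ideal.span ({(p : R)} : Set R))
    (hrk : ∀ q : PrimeSpectrum R, Module.rankAtStalk A q = p)
    (x : A) (hx : Submodule.span R {x} = OortTate.eigenAug R A p χ 1)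
    (ξ : CartDual.D R A) (hξ : ξ ∈ OortTate.eigenAug R (CartDual.D R A) p χ 1)
    (hxξ : ξ.ofConv x = 1) (w : ℕ → R)
    (hw : ∀ i, 1 ≤ i → OortTate.ygen R p u χ 1 ^ i = w i • OortTate.ygen R p u χ i)
    (i : ℕ) (hi1 : 1 ≤ i) (hi2 : i ≤ p - 1) :
    (ξ ^ i).ofConv (x ^ i) = w i := by
  have h1 := qq_one_pow p R u χ A hpk w hw i hi1
  rw [qq_one_eq p R u χ A hpk hu x hx ξ hξ hxξ, ← Theta_pow, Algebra.TensorProduct.tmul_pow] at h1
  have h2 := congrArg (fun F : WithConv (A →ₗ[R] A) => F.ofConv (x ^ i)) h1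
  simp only [ofConv_toConv, ofConv_smul, LinearMap.smul_apply] at h2
  rw [Theta_tmul, qq_of_mem p R u χ A hu i _ (pow_mem_eigenAug' p R χ A x hx i hi1)] at h2
  have h3 : ((ξ ^ i).ofConv (x ^ i) - w i) • x ^ i = 0 := by
    rw [sub_smul, h2, sub_self]
  exact sub_eq_zero.1
    (pow_smul_eq_zero p R u χ A hpk hu hχ hχp hrk x hx i hi1 hi2 _ h3)

theorem pairing_off (hu : u * ((p - 1 : ℕ) : R) = 1)
    (hχ : ∀ m : (ZMod p)ˣ, m ≠ 1 → IsUnit ((χ m : R) - 1))
    (x : A) (hx : Submodule.span R {x} = OortTate.eigenAug R A p χ 1)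
    (ξ : CartDual.D R A) (hξ : ξ ∈ OortTate.eigenAug R (CartDual.D R A) p χ 1)
    (i j : ℕ) (hi : i < p) (hj : j < p) (hij : i ≠ j) :
    (ξ ^ j).ofConv (x ^ i) = 0 := by
  have hmem := pow_mem_eigenAug' p R χ A x hx
  by_cases hj0 : j = 0
  · subst hj0
    rw [pow_zero]
    show algebraMap R R (Coalgebra.counit (R := R) (x ^ i)) = 0
    rw [counit_of_mem p R χ A i _ (hmem i (by omega)), map_zero]
  · obtain ⟨s, rfl⟩ : ∃ s, j = s + 1 := ⟨j - 1, by omega⟩
    have hmD := pow_mem_eigenAug p R χ (CartDual.D R A) ξ hξ s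
    by_cases hi0 : i = 0
    · subst hi0
      rw [pow_zero]
      exact ((Groth.Agent.S18471.mem_eigenAug_dual p R χ A (s + 1) _).1 hmD).1
    · rw [← dual_apply_qq p R u χ A hu (s + 1) _ hmD (x ^ i),
        qq_of_mem_ne' p R u χ A hχ (s + 1) i
          (mod_ne_of_ne (p - 1) (s + 1) i (by omega) (by omega) (by omega) (by omega)
            (fun h => hij h.symm)) _ (hmem i (by omega)), map_zero]

end Pairing

end

end Groth.Agent.H84.OT
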