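import Groth.Agent.H84.OT15
import Mathlib

/-!
# Tensor algebra of a rank one projective module: local generators via a partition of unity
-/

set_option autoImplicit false
set_option linter.unusedSectionVars false
set_option linter.style.haveILetI false
universe u v w

namespace Groth.Agent.H84.OT

open WithConv TensorProduct

noncomputable section

section PartUnity
variable {R : Type u} [CommRing R] {P : Type v} [AddCommGroup P] [Module R P] [Module.Finite R P]
  [Module.Projective R P]

/-- dual basis of a rank one projective module, with `∑ φ_k (f_k) = 1` -/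
theorem exists_partition (hrk : ∀ q : PrimeSpectrum R, Module.rankAtStalk P q = 1) :
    ∃ (n : ℕ) (f : Fin n → P) (φ : Fin n → (P →ₗ[R] R)),
      (∀ x : P, x = ∑ k, φ k x • f k) ∧ (∑ k, φ k (f k) = 1) ∧
      (∀ k x, φ k (f k) • x = φ k x • f k) := by
  classical
  obtain ⟨n, F, G, -, -, hFG⟩ := Module.Finite.exists_comp_eq_id_of_projective R P
  let e : Fin n → P := fun k => F (fun j => if k = j then 1 else 0)
  let g : Fin n → (P →ₗ[R] R) := fun k => (LinearMap.proj k) ∘ₗ G
  have hx : ∀ x : P, x = ∑ k, g k x • e k := by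
    intro x
    have h1 := LinearMap.congr_fun hFG x
    rw [LinearMap.comp_apply, LinearMap.id_apply, LinearMap.pi_apply_eq_sum_univ F (G x)] at h1
    exact h1.symm
  have halt : ∀ k x, g k (e k) • x = g k x • e k := fun k x => alt_rank_one hrk (g k) (e k) x
  refine ⟨n, e, g, hx, ?_, halt⟩
  have h2 : (∑ k, g k (e k)) - 1 = 0 := by
    apply faithful_rank_one hrk
    intro x
    rw [sub_smul, one_smul, Finset.sum_smul]
    simp only [halt]
    rw [← hx x, sub_self]
  exact sub_eq_zero.1 h2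

/-- an element killed by powers of a partition of unity vanishes -/
theorem eq_zero_of_pow_smul {M : Type w} [AddCommGroup M] [Module R M] {n : ℕ} (s : Fin n → R)
    (hs : ∑ k, s k = 1) (N : ℕ) (z : M) (hz : ∀ k, s k ^ N • z = 0) : z = 0 := by
  have h1 : Ideal.span (Set.range s) = ⊤ := by
    rw [Ideal.eq_top_iff_one, ← hs]
    exact Ideal.sum_mem _ (fun k _ => Ideal.subset_span ⟨k, rfl⟩)
  have h2 := Ideal.span_pow_eq_top _ h1 N
  have h3 : Ideal.span ((fun x : R => x ^ N) '' Set.range s) ≤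
      LinearMap.ker (LinearMap.toSpanSingleton R M z) := by
    rw [Ideal.span_le]
    rintro _ ⟨_, ⟨k, rfl⟩, rfl⟩
    exact hz k
  rw [h2] at h3
  have h4 : (1 : R) ∈ LinearMap.ker (LinearMap.toSpanSingleton R M z) := h3 Submodule.mem_top
  rw [LinearMap.mem_ker, LinearMap.toSpanSingleton_apply, one_smul] at h4
  exact h4

end PartUnity

section TA
variable {R : Type u} [CommRing R] {P : Type v} [AddCommGroup P] [Module R P]

/-- after multiplying by `φ(f)^t`, a tensor of degree `t` is a multiple of `ι(f)^t` -/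
theorem smul_pow_mem_span (f : P) (φ : P →ₗ[R] R) (halt : ∀ x, φ f • x = φ x • f) (t : ℕ)
    (z : TensorAlgebra R P)
    (hz : z ∈ (LinearMap.range (TensorAlgebra.ι R : P →ₗ[R] TensorAlgebra R P)) ^ t) :
    ∃ c : R, (φ f) ^ t • z = c • (TensorAlgebra.ι R f) ^ t := by
  induction t generalizing z with
  | zero =>
    rw [pow_zero, Submodule.mem_one] at hz
    obtain ⟨r, rfl⟩ := hz
    exact ⟨r, by rw [pow_zero, pow_zero, one_smul, Algebra.algebraMap_eq_smul_one]⟩
  | succ t ih =>
    rw [pow_succ] at hz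
    refine Submodule.mul_induction_on hz (fun a ha b hb => ?_) (fun x y hx hy => ?_)
    · obtain ⟨y, rfl⟩ := hb
      obtain ⟨c, hc⟩ := ih a ha
      refine ⟨c * φ y, ?_⟩
      rw [pow_succ, ← smul_mul_smul_comm, hc, ← map_smul, halt y, map_smul, smul_mul_smul_comm,
        ← pow_succ]
    · obtain ⟨c1, h1⟩ := hx
      obtain ⟨c2, h2⟩ := hy
      exact ⟨c1 + c2, by rw [smul_add, h1, h2, add_smul]⟩

end TA

section Pres
variable (p : ℕ) [hpf : Fact p.Prime] (R : Type u) [CommRing R] (u : R) (χ : (ZMod p)ˣ →* Rˣ)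
  (A : Type u) [CommRing A] [HopfAlgebra R A]

open Groth.Agent.S18468

theorem prod_mem_eigenAug (n : ℕ) (g : Fin (n + 1) → A)
    (hg : ∀ i, g i ∈ OortTate.eigenAug R A p χ 1) :
    ∏ i, g i ∈ OortTate.eigenAug R A p χ (n + 1) := by
  induction n with
  | zero =>
    rw [Fin.prod_univ_succ]
    simpa using hg 0
  | succ n ih =>
    rw [Fin.prod_univ_succ]
    have h := mul_mem_eigenAug p R χ A 1 (n + 1) _ _ (hg 0)
      (ih (fun i => g i.succ) (fun i => hg i.succ))
    rwa [add_comm 1 (n + 1)] at h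

theorem prod_mem_eigenAug_one (g : Fin p → A) (hg : ∀ i, g i ∈ OortTate.eigenAug R A p χ 1) :
    ∏ i, g i ∈ OortTate.eigenAug R A p χ 1 := by
  have hp : p.Prime := hpf.out
  obtain ⟨n, hn⟩ : ∃ n, p = n + 1 := ⟨p - 1, by have := hp.one_lt; omega⟩
  have h1 : OortTate.eigenAug R A p χ 1 = OortTate.eigenAug R A p χ p := by
    have := eigenAug_add_card p R χ A 1
    rw [← this]
    congr 1
    have := hp.one_lt
    omega
  rw [h1]
  clear h1
  subst hn
  exact prod_mem_eigenAug (n + 1) R χ A n g hg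

theorem decomp_indep (hu : u * ((p - 1 : ℕ) : R) = 1)
    (hχ : ∀ m : (ZMod p)ˣ, m ≠ 1 → IsUnit ((χ m : R) - 1)) (r : R) (a : ℕ → A)
    (ha : ∀ t ∈ Finset.Ico 1 p, a t ∈ OortTate.eigenAug R A p χ t)
    (h : algebraMap R A r + ∑ t ∈ Finset.Ico 1 p, a t = 0) :
    r = 0 ∧ ∀ t ∈ Finset.Ico 1 p, a t = 0 := by
  constructor
  · have h1 := congrArg (Coalgebra.counit (R := R)) h
    rw [map_add, map_sum, map_zero, Bialgebra.counit_algebraMap,
      Finset.sum_eq_zero (fun t ht => counit_of_mem p R χ A t _ (ha t ht)), add_zero] at h1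
    exact h1
  · intro t ht
    have h1 := congrArg (qq p R u χ A t) h
    rw [map_add, map_sum, map_zero, qq_algebraMap, zero_add, Finset.sum_eq_single t] at h1
    · rw [qq_of_mem p R u χ A hu t _ (ha t ht)] at h1
      exact h1
    · intro s hs hst
      rw [Finset.mem_Ico] at hs ht
      exact qq_of_mem_ne' p R u χ A hχ t s
        (mod_ne_of_ne (p - 1) t s (by omega) (by omega) (by omega) (by omega)
          (fun h => hst h.symm)) _ (ha s (Finset.mem_Ico.2 hs))
    · intro h0
      exact absurd ht h0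

end Pres

section Pres2
variable (p : ℕ) [hpf : Fact p.Prime] (R : Type u) [CommRing R] (u : R) (χ : (ZMod p)ˣ →* Rˣ)
  (A : Type u) [CommRing A] [HopfAlgebra R A] [Module.Finite R A] [Module.Projective R A]

open Groth.Agent.S18468

theorem map_range_iota_pow (n : ℕ) :
    ((LinearMap.range (TensorAlgebra.ι R : OortTate.eigenAug R A p χ 1 →ₗ[R]
        TensorAlgebra R (OortTate.eigenAug R A p χ 1))) ^ n).map
      (TensorAlgebra.lift R (OortTate.eigenAug R A p χ 1).subtype).toLinearMap =
      (OortTate.eigenAug R A p χ 1) ^ n := by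
  rw [Submodule.map_pow, ← LinearMap.range_comp, TensorAlgebra.ι_comp_lift,
    Submodule.range_subtype]

/-- the canonical map from the tensor algebra of `I_1` is injective in degrees `1, …, p - 1` -/
theorem lift_injOn_pow (hpk : (toConv (AlgHom.id R A)) ^ p = 1)
    (hu : u * ((p - 1 : ℕ) : R) = 1)
    (hχ : ∀ m : (ZMod p)ˣ, m ≠ 1 → IsUnit ((χ m : R) - 1))
    (hχp : ∀ m : (ZMod p)ˣ,
      ((χ m : Rˣ) : R) - (((m : ZMod p).val : ℕ) : R) ∈ Ideal.span ({(p : R)} : Set R))
    (hrk : ∀ q : PrimeSpectrum R, Module.rankAtStalk A q = p)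
    (t : ℕ) (ht1 : 1 ≤ t) (ht2 : t ≤ p - 1)
    (z : TensorAlgebra R (OortTate.eigenAug R A p χ 1))
    (hz : z ∈ (LinearMap.range (TensorAlgebra.ι R : OortTate.eigenAug R A p χ 1 →ₗ[R]
        TensorAlgebra R (OortTate.eigenAug R A p χ 1))) ^ t)
    (h : TensorAlgebra.lift R (OortTate.eigenAug R A p χ 1).subtype z = 0) : z = 0 := by
  haveI := finite_eigenAug p R u χ A hpk hu 1
  haveI := projective_eigenAug p R u χ A hpk hu 1
  haveI := finite_eigenAug p R u χ A hpk hu t
  haveI := projective_eigenAug p R u χ A hpk hu t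
  have hrk1 : ∀ q : PrimeSpectrum R, Module.rankAtStalk (OortTate.eigenAug R A p χ 1) q = 1 :=
    fun q => rankAtStalk_eigenAug p R u χ A hpk hu hχ hχp hrk 1 q
  have hrkt : ∀ q : PrimeSpectrum R, Module.rankAtStalk (OortTate.eigenAug R A p χ t) q = 1 :=
    fun q => rankAtStalk_eigenAug p R u χ A hpk hu hχ hχp hrk t q
  obtain ⟨n, f, φ, -, hone, halt⟩ := exists_partition hrk1
  apply eq_zero_of_pow_smul (fun k => φ k (f k)) hone (t + t) z
  intro k
  obtain ⟨c, hc⟩ := smul_pow_mem_span (f k) (φ k) (halt k) t z hz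
  -- `c • f_k ^ t = 0` in `A`
  have h1 : c • ((f k : A)) ^ t = 0 := by
    have h2 := congrArg (TensorAlgebra.lift R (OortTate.eigenAug R A p χ 1).subtype) hc
    rw [map_smul, h, smul_zero, map_smul, map_pow, TensorAlgebra.lift_ι_apply] at h2
    exact h2.symm
  -- `c * s_k ^ t` kills `I_t`
  have h3 : c * (φ k (f k)) ^ t = 0 := by
    apply faithful_rank_one hrkt
    intro y
    apply Subtype.ext
    have hy : (y : A) ∈ (OortTate.eigenAug R A p χ 1) ^ t := by
      rw [eigenAug_one_pow_eq p R u χ A hpk hu hχ hχp hrk t ht1 ht2]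
      exact y.2
    rw [← map_range_iota_pow p R χ A t] at hy
    obtain ⟨z', hz', hzy⟩ := hy
    obtain ⟨c', hc'⟩ := smul_pow_mem_span (f k) (φ k) (halt k) t z' hz'
    have h4 := congrArg (TensorAlgebra.lift R (OortTate.eigenAug R A p χ 1).subtype) hc'
    rw [map_smul, map_smul, map_pow, TensorAlgebra.lift_ι_apply] at h4
    have h5 : TensorAlgebra.lift R (OortTate.eigenAug R A p χ 1).subtype z' = (y : A) := hzy
    rw [h5] at h4
    rw [Submodule.coe_smul, mul_smul, h4, smul_comm, Submodule.subtype_apply, h1, smul_zero]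
    rfl
  rw [pow_add, mul_smul, hc, smul_smul, mul_comm, h3, zero_smul]

end Pres2

end

end Groth.Agent.H84.OT
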