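import Groth.Agent.H84.OT3
import Mathlib

/-!
# Monogenic dual algebras over algebraically closed fields and commutativity of group schemes
of prime order over local rings with infinite residue field
-/

set_option autoImplicit false
set_option linter.unusedSectionVars false
universe u v w

namespace Groth.Agent.H84.OT

open WithConv TensorProduct Groth.Agent.H1.FinHopf Groth.Agent.H84.CMM

noncomputable section

section NilGen
variable {K : Type u} [Field K] {A : Type v} [CommRing A] [Bialgebra K A] [Module.Finite K A]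

theorem exists_gen_of_nilpotent (p : ℕ) (hp2 : 2 ≤ p) (hA : Module.finrank K A = p)
    (hfact : ∀ m < p, (m.factorial : K) ≠ 0)
    (hnil : (RingHom.ker (Bialgebra.counitAlgHom K A)) ^ p = ⊥) :
    ∃ b : WithConv (A →ₗ[K] K), LinearIndependent K (fun j : Fin p => b ^ (j : ℕ)) ∧
      Submodule.span K (Set.range (fun j : Fin p => b ^ (j : ℕ))) = ⊤ := by
  classical
  set I := RingHom.ker (Bialgebra.counitAlgHom K A) with hI
  -- a nonzero element of `I`
  have hex : ∃ y : A, y ∈ I ∧ y ≠ 0 := by
    by_contra hcon
    push_neg at hcon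
    have h1 : ∀ a : A, a = algebraMap K A (CoalgebraStruct.counit (R := K) a) := by
      intro a
      have : a - algebraMap K A (CoalgebraStruct.counit (R := K) a) ∈ I := by
        rw [hI, RingHom.mem_ker, map_sub, AlgHom.commutes]
        show CoalgebraStruct.counit (R := K) a - _ = 0
        simp
      exact sub_eq_zero.1 (hcon _ this)
    have h2 : Submodule.span K {(1 : A)} = ⊤ := by
      rw [eq_top_iff]
      intro a _
      rw [h1 a, Algebra.algebraMap_eq_smul_one]
      exact Submodule.smul_mem _ _ (Submodule.mem_span_singleton_self 1)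
    have h3 : Module.finrank K A ≤ 1 := by
      rw [← finrank_top K A, ← h2]
      exact (finrank_span_le_card ({1} : Set A)).trans (by simp)
    omega
  obtain ⟨y, hyI, hy0⟩ := hex
  -- `I ≠ I ^ 2`
  have hne : ¬ I ≤ I ^ 2 := by
    intro hle
    have h1 : ∀ n : ℕ, I ≤ I ^ (n + 1) := by
      intro n
      induction n with
      | zero => rw [zero_add, pow_one]
      | succ n ih =>
        calc I ≤ I ^ 2 := hle
          _ = I * I := pow_two I
          _ ≤ I ^ (n + 1) * I := Ideal.mul_mono_left ih
          _ = I ^ (n + 1 + 1) := (pow_succ I (n + 1)).symm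
    have h2 := h1 (p - 1) hyI
    rw [Nat.sub_add_cancel (by omega), hnil] at h2
    exact hy0 ((Submodule.mem_bot A).1 h2)
  obtain ⟨x, hxI', hx2'⟩ := Set.not_subset.1 hne
  have hxI : x ∈ I := hxI'
  have hx2 : x ∉ I ^ 2 := hx2'
  have hεx : CoalgebraStruct.counit (R := K) x = 0 := by
    rw [hI, RingHom.mem_ker] at hxI; exact hxI
  set Z : Submodule K A := Submodule.span K {(1 : A)} ⊔ (I ^ 2).restrictScalars K with hZ
  have hxZ : x ∉ Z := by
    intro hx
    obtain ⟨a, ha, b, hb, hab⟩ := Submodule.mem_sup.1 hx
    obtain ⟨c, rfl⟩ := Submodule.mem_span_singleton.1 ha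
    have hbI : b ∈ I := Ideal.pow_le_self (by norm_num) hb
    have hεb : CoalgebraStruct.counit (R := K) b = 0 := by
      rw [hI, RingHom.mem_ker] at hbI; exact hbI
    have h1 := congrArg (CoalgebraStruct.counit (R := K)) hab
    rw [map_add, map_smul, Bialgebra.counit_one, hεb, hεx, add_zero, smul_eq_mul, mul_one] at h1
    rw [h1, zero_smul, zero_add] at hab
    exact hx2 (hab ▸ hb)
  obtain ⟨φ₀, hφ₀x, hφ₀Z⟩ := Submodule.exists_dual_map_eq_bot_of_notMem hxZ inferInstance
  set φ : A →ₗ[K] K := (φ₀ x)⁻¹ • φ₀ with hφdef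
  have hφx : φ x = 1 := by
    rw [hφdef, LinearMap.smul_apply, smul_eq_mul, inv_mul_cancel₀ hφ₀x]
  have hφZ : ∀ z ∈ Z, φ z = 0 := by
    intro z hz
    have : φ₀ z ∈ Z.map φ₀ := Submodule.mem_map_of_mem hz
    rw [hφ₀Z] at this
    rw [hφdef, LinearMap.smul_apply, (Submodule.mem_bot K).1 this, smul_zero]
  have hφder := funct_der φ (hφZ 1 (Submodule.mem_sup_left (Submodule.mem_span_singleton_self 1)))
    (fun w hw => hφZ w (Submodule.mem_sup_right hw))
  have hli := linearIndependent_convPow p hfact φ hφder x hεx hφx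
  haveI : FiniteDimensional K (WithConv (A →ₗ[K] K)) :=
    Module.Finite.equiv (WithConv.linearEquiv K (A →ₗ[K] K)).symm
  have hspan : Submodule.span K (Set.range (fun j : Fin p => (toConv φ) ^ (j : ℕ))) = ⊤ := by
    apply LinearIndependent.span_eq_top_of_card_eq_finrank' hli
    rw [Fintype.card_fin, (WithConv.linearEquiv K (A →ₗ[K] K)).finrank_eq]
    have : Module.finrank K (A →ₗ[K] K) = Module.finrank K (Module.Dual K A) := rfl
    rw [this, Subspace.dual_finrank_eq, hA]
  exact ⟨toConv φ, hli, hspan⟩

end NilGen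

section Points
variable {K : Type u} [Field K] {A : Type v} [CommRing A] [HopfAlgebra K A] [Module.Finite K A]

/-- a point as a linear functional in the convolution ring -/
def Lam (h : WithConv (A →ₐ[K] K)) : WithConv (A →ₗ[K] K) := toConv h.ofConv.toLinearMap

theorem Lam_mul (h h' : WithConv (A →ₐ[K] K)) : Lam (h * h') = Lam h * Lam h' := by
  apply WithConv.ofConv_injective
  apply LinearMap.ext
  intro a
  exact algHom_conv_apply h h' a

theorem Lam_one : Lam (1 : WithConv (A →ₐ[K] K)) = 1 := by
  apply WithConv.ofConv_injective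
  apply LinearMap.ext
  intro a
  rfl

theorem Lam_pow (h : WithConv (A →ₐ[K] K)) (j : ℕ) : Lam (h ^ j) = Lam h ^ j := by
  induction j with
  | zero => rw [pow_zero, pow_zero, Lam_one]
  | succ j ih => rw [pow_succ, pow_succ, Lam_mul, ih]

theorem exists_gen_of_card_points (p : ℕ) [Fact p.Prime] (hA : Module.finrank K A = p)
    (hcard : Nat.card (WithConv (A →ₐ[K] K)) = p) :
    ∃ b : WithConv (A →ₗ[K] K), LinearIndependent K (fun j : Fin p => b ^ (j : ℕ)) ∧
      Submodule.span K (Set.range (fun j : Fin p => b ^ (j : ℕ))) = ⊤ := by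
  classical
  haveI : IsCyclic (WithConv (A →ₐ[K] K)) := isCyclic_of_prime_card hcard
  obtain ⟨g, hg⟩ := IsCyclic.exists_generator (α := WithConv (A →ₐ[K] K))
  have hord : orderOf g = p := by
    rw [orderOf_eq_card_of_forall_mem_zpowers hg, hcard]
  let ι : Fin p → (A →ₐ[K] K) := fun j => (g ^ (j : ℕ)).ofConv
  have hinj : Function.Injective ι := by
    intro a b hab
    have h1 : g ^ (a : ℕ) = g ^ (b : ℕ) := WithConv.ofConv_injective hab
    have h2 := pow_injOn_Iio_orderOf (x := g)
      (by rw [Set.mem_Iio, hord]; exact a.2) (by rw [Set.mem_Iio, hord]; exact b.2) h1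
    exact Fin.ext h2
  have hli0 := (linearIndependent_algHom_toLinearMap K A K).comp ι hinj
  have hli : LinearIndependent K (fun j : Fin p => (Lam g) ^ (j : ℕ)) := by
    have h2 := hli0.map' (WithConv.linearEquiv K (A →ₗ[K] K)).symm.toLinearMap
      (LinearEquiv.ker _)
    have h3 : (fun j : Fin p => (Lam g) ^ (j : ℕ)) =
        (⇑(WithConv.linearEquiv K (A →ₗ[K] K)).symm.toLinearMap ∘ AlgHom.toLinearMap ∘ ι) := by
      funext j
      rw [← Lam_pow]
      rfl
    rw [h3]
    exact h2
  haveI : FiniteDimensional K (WithConv (A →ₗ[K] K)) :=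
    Module.Finite.equiv (WithConv.linearEquiv K (A →ₗ[K] K)).symm
  refine ⟨Lam g, hli, ?_⟩
  apply LinearIndependent.span_eq_top_of_card_eq_finrank' hli
  rw [Fintype.card_fin, (WithConv.linearEquiv K (A →ₗ[K] K)).finrank_eq]
  have : Module.finrank K (A →ₗ[K] K) = Module.finrank K (Module.Dual K A) := rfl
  rw [this, Subspace.dual_finrank_eq, hA]

end Points

section AlgClosedGen
variable (K : Type u) [Field K] [IsAlgClosed K] (A : Type v) [CommRing A] [HopfAlgebra K A]
  [Module.Finite K A]

/-- over an algebraically closed field, the dual algebra of a Hopf algebra of prime dimension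
is generated by one element -/
theorem exists_gen (p : ℕ) [hp : Fact p.Prime] (hA : Module.finrank K A = p) :
    ∃ b : WithConv (A →ₗ[K] K), LinearIndependent K (fun j : Fin p => b ^ (j : ℕ)) ∧
      Submodule.span K (Set.range (fun j : Fin p => b ^ (j : ℕ))) = ⊤ := by
  rcases card_points_or_nilpotent K A p hp.out hA with h | ⟨_, hnil⟩
  · exact exists_gen_of_card_points p hA h
  · exact exists_gen_of_nilpotent p hp.out.two_le hA
      (factorial_ne_zero_of_nilpotent K A p hp.out hA hnil) hnil

end AlgClosedGen

section LocalComm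

/-- over a local ring with infinite residue field, the dual algebra of a free Hopf algebra of
prime rank is commutative -/
theorem dual_comm_of_local (S : Type u) [CommRing S] [IsLocalRing S]
    [Infinite (IsLocalRing.ResidueField S)] (A : Type v) [CommRing A] [HopfAlgebra S A]
    [Module.Finite S A] [Module.Free S A] (p : ℕ) [Fact p.Prime]
    (hrank : Module.finrank S A = p) :
    ∀ f g : WithConv (A →ₗ[S] S), f * g = g * f := by
  classical
  let e : Module.Basis (Fin p) S A := Module.finBasisOfFinrankEq S A hrank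
  let k := IsLocalRing.ResidueField S
  let K := AlgebraicClosure k
  have hAK : Module.finrank K (K ⊗[S] A) = p := by
    rw [Module.finrank_eq_card_basis (e.baseChange K), Fintype.card_fin]
  obtain ⟨β, hli, hspan⟩ := exists_gen K (K ⊗[S] A) p hAK
  have hunit := isUnit_of_span_pow (isCompat_baseChange e K) β hli hspan
  have hne := hunit.ne_zero
  have hDk : MvPolynomial.map (algebraMap S k) (Dpoly e) ≠ 0 := by
    intro h0
    apply hne
    rw [MvPolynomial.aeval_def, MvPolynomial.eval₂_eq_eval_map,
      IsScalarTower.algebraMap_eq S k K, ← MvPolynomial.map_map, h0, map_zero, map_zero]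
  have hex : ∃ y : Fin p → k,
      MvPolynomial.eval y (MvPolynomial.map (algebraMap S k) (Dpoly e)) ≠ 0 := by
    by_contra hcon
    push_neg at hcon
    apply hDk
    apply MvPolynomial.funext
    intro y
    rw [hcon y, map_zero]
  obtain ⟨y, hy⟩ := hex
  have hsurj : ∀ i, ∃ s : S, algebraMap S k s = y i := fun i =>
    IsLocalRing.residue_surjective (y i)
  choose s hs using hsurj
  have hval : algebraMap S k (MvPolynomial.eval s (Dpoly e)) =
      MvPolynomial.eval y (MvPolynomial.map (algebraMap S k) (Dpoly e)) := by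
    rw [MvPolynomial.eval_map, ← MvPolynomial.eval₂_id (g := s),
      MvPolynomial.eval₂_comp_left (algebraMap S k), RingHom.comp_id]
    congr 1
    funext i
    exact hs i
  have hunitS : IsUnit (MvPolynomial.eval s (Dpoly e)) := by
    rw [← IsLocalRing.notMem_maximalIdeal]
    intro hmem
    apply hy
    rw [← hval]
    exact (IsLocalRing.residue_eq_zero_iff _).2 hmem
  refine dual_comm_of_isUnit (isCompat_self e) s ?_
  rw [MvPolynomial.aeval_def, Algebra.algebraMap_self, MvPolynomial.eval₂_id]
  exact hunitS

end LocalComm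

end

end Groth.Agent.H84.OT
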