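import Groth.Agent.H84.OT16
import Groth.Agent.S18474
import Mathlib

/-!
# The universal property of a group of order `p`, and transposed pairs of algebra maps
-/

set_option autoImplicit false
set_option linter.unusedSectionVars false
set_option linter.style.haveILetI false
universe u v w

namespace Groth.Agent.H84.OT

open WithConv TensorProduct Groth.Agent.S18468

noncomputable section

section UP
variable (p : ℕ) [hpf : Fact p.Prime] (R : Type u) [CommRing R] (u : R) (χ : (ZMod p)ˣ →* Rˣ)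
  (A : Type u) [CommRing A] [HopfAlgebra R A] [Module.Finite R A] [Module.Projective R A]

/-- `A` is generated as an algebra by `I_1` -/
theorem subalgebra_eq_top (hu : u * ((p - 1 : ℕ) : R) = 1)
    (hχ : ∀ m : (ZMod p)ˣ, m ≠ 1 → IsUnit ((χ m : R) - 1))
    (hχp : ∀ m : (ZMod p)ˣ,
      ((χ m : Rˣ) : R) - (((m : ZMod p).val : ℕ) : R) ∈ Ideal.span ({(p : R)} : Set R))
    (hrk : ∀ q : PrimeSpectrum R, Module.rankAtStalk A q = p)
    (S : Subalgebra R A) (hS : ∀ y : OortTate.eigenAug R A p χ 1, (y : A) ∈ S) : S = ⊤ := by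
  obtain ⟨hsurj, -⟩ := Groth.Agent.S18474.result p R u hu χ hχ hχp A hrk
  have key : ∀ z : TensorAlgebra R (OortTate.eigenAug R A p χ 1),
      TensorAlgebra.lift R (OortTate.eigenAug R A p χ 1).subtype z ∈ S := by
    intro z
    induction z using TensorAlgebra.induction with
    | algebraMap r => rw [AlgHom.commutes]; exact S.algebraMap_mem r
    | ι y => rw [TensorAlgebra.lift_ι_apply]; exact hS y
    | mul a b ha hb => rw [map_mul]; exact S.mul_mem ha hb
    | add a b ha hb => rw [map_add]; exact S.add_mem ha hb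
  rw [eq_top_iff]
  intro a _
  obtain ⟨z, rfl⟩ := hsurj a
  exact key z

theorem algHom_ext_I1 (hu : u * ((p - 1 : ℕ) : R) = 1)
    (hχ : ∀ m : (ZMod p)ˣ, m ≠ 1 → IsUnit ((χ m : R) - 1))
    (hχp : ∀ m : (ZMod p)ˣ,
      ((χ m : Rˣ) : R) - (((m : ZMod p).val : ℕ) : R) ∈ Ideal.span ({(p : R)} : Set R))
    (hrk : ∀ q : PrimeSpectrum R, Module.rankAtStalk A q = p)
    {B : Type v} [Semiring B] [Algebra R B] (Ψ₁ Ψ₂ : A →ₐ[R] B)
    (h : ∀ y : OortTate.eigenAug R A p χ 1, Ψ₁ (y : A) = Ψ₂ (y : A)) : Ψ₁ = Ψ₂ := by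
  have h1 := subalgebra_eq_top p R u χ A hu hχ hχp hrk (AlgHom.equalizer Ψ₁ Ψ₂) (fun y => h y)
  apply AlgHom.ext
  intro a
  have h2 : a ∈ AlgHom.equalizer Ψ₁ Ψ₂ := by rw [h1]; exact Algebra.mem_top
  exact h2

/-- the universal property: a linear map on `I_1` compatible with `p`-fold products extends to
an algebra map -/
theorem exists_algHom_of_compat (hu : u * ((p - 1 : ℕ) : R) = 1)
    (hχ : ∀ m : (ZMod p)ˣ, m ≠ 1 → IsUnit ((χ m : R) - 1))
    (hχp : ∀ m : (ZMod p)ˣ,
      ((χ m : Rˣ) : R) - (((m : ZMod p).val : ℕ) : R) ∈ Ideal.span ({(p : R)} : Set R))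
    (hrk : ∀ q : PrimeSpectrum R, Module.rankAtStalk A q = p)
    {B : Type v} [CommRing B] [Algebra R B] (g : OortTate.eigenAug R A p χ 1 →ₗ[R] B)
    (hg : ∀ (f : Fin p → OortTate.eigenAug R A p χ 1) (G : OortTate.eigenAug R A p χ 1),
      (G : A) = ∏ i, (f i : A) → g G = ∏ i, g (f i)) :
    ∃ Ψ : A →ₐ[R] B, ∀ y : OortTate.eigenAug R A p χ 1, Ψ (y : A) = g y := by
  obtain ⟨hsurj, hker⟩ := Groth.Agent.S18474.result p R u hu χ hχ hχp A hrk
  have hk : ∀ a ∈ RingHom.ker (TensorAlgebra.lift R (OortTate.eigenAug R A p χ 1).subtype),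
      TensorAlgebra.lift R g a = 0 := by
    rw [hker]
    intro a ha
    have h1 : Ideal.span {x : TensorAlgebra R (OortTate.eigenAug R A p χ 1) |
          ∃ (f : Fin p → OortTate.eigenAug R A p χ 1) (g : OortTate.eigenAug R A p χ 1),
            (g : A) = ∏ i, (f i : A) ∧
            x = (List.ofFn fun i => TensorAlgebra.ι R (f i)).prod - TensorAlgebra.ι R g} ≤
        RingHom.ker (TensorAlgebra.lift R g) := by
      rw [Ideal.span_le]
      rintro _ ⟨f, G, hG, rfl⟩
      rw [SetLike.mem_coe, RingHom.mem_ker, map_sub, TensorAlgebra.lift_ι_apply, map_list_prod,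
        List.map_ofFn, sub_eq_zero, hg f G hG, ← List.prod_ofFn]
      congr 1
      apply congrArg
      funext i
      exact TensorAlgebra.lift_ι_apply g (f i)
    exact RingHom.mem_ker.1 (h1 ha)
  refine ⟨(Ideal.Quotient.liftₐ _ (TensorAlgebra.lift R g) hk).comp
    (Ideal.quotientKerAlgEquivOfSurjective hsurj).symm.toAlgHom, fun y => ?_⟩
  have h2 : (y : A) = TensorAlgebra.lift R (OortTate.eigenAug R A p χ 1).subtype
      (TensorAlgebra.ι R y) := by
    rw [TensorAlgebra.lift_ι_apply]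
    rfl
  rw [h2, AlgHom.comp_apply]
  erw [Ideal.quotientKerAlgEquivOfSurjective_symm_apply hsurj]
  rw [Ideal.Quotient.liftₐ_apply, Ideal.Quotient.lift_mk]
  exact TensorAlgebra.lift_ι_apply g y

end UP

section Units
variable (p : ℕ) [hpf : Fact p.Prime] (R : Type u) [CommRing R] (u : R) (χ : (ZMod p)ˣ →* Rˣ)

local notation "HH" => MonoidAlgebra R (Multiplicative (ZMod p))

/-- the universal constants `w_1, …, w_{p-1}` are units -/
theorem wc_isUnit (hu : u * ((p - 1 : ℕ) : R) = 1)
    (hχ : ∀ m : (ZMod p)ˣ, m ≠ 1 → IsUnit ((χ m : R) - 1))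
    (hχp : ∀ m : (ZMod p)ˣ,
      ((χ m : Rˣ) : R) - (((m : ZMod p).val : ℕ) : R) ∈ Ideal.span ({(p : R)} : Set R))
    (w : ℕ → R)
    (hw : ∀ i, 1 ≤ i → OortTate.ygen R p u χ 1 ^ i = w i • OortTate.ygen R p u χ i)
    (t : ℕ) (ht1 : 1 ≤ t) (ht2 : t ≤ p - 1) : IsUnit (w t) := by
  haveI : Module.Free R HH := Module.Free.of_basis (MonoidAlgebra.basis (Multiplicative (ZMod p)) R)
  haveI : Module.Finite R HH :=
    Module.Finite.of_basis (MonoidAlgebra.basis (Multiplicative (ZMod p)) R)
  have h1 := eigenAug_one_pow_eq p R u χ HH (killed_mu p R) hu hχ hχp (rank_mu p R) t ht1 ht2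
  rw [eigenAug_mu_eq p R u χ hu 1, eigenAug_mu_eq p R u χ hu t, Submodule.span_pow,
    Set.singleton_pow] at h1
  have h2 : OortTate.ygen R p u χ t ∈ Submodule.span R {OortTate.ygen R p u χ 1 ^ t} := by
    rw [h1]
    exact Submodule.mem_span_singleton_self _
  rw [Submodule.mem_span_singleton] at h2
  obtain ⟨r, hr⟩ := h2
  rw [hw t ht1, smul_smul] at hr
  have h3 : (r * w t - 1) • OortTate.ygen R p u χ t = 0 := by
    rw [sub_smul, hr, one_smul, sub_self]
  have h4 := smul_ygen_eq_zero p R u χ hu t _ h3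
  exact IsUnit.of_mul_eq_one r (by rw [mul_comm]; exact sub_eq_zero.1 h4)

end Units

section DualBasis
variable (R : Type u) [CommRing R] (P : Type v) [AddCommGroup P] [Module R P] [Module.Finite R P]
  [Module.Projective R P]

theorem exists_dual_basis :
    ∃ (n : ℕ) (e : Fin n → P) (g : Fin n → (P →ₗ[R] R)), ∀ x : P, x = ∑ k, g k x • e k := by
  classical
  obtain ⟨n, F, G, -, -, hFG⟩ := Module.Finite.exists_comp_eq_id_of_projective R P
  refine ⟨n, fun k => F (fun j => if k = j then 1 else 0), fun k => (LinearMap.proj k) ∘ₗ G, ?_⟩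
  intro x
  have h1 := LinearMap.congr_fun hFG x
  rw [LinearMap.comp_apply, LinearMap.id_apply, LinearMap.pi_apply_eq_sum_univ F (G x)] at h1
  exact h1.symm

end DualBasis

section Fin
variable (R : Type u) [CommRing R]
  (A : Type u) [CommRing A] [HopfAlgebra R A] [Coalgebra.IsCocomm R A] [Module.Finite R A]
  [Module.Projective R A]
  (A' : Type u) [CommRing A'] [HopfAlgebra R A'] [Coalgebra.IsCocomm R A'] [Module.Finite R A']
  [Module.Projective R A']

/-- an algebra isomorphism whose inverse transpose is an algebra map is a bialgebra isomorphism -/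
theorem nonempty_bialgEquiv_of_transpose (ψ : A →ₐ[R] A') (ψ' : A' →ₐ[R] A)
    (h1 : ψ.comp ψ' = AlgHom.id R A') (h2 : ψ'.comp ψ = AlgHom.id R A)
    (ρ : CartDual.D R A →ₐ[R] CartDual.D R A') (hρs : Function.Surjective ρ)
    (htr : ∀ (d : CartDual.D R A) (a : A), (ρ d).ofConv (ψ a) = d.ofConv a) :
    Nonempty (A ≃ₐc[R] A') := by
  have hcounit : ∀ a : A, Coalgebra.counit (R := R) (ψ a) = Coalgebra.counit (R := R) a := by
    intro a
    have := htr 1 a
    rw [map_one] at this
    exact this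
  have hcomul : ∀ a : A, TensorProduct.map ψ.toLinearMap ψ.toLinearMap
      (Coalgebra.comul (R := R) a) = Coalgebra.comul (R := R) (ψ a) := by
    intro a
    rw [← sub_eq_zero]
    apply tensor_eq_zero_of_forall_proj
    intro g G
    obtain ⟨d1, hd1⟩ := hρs (toConv g)
    obtain ⟨d2, hd2⟩ := hρs (toConv G)
    have hg : g ∘ₗ ψ.toLinearMap = d1.ofConv := by
      apply LinearMap.ext
      intro b
      have := htr d1 b
      rw [hd1] at this
      exact this
    have hG : G ∘ₗ ψ.toLinearMap = d2.ofConv := by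
      apply LinearMap.ext
      intro b
      have := htr d2 b
      rw [hd2] at this
      exact this
    rw [map_sub, map_sub, sub_eq_zero, TensorProduct.map_map, hg, hG]
    have h3 : LinearMap.mul' R R (TensorProduct.map d1.ofConv d2.ofConv
        (Coalgebra.comul (R := R) a)) = (d1 * d2).ofConv a := rfl
    have h4 : LinearMap.mul' R R (TensorProduct.map g G (Coalgebra.comul (R := R) (ψ a))) =
        (toConv g * toConv G : CartDual.D R A').ofConv (ψ a) := rfl
    rw [h3, h4, ← htr (d1 * d2) a, map_mul, hd1, hd2]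
  let e : A ≃ₐ[R] A' := AlgEquiv.ofAlgHom ψ ψ' h1 h2
  refine ⟨BialgEquiv.ofAlgEquiv e ?_ ?_⟩
  · apply AlgHom.ext
    intro a
    exact hcounit a
  · apply AlgHom.ext
    intro a
    exact hcomul a

end Fin

end

end Groth.Agent.H84.OT
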