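import Groth.Agent.H84.OT17
import Mathlib

/-!
# Algebra maps which are inverse transposes of each other on the first eigenspaces
-/

set_option autoImplicit false
set_option linter.unusedSectionVars false
set_option linter.style.haveILetI false
universe u v w

namespace Groth.Agent.H84.OT

open WithConv TensorProduct Groth.Agent.S18468

noncomputable section

section Mem
variable (p : ℕ) [hpf : Fact p.Prime] (R : Type u) [CommRing R] (u : R) (χ : (ZMod p)ˣ →* Rˣ)
  (A : Type u) [CommRing A] [HopfAlgebra R A] [Coalgebra.IsCocomm R A] [Module.Finite R A]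
  [Module.Projective R A]

theorem toConv_comp_qq_mem (hpk : (toConv (AlgHom.id R A)) ^ p = 1) (g : A →ₗ[R] R) (t : ℕ) :
    (toConv (g ∘ₗ qq p R u χ A t) : CartDual.D R A) ∈
      OortTate.eigenAug R (CartDual.D R A) p χ t := by
  rw [Groth.Agent.S18471.mem_eigenAug_dual]
  constructor
  · show g (qq p R u χ A t 1) = 0
    rw [← map_one (algebraMap R A), qq_algebraMap, map_zero]
  · intro m
    apply LinearMap.ext
    intro a
    show g (qq p R u χ A t (T p R A m a)) = (((χ m : Rˣ) : R) ^ t) • g (qq p R u χ A t a)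
    rw [qq_T p R u χ A hpk, map_smul]

end Mem

section Tr
variable (p : ℕ) [hpf : Fact p.Prime] (R : Type u) [CommRing R] (u : R) (χ : (ZMod p)ˣ →* Rˣ)
  (A : Type u) [CommRing A] [HopfAlgebra R A] [Coalgebra.IsCocomm R A] [Module.Finite R A]
  [Module.Projective R A]
  (A' : Type u) [CommRing A'] [HopfAlgebra R A'] [Coalgebra.IsCocomm R A'] [Module.Finite R A']
  [Module.Projective R A']

theorem Theta_lam {n : ℕ} (e : Fin n → A) (g : Fin n → (A →ₗ[R] R))
    (hx : ∀ x : A, x = ∑ k, g k x • e k) (F : A →ₗ[R] A) :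
    Theta R A (∑ k, e k ⊗ₜ[R] (toConv (g k ∘ₗ F) : CartDual.D R A)) = F := by
  apply LinearMap.ext
  intro a
  rw [map_sum, LinearMap.sum_apply]
  simp only [Theta_tmul]
  exact (hx (F a)).symm

theorem transpose_of_I1 (hpk : (toConv (AlgHom.id R A)) ^ p = 1)
    (hpk' : (toConv (AlgHom.id R A')) ^ p = 1)
    (hu : u * ((p - 1 : ℕ) : R) = 1)
    (hχ : ∀ m : (ZMod p)ˣ, m ≠ 1 → IsUnit ((χ m : R) - 1))
    (hχp : ∀ m : (ZMod p)ˣ,
      ((χ m : Rˣ) : R) - (((m : ZMod p).val : ℕ) : R) ∈ Ideal.span ({(p : R)} : Set R))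
    (ψ : A →ₐ[R] A') (ρ : CartDual.D R A →ₐ[R] CartDual.D R A') (hψi : Function.Injective ψ)
    (hψs : ∀ x' ∈ OortTate.eigenAug R A' p χ 1, ∃ x ∈ OortTate.eigenAug R A p χ 1, ψ x = x')
    (hρ1 : ∀ φ ∈ OortTate.eigenAug R (CartDual.D R A) p χ 1,
      ρ φ ∈ OortTate.eigenAug R (CartDual.D R A') p χ 1)
    (hpair : ∀ φ ∈ OortTate.eigenAug R (CartDual.D R A) p χ 1,
      ∀ x ∈ OortTate.eigenAug R A p χ 1, (ρ φ).ofConv (ψ x) = φ.ofConv x) :
    ∀ (d : CartDual.D R A) (a : A), (ρ d).ofConv (ψ a) = d.ofConv a := by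
  classical
  have hp : p.Prime := hpf.out
  obtain ⟨n, e, g, hx⟩ := exists_dual_basis R A
  obtain ⟨n', e', g', hx'⟩ := exists_dual_basis R A'
  obtain ⟨w, hw⟩ := exists_wc p R u χ hu
  obtain ⟨Lam, hLamdef⟩ : ∃ Lam : (A →ₗ[R] A) → A ⊗[R] CartDual.D R A,
      Lam = fun F => ∑ k, e k ⊗ₜ[R] (toConv (g k ∘ₗ F) : CartDual.D R A) := ⟨_, rfl⟩
  obtain ⟨Lam', hLamdef'⟩ : ∃ Lam' : (A' →ₗ[R] A') → A' ⊗[R] CartDual.D R A',
      Lam' = fun F => ∑ k, e' k ⊗ₜ[R] (toConv (g' k ∘ₗ F) : CartDual.D R A') := ⟨_, rfl⟩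
  have hLam : ∀ F, Theta R A (Lam F) = F := by
    intro F
    rw [hLamdef]
    exact Theta_lam R A e g hx F
  have hLam' : ∀ F, Theta R A' (Lam' F) = F := by
    intro F
    rw [hLamdef']
    exact Theta_lam R A' e' g' hx' F
  obtain ⟨Ξ, hΞdef⟩ : ∃ Ξ : A ⊗[R] CartDual.D R A →ₐ[R] A' ⊗[R] CartDual.D R A',
      Ξ = Algebra.TensorProduct.map ψ ρ := ⟨_, rfl⟩
  have hΞ : ∀ (a : A) (d : CartDual.D R A) (b' : A'),
      Theta R A' (Ξ (a ⊗ₜ[R] d)) b' = (ρ d).ofConv b' • ψ a := by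
    intro a d b'
    rw [hΞdef, Algebra.TensorProduct.map_tmul, Theta_tmul]
  have hΞLam : ∀ (F : A →ₗ[R] A) (b' : A'), Theta R A' (Ξ (Lam F)) b' =
      ∑ k, (ρ (toConv (g k ∘ₗ F))).ofConv b' • ψ (e k) := by
    intro F b'
    rw [hLamdef]
    show Theta R A' (Ξ (∑ k, e k ⊗ₜ[R] (toConv (g k ∘ₗ F) : CartDual.D R A))) b' = _
    rw [map_sum, map_sum, LinearMap.sum_apply]
    refine Finset.sum_congr rfl (fun k _ => ?_)
    exact hΞ _ _ _
  -- (ii) powers of `δ_1`
  have hii : ∀ t, 1 ≤ t → (Lam (qq p R u χ A 1)) ^ t = w t • Lam (qq p R u χ A t) := by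
    intro t ht
    rw [← sub_eq_zero]
    apply Theta_injective R A
    rw [map_sub, sub_eq_zero, map_smul, hLam]
    have h1 := Theta_pow R A (Lam (qq p R u χ A 1)) t
    rw [hLam, qq_one_pow p R u χ A hpk w hw t ht] at h1
    exact congrArg ofConv h1
  have hii' : ∀ t, 1 ≤ t → (Lam' (qq p R u χ A' 1)) ^ t = w t • Lam' (qq p R u χ A' t) := by
    intro t ht
    rw [← sub_eq_zero]
    apply Theta_injective R A'
    rw [map_sub, sub_eq_zero, map_smul, hLam']
    have h1 := Theta_pow R A' (Lam' (qq p R u χ A' 1)) t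
    rw [hLam', qq_one_pow p R u χ A' hpk' w hw t ht] at h1
    exact congrArg ofConv h1
  -- (iii) `Ξ δ_1 = δ'_1`
  have hiii : Ξ (Lam (qq p R u χ A 1)) = Lam' (qq p R u χ A' 1) := by
    rw [← sub_eq_zero]
    apply Theta_injective R A'
    rw [map_sub, sub_eq_zero, hLam']
    apply LinearMap.ext
    intro a'
    rw [hΞLam]
    obtain ⟨x, hx1, hxq⟩ := hψs _ (qq_mem p R u χ A' hpk' 1 a')
    have h1 : ∀ k, (ρ (toConv (g k ∘ₗ qq p R u χ A 1))).ofConv a' = g k x := by
      intro k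
      have hm := toConv_comp_qq_mem p R u χ A hpk (g k) 1
      rw [← dual_apply_qq p R u χ A' hu 1 _ (hρ1 _ hm) a', ← hxq, hpair _ hm x hx1]
      show g k (qq p R u χ A 1 x) = g k x
      rw [qq_of_mem p R u χ A hu 1 x hx1]
    simp only [h1]
    rw [← hxq]
    conv_rhs => rw [hx x]
    rw [map_sum]
    refine Finset.sum_congr rfl (fun k _ => ?_)
    rw [map_smul]
  -- (iv) `Ξ δ_t = δ'_t`
  have hiv : ∀ t ∈ Finset.Ico 1 p, Ξ (Lam (qq p R u χ A t)) = Lam' (qq p R u χ A' t) := by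
    intro t ht
    rw [Finset.mem_Ico] at ht
    have hunit := wc_isUnit p R u χ hu hχ hχp w hw t ht.1 (by omega)
    have h1 : w t • Ξ (Lam (qq p R u χ A t)) = w t • Lam' (qq p R u χ A' t) := by
      rw [← map_smul, ← hii t ht.1, ← hii' t ht.1, ← hiii]
      exact Ξ.toRingHom.map_pow _ t
    exact (hunit.smul_left_cancel).1 h1
  -- (i) decomposition of the canonical element
  have hi : Lam LinearMap.id = 1 + ∑ t ∈ Finset.Ico 1 p, Lam (qq p R u χ A t) := by
    rw [← sub_eq_zero]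
    apply Theta_injective R A
    rw [map_sub, sub_eq_zero, hLam, map_add, map_sum]
    apply LinearMap.ext
    intro a
    rw [LinearMap.add_apply, LinearMap.sum_apply, Theta_one_apply]
    simp only [hLam]
    rw [sum_qq_Ico p R u χ A hu hχ, aug_apply, LinearMap.id_apply]
    ring
  have hi' : Lam' LinearMap.id = 1 + ∑ t ∈ Finset.Ico 1 p, Lam' (qq p R u χ A' t) := by
    rw [← sub_eq_zero]
    apply Theta_injective R A'
    rw [map_sub, sub_eq_zero, hLam', map_add, map_sum]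
    apply LinearMap.ext
    intro a
    rw [LinearMap.add_apply, LinearMap.sum_apply, Theta_one_apply]
    simp only [hLam']
    rw [sum_qq_Ico p R u χ A' hu hχ, aug_apply, LinearMap.id_apply]
    ring
  -- (v)
  have hv : Ξ (Lam LinearMap.id) = Lam' LinearMap.id := by
    rw [hi, hi', map_add, map_sum]
    congr 1
    · exact Ξ.toRingHom.map_one
    · exact Finset.sum_congr rfl hiv
  -- (vi)
  intro d b
  have h1 := hΞLam LinearMap.id (ψ b)
  rw [hv, hLam', LinearMap.id_apply] at h1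
  have h2 : b = ∑ k, (ρ (toConv (g k ∘ₗ LinearMap.id))).ofConv (ψ b) • e k := by
    apply hψi
    rw [map_sum]
    refine h1.trans (Finset.sum_congr rfl (fun k _ => ?_))
    rw [map_smul]
  have h3 : d = ∑ k, d.ofConv (e k) • (toConv (g k ∘ₗ LinearMap.id) : CartDual.D R A) := by
    apply WithConv.ofConv_injective
    apply LinearMap.ext
    intro a
    rw [ofConv_sum, LinearMap.sum_apply]
    conv_lhs => rw [hx a]
    rw [map_sum]
    refine Finset.sum_congr rfl (fun k _ => ?_)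
    rw [map_smul, ofConv_smul, LinearMap.smul_apply, smul_eq_mul, smul_eq_mul, mul_comm]
    rfl
  conv_rhs => rw [h2]
  conv_lhs => rw [h3]
  rw [map_sum, map_sum, ofConv_sum, LinearMap.sum_apply]
  refine Finset.sum_congr rfl (fun k _ => ?_)
  rw [map_smul, map_smul, ofConv_smul, LinearMap.smul_apply, smul_eq_mul, smul_eq_mul, mul_comm]

end Tr

end

end Groth.Agent.H84.OT
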