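import Groth.Agent.H84.OT1
import Mathlib

/-!
# Tools for group schemes of prime order over a general base:
separation of points of tensor products of projective modules, base change of functionals,
auxiliary local rings with infinite residue field, the determinant criterion for monogenic
dual algebras.
-/

set_option autoImplicit false
set_option linter.unusedSectionVars false
universe u v w

namespace Groth.Agent.H84.OT

open WithConv TensorProduct Groth.Agent.H1.FinHopf Groth.Agent.H84.CMM

noncomputable section

section Proj
variable {R : Type u} [CommRing R] {P : Type v} [AddCommGroup P] [Module R P]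
  [Module.Finite R P] [Module.Projective R P]
  {Q : Type w} [AddCommGroup Q] [Module R Q] [Module.Finite R Q] [Module.Projective R Q]

/-- functionals `f ⊗ g` separate the points of `P ⊗ Q` for finite projective modules -/
theorem tensor_eq_zero_of_forall_proj (T : P ⊗[R] Q)
    (h : ∀ (f : P →ₗ[R] R) (g : Q →ₗ[R] R),
      LinearMap.mul' R R (TensorProduct.map f g T) = 0) : T = 0 := by
  obtain ⟨n, fP, gP, -, -, hP⟩ := Module.Finite.exists_comp_eq_id_of_projective R P
  obtain ⟨m, fQ, gQ, -, -, hQ⟩ := Module.Finite.exists_comp_eq_id_of_projective R Q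
  have h1 : TensorProduct.map gP gQ T = 0 := by
    let bP := Pi.basisFun R (Fin n)
    let bQ := Pi.basisFun R (Fin m)
    let bb := bP.tensorProduct bQ
    have key : ∀ (T' : (Fin n → R) ⊗[R] (Fin m → R)) (i : Fin n) (j : Fin m),
        bb.repr T' (i, j) =
          LinearMap.mul' R R (TensorProduct.map (bP.coord i) (bQ.coord j) T') := by
      intro T' i j
      induction T' using TensorProduct.induction_on with
      | zero => simp
      | tmul a c =>
        rw [Module.Basis.tensorProduct_repr_tmul_apply, TensorProduct.map_tmul,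
          LinearMap.mul'_apply, Module.Basis.coord_apply, Module.Basis.coord_apply, smul_eq_mul,
          mul_comm]
      | add x y hx hy => rw [map_add, Finsupp.add_apply, hx, hy, map_add, map_add]
    apply bb.repr.injective
    rw [map_zero]
    ext ⟨i, j⟩
    rw [key, Finsupp.zero_apply, ← LinearMap.comp_apply (TensorProduct.map _ _),
      ← TensorProduct.map_comp]
    exact h _ _
  have h2 : T = TensorProduct.map fP fQ (TensorProduct.map gP gQ T) := by
    rw [← LinearMap.comp_apply, ← TensorProduct.map_comp, hP, hQ, TensorProduct.map_id,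
      LinearMap.id_apply]
  rw [h2, h1, map_zero]

end Proj

section Cocomm
variable {R : Type u} [CommRing R] {A : Type v} [AddCommGroup A] [Module R A] [Coalgebra R A]

theorem mul'_map_comm' (f g : A →ₗ[R] R) (T : A ⊗[R] A) :
    LinearMap.mul' R R (TensorProduct.map f g (TensorProduct.comm R A A T)) =
      LinearMap.mul' R R (TensorProduct.map g f T) := by
  induction T using TensorProduct.induction_on with
  | zero => simp
  | tmul a c => simp [mul_comm]
  | add x y hx hy => simp only [map_add, hx, hy]

variable [Module.Finite R A] [Module.Projective R A]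

/-- a finite projective coalgebra whose dual algebra is commutative is cocommutative -/
theorem isCocomm_of_dual_comm_proj
    (h : ∀ f g : WithConv (A →ₗ[R] R), f * g = g * f) : Coalgebra.IsCocomm R A := by
  refine ⟨LinearMap.ext fun a => ?_⟩
  rw [← sub_eq_zero]
  apply tensor_eq_zero_of_forall_proj
  intro f g
  rw [LinearMap.comp_apply, map_sub, map_sub]
  show LinearMap.mul' R R (TensorProduct.map f g (TensorProduct.comm R A A
    (CoalgebraStruct.comul (R := R) a))) - LinearMap.mul' R R (TensorProduct.map f g
    (CoalgebraStruct.comul (R := R) a)) = 0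
  rw [mul'_map_comm', sub_eq_zero]
  have := congrArg (fun F : WithConv (A →ₗ[R] R) => F.ofConv a) (h (toConv g) (toConv f))
  exact this

end Cocomm

section BC
variable {R : Type u} [CommRing R] (S : Type w) [CommRing S] [Algebra R S]
  {A : Type v} [AddCommGroup A] [Module R A]

/-- base change of a linear functional -/
def bcF (f : A →ₗ[R] R) : S ⊗[R] A →ₗ[S] S :=
  (AlgebraTensorModule.rid R S S).toLinearMap ∘ₗ f.baseChange S

theorem bcF_tmul (f : A →ₗ[R] R) (s : S) (a : A) : bcF S f (s ⊗ₜ[R] a) = f a • s := by
  simp [bcF]

variable [Coalgebra R A]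

theorem conv_bcF_aux (f g : A →ₗ[R] R) (t : A ⊗[R] A) :
    LinearMap.mul' S S (TensorProduct.map (bcF S f) (bcF S g)
      (AlgebraTensorModule.tensorTensorTensorComm R S R S S S A A
        (((1 : S) ⊗ₜ[S] (1 : S)) ⊗ₜ[R] t))) =
    algebraMap R S (LinearMap.mul' R R (TensorProduct.map f g t)) := by
  induction t using TensorProduct.induction_on with
  | zero => simp
  | tmul a b =>
    rw [AlgebraTensorModule.tensorTensorTensorComm_tmul, TensorProduct.map_tmul,
      LinearMap.mul'_apply, bcF_tmul, bcF_tmul, TensorProduct.map_tmul, LinearMap.mul'_apply,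
      map_mul, Algebra.algebraMap_eq_smul_one, Algebra.algebraMap_eq_smul_one]
  | add x y hx hy =>
    rw [TensorProduct.tmul_add, map_add, map_add, map_add, hx, hy, map_add, map_add, map_add]

/-- the convolution product of base-changed functionals on elements `1 ⊗ a` -/
theorem conv_bcF_apply (f g : A →ₗ[R] R) (a : A) :
    (toConv (bcF S f) * toConv (bcF S g)).ofConv ((1 : S) ⊗ₜ[R] a) =
      algebraMap R S ((toConv f * toConv g).ofConv a) := by
  show LinearMap.mul' S S (TensorProduct.map (bcF S f) (bcF S g)
      (Coalgebra.comul (R := S) ((1 : S) ⊗ₜ[R] a))) =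
    algebraMap R S (LinearMap.mul' R R (TensorProduct.map f g (Coalgebra.comul (R := R) a)))
  rw [← conv_bcF_aux]
  rfl

end BC

section Nagata
open Polynomial
variable {R : Type u} [CommRing R]

/-- the local ring `R[X]_{𝔪 R[X]}`, with infinite residue field -/
abbrev Snag (m : Ideal R) [m.IsMaximal] : Type u :=
  Localization.AtPrime (m.map (Polynomial.C : R →+* R[X]))

theorem algebraMap_Snag (m : Ideal R) [m.IsMaximal] (r : R) :
    algebraMap R (Snag m) r = algebraMap R[X] (Snag m) (Polynomial.C r) := by
  rw [IsScalarTower.algebraMap_apply R R[X] (Snag m)]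
  rfl

/-- the rings `Snag m` are jointly faithful -/
theorem eq_zero_of_forall_Snag (r : R)
    (h : ∀ (m : Ideal R) [m.IsMaximal], algebraMap R (Snag m) r = 0) : r = 0 := by
  by_contra hr
  let J : Ideal R := LinearMap.ker (LinearMap.toSpanSingleton R R r)
  have hJ : J ≠ ⊤ := by
    intro hJ
    have h1 : (1 : R) ∈ J := by rw [hJ]; exact Submodule.mem_top
    have h2 : (1 : R) • r = 0 := h1
    rw [one_smul] at h2
    exact hr h2
  obtain ⟨m, hm, hJm⟩ := Ideal.exists_le_maximal J hJ
  haveI := hm
  have h1 := h m
  rw [algebraMap_Snag, IsLocalization.map_eq_zero_iff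
    (m.map (Polynomial.C : R →+* R[X])).primeCompl] at h1
  obtain ⟨⟨s, hs⟩, hs0⟩ := h1
  have hs' : s ∉ m.map (Polynomial.C : R →+* R[X]) := hs
  rw [Ideal.mem_map_C_iff, not_forall] at hs'
  obtain ⟨n, hn⟩ := hs'
  apply hn
  apply hJm
  show (s.coeff n) • r = 0
  have h2 := congrArg (fun q : R[X] => q.coeff n) hs0
  simp only [Polynomial.coeff_mul_C, Polynomial.coeff_zero] at h2
  exact h2

instance infinite_residueField_Snag (m : Ideal R) [hm : m.IsMaximal] :
    Infinite (IsLocalRing.ResidueField (Snag m)) := by
  apply Infinite.of_injective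
    (fun n : ℕ => IsLocalRing.residue (Snag m) (algebraMap R[X] (Snag m) (Polynomial.X ^ n)))
  intro a b hab
  by_contra hne
  have h1 : algebraMap R[X] (Snag m) (Polynomial.X ^ a - Polynomial.X ^ b) ∈
      IsLocalRing.maximalIdeal (Snag m) := by
    rw [map_sub, ← IsLocalRing.residue_eq_zero_iff, map_sub, sub_eq_zero]
    exact hab
  rw [IsLocalization.AtPrime.to_map_mem_maximal_iff (Snag m)
    (m.map (Polynomial.C : R →+* R[X]))] at h1
  rw [Ideal.mem_map_C_iff] at h1
  have h2 := h1 a
  rw [Polynomial.coeff_sub, Polynomial.coeff_X_pow, Polynomial.coeff_X_pow, if_pos rfl,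
    if_neg hne, sub_zero] at h2
  exact hm.ne_top ((Ideal.eq_top_iff_one m).2 h2)

end Nagata

end

end Groth.Agent.H84.OT
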