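import Groth.Agent.H84.OT2
import Mathlib

/-!
# The determinant criterion and monogenic dual algebras
-/

set_option autoImplicit false
set_option linter.unusedSectionVars false
universe u v w w'

namespace Groth.Agent.H84.OT

open WithConv TensorProduct Groth.Agent.H1.FinHopf Groth.Agent.H84.CMM

noncomputable section

section Det
variable {S : Type u} [CommRing S] {C : Type v} [AddCommGroup C] [Module S C] [Coalgebra S C]
  {n : ℕ} (e : Module.Basis (Fin n) S C)

/-- structure constants of the comultiplication -/
def gam (l i m : Fin n) : S :=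
  (e.tensorProduct e).repr (Coalgebra.comul (R := S) (e l)) (i, m)

/-- coordinates of the powers of the generic functional -/
def Mpoly : ℕ → Fin n → MvPolynomial (Fin n) S
  | 0, l => MvPolynomial.C (Coalgebra.counit (R := S) (e l))
  | (j + 1), l => ∑ i, ∑ m, MvPolynomial.C (gam e l i m) * Mpoly j i * MvPolynomial.X m

/-- the determinant polynomial -/
def Dpoly : MvPolynomial (Fin n) S :=
  Matrix.det (Matrix.of fun (j l : Fin n) => Mpoly e (j : ℕ) l)

theorem comul_basis (l : Fin n) :
    Coalgebra.comul (R := S) (e l) = ∑ i, ∑ m, gam e l i m • (e i ⊗ₜ[S] e m) := by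
  have h := (e.tensorProduct e).sum_repr (Coalgebra.comul (R := S) (e l))
  rw [Fintype.sum_prod_type] at h
  rw [← h]
  refine Finset.sum_congr rfl (fun i _ => Finset.sum_congr rfl (fun m _ => ?_))
  rw [Module.Basis.tensorProduct_apply]
  rfl

variable {T : Type w} [CommRing T] [Algebra S T] {C' : Type w'} [AddCommGroup C'] [Module T C']
  [Coalgebra T C'] (e' : Module.Basis (Fin n) T C')

/-- compatibility of two coalgebras with bases: same structure constants -/
structure IsCompat : Prop where
  counit : ∀ l, Coalgebra.counit (R := T) (e' l) =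
    algebraMap S T (Coalgebra.counit (R := S) (e l))
  comul : ∀ l, Coalgebra.comul (R := T) (e' l) =
    ∑ i, ∑ m, algebraMap S T (gam e l i m) • (e' i ⊗ₜ[T] e' m)

theorem isCompat_self : IsCompat e e where
  counit _ := rfl
  comul l := by
    rw [comul_basis e l]
    rfl

variable {e e'}

theorem pow_apply_eq (h : IsCompat e e') (t : Fin n → T) (j : ℕ) (l : Fin n) :
    ((toConv (e'.constr T t : C' →ₗ[T] T)) ^ j).ofConv (e' l) =
      MvPolynomial.aeval t (Mpoly e j l) := by
  induction j generalizing l with
  | zero =>
    rw [pow_zero]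
    show algebraMap T T (Coalgebra.counit (R := T) (e' l)) = _
    rw [h.counit, Mpoly, MvPolynomial.aeval_C]
    rfl
  | succ j ih =>
    rw [pow_succ]
    show LinearMap.mul' T T (TensorProduct.map ((toConv (e'.constr T t : C' →ₗ[T] T)) ^ j).ofConv
      (e'.constr T t : C' →ₗ[T] T) (Coalgebra.comul (R := T) (e' l))) = _
    rw [h.comul, Mpoly]
    simp only [map_sum, map_smul, TensorProduct.map_tmul, LinearMap.mul'_apply, ih,
      Module.Basis.constr_basis, map_mul, MvPolynomial.aeval_C, MvPolynomial.aeval_X,
      smul_eq_mul]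
    refine Finset.sum_congr rfl (fun i _ => Finset.sum_congr rfl (fun m _ => ?_))
    rw [mul_assoc]

/-- the determinant of the powers of a functional in the dual basis -/
theorem det_pow_eq (h : IsCompat e e') (t : Fin n → T) :
    e'.dualBasis.det (fun j : Fin n => ((toConv (e'.constr T t : C' →ₗ[T] T)) ^ (j : ℕ)).ofConv) =
      MvPolynomial.aeval t (Dpoly e) := by
  rw [Module.Basis.det_apply, Dpoly, AlgHom.map_det, ← Matrix.det_transpose]
  congr 1
  ext i j
  rw [Matrix.transpose_apply, Module.Basis.toMatrix_apply, Module.Basis.dualBasis_repr,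
    AlgHom.mapMatrix_apply, Matrix.map_apply, Matrix.of_apply]
  exact (pow_apply_eq h t (i : ℕ) j).symm ▸ rfl

theorem comm_of_span_pow (b : WithConv (C' →ₗ[T] T))
    (hspan : Submodule.span T (Set.range (fun j : Fin n => b ^ (j : ℕ))) = ⊤) :
    ∀ f g : WithConv (C' →ₗ[T] T), f * g = g * f := by
  intro f g
  have hf : f ∈ Submodule.span T (Set.range (fun j : Fin n => b ^ (j : ℕ))) := by
    rw [hspan]; exact Submodule.mem_top
  have hg : g ∈ Submodule.span T (Set.range (fun j : Fin n => b ^ (j : ℕ))) := by
    rw [hspan]; exact Submodule.mem_top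
  show Commute f g
  induction hf using Submodule.span_induction with
  | mem f hf =>
    obtain ⟨i, rfl⟩ := hf
    induction hg using Submodule.span_induction with
    | mem g hg =>
      obtain ⟨j, rfl⟩ := hg
      exact (Commute.refl b).pow_pow _ _
    | zero => exact Commute.zero_right _
    | add a b _ _ ha hb => exact ha.add_right hb
    | smul c a _ ha => exact ha.smul_right c
  | zero => exact Commute.zero_left _
  | add a b _ _ ha hb => exact ha.add_left hb
  | smul c a _ ha => exact ha.smul_left c

theorem span_pow_of_isUnit (h : IsCompat e e') (t : Fin n → T)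
    (hu : IsUnit (MvPolynomial.aeval t (Dpoly e))) :
    Submodule.span T (Set.range (fun j : Fin n =>
      (toConv (e'.constr T t : C' →ₗ[T] T)) ^ (j : ℕ))) = ⊤ := by
  rw [← det_pow_eq h t, ← Module.Basis.is_basis_iff_det] at hu
  have h2 := hu.2
  have h3 : Submodule.map (WithConv.linearEquiv T (C' →ₗ[T] T)).symm.toLinearMap
      (Submodule.span T (Set.range (fun j : Fin n =>
        ((toConv (e'.constr T t : C' →ₗ[T] T)) ^ (j : ℕ)).ofConv))) = ⊤ := by
    rw [h2, Submodule.map_top, LinearMap.range_eq_top]
    exact (WithConv.linearEquiv T (C' →ₗ[T] T)).symm.surjective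
  rw [Submodule.map_span, ← Set.range_comp] at h3
  exact h3

/-- if the determinant polynomial takes a unit value, the dual algebra is commutative -/
theorem dual_comm_of_isUnit (h : IsCompat e e') (t : Fin n → T)
    (hu : IsUnit (MvPolynomial.aeval t (Dpoly e))) :
    ∀ f g : WithConv (C' →ₗ[T] T), f * g = g * f :=
  comm_of_span_pow _ (span_pow_of_isUnit h t hu)

/-- a generator of the dual algebra gives a unit value of the determinant polynomial -/
theorem isUnit_of_span_pow [Nontrivial T] (h : IsCompat e e') (b : WithConv (C' →ₗ[T] T))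
    (hli : LinearIndependent T (fun j : Fin n => b ^ (j : ℕ)))
    (hspan : Submodule.span T (Set.range (fun j : Fin n => b ^ (j : ℕ))) = ⊤) :
    IsUnit (MvPolynomial.aeval (fun i => b.ofConv (e' i)) (Dpoly e)) := by
  have hb : b = toConv (e'.constr T (fun i => b.ofConv (e' i)) : C' →ₗ[T] T) := by
    rw [Module.Basis.constr_self]
  rw [← det_pow_eq h, ← Module.Basis.is_basis_iff_det, ← hb]
  constructor
  · exact hli.map' (WithConv.linearEquiv T (C' →ₗ[T] T)).toLinearMap
      (LinearEquiv.ker _)
  · have h3 : Submodule.map (WithConv.linearEquiv T (C' →ₗ[T] T)).toLinearMap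
        (Submodule.span T (Set.range (fun j : Fin n => b ^ (j : ℕ)))) = ⊤ := by
      rw [hspan, Submodule.map_top, LinearMap.range_eq_top]
      exact (WithConv.linearEquiv T (C' →ₗ[T] T)).surjective
    rw [Submodule.map_span, ← Set.range_comp] at h3
    exact h3

end Det

section BaseCompat
variable {S : Type u} [CommRing S] {A : Type v} [CommRing A] [Bialgebra S A]
  {n : ℕ} (e : Module.Basis (Fin n) S A) (T : Type w) [CommRing T] [Algebra S T]

theorem isCompat_baseChange : IsCompat e (e.baseChange T) where
  counit l := by
    rw [Module.Basis.baseChange_apply, TensorProduct.counit_tmul, CommSemiring.counit_apply,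
      Algebra.algebraMap_eq_smul_one]
  comul l := by
    rw [Module.Basis.baseChange_apply, TensorProduct.comul_tmul, CommSemiring.comul_apply,
      comul_basis e l, TensorProduct.tmul_sum, map_sum]
    refine Finset.sum_congr rfl (fun i _ => ?_)
    rw [TensorProduct.tmul_sum, map_sum]
    refine Finset.sum_congr rfl (fun m _ => ?_)
    rw [TensorProduct.tmul_smul,
      ← algebraMap_smul T (gam e l i m) (((1 : T) ⊗ₜ[T] (1 : T)) ⊗ₜ[S] (e i ⊗ₜ[S] e m)), map_smul,
      AlgebraTensorModule.tensorTensorTensorComm_tmul, Module.Basis.baseChange_apply,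
      Module.Basis.baseChange_apply]

end BaseCompat

end

end Groth.Agent.H84.OT
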