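import Groth.Agent.H84.OT4
import Groth.Agent.S18468
import Mathlib

/-!
# Eigenspaces of the augmentation ideal: general structure
-/

set_option autoImplicit false
set_option linter.unusedSectionVars false
universe u v w

namespace Groth.Agent.H84.OT

open WithConv TensorProduct Groth.Agent.S18468

noncomputable section

section Gen
variable (p : ℕ) [Fact p.Prime] (R : Type u) [CommRing R] (u : R) (χ : (ZMod p)ˣ →* Rˣ)
  (A : Type u) [CommRing A] [HopfAlgebra R A]

theorem chi_pow_card (m : (ZMod p)ˣ) : ((χ m : Rˣ) : R) ^ (p - 1) = 1 := by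
  rw [← Units.val_pow_eq_pow_val, ← map_pow, ← ZMod.card_units p, pow_card_eq_one, map_one,
    Units.val_one]

theorem eigenAug_add_card (i : ℕ) :
    OortTate.eigenAug R A p χ (i + (p - 1)) = OortTate.eigenAug R A p χ i := by
  ext f
  rw [mem_eigenAug, mem_eigenAug]
  simp only [pow_add, chi_pow_card, mul_one]

theorem eigenAug_add_mul (i k : ℕ) :
    OortTate.eigenAug R A p χ (i + (p - 1) * k) = OortTate.eigenAug R A p χ i := by
  induction k with
  | zero => rw [Nat.mul_zero, Nat.add_zero]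
  | succ k ih => rw [Nat.mul_succ, ← Nat.add_assoc, eigenAug_add_card, ih]

theorem eigenAug_mod (i : ℕ) :
    OortTate.eigenAug R A p χ i = OortTate.eigenAug R A p χ (i % (p - 1)) := by
  conv_lhs => rw [← Nat.mod_add_div i (p - 1)]
  exact eigenAug_add_mul p R χ A _ _

theorem T_apply (m : (ZMod p)ˣ) (a : A) :
    T p R A m a = SGA3b.powConv R A (m : ZMod p).val a := rfl

theorem mul_mem_eigenAug (i j : ℕ) (f g : A) (hf : f ∈ OortTate.eigenAug R A p χ i)
    (hg : g ∈ OortTate.eigenAug R A p χ j) : f * g ∈ OortTate.eigenAug R A p χ (i + j) := by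
  rw [mem_eigenAug] at hf hg ⊢
  refine ⟨?_, fun m => ?_⟩
  · rw [Bialgebra.counit_mul, hf.1, zero_mul]
  · have h1 := hf.2 m
    have h2 := hg.2 m
    rw [T_apply] at h1 h2 ⊢
    rw [map_mul, h1, h2, pow_add, smul_mul_smul_comm]

theorem pow_mem_eigenAug (f : A) (hf : f ∈ OortTate.eigenAug R A p χ 1) (t : ℕ) :
    f ^ (t + 1) ∈ OortTate.eigenAug R A p χ (t + 1) := by
  induction t with
  | zero => simpa using hf
  | succ t ih =>
    rw [pow_succ]
    exact mul_mem_eigenAug p R χ A (t + 1) 1 _ _ ih hf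

theorem eigenAug_one_pow_le (t : ℕ) :
    (OortTate.eigenAug R A p χ 1) ^ (t + 1) ≤ OortTate.eigenAug R A p χ (t + 1) := by
  induction t with
  | zero => rw [zero_add, pow_one]
  | succ t ih =>
    rw [pow_succ]
    refine Submodule.mul_le.2 (fun a ha b hb => ?_)
    exact mul_mem_eigenAug p R χ A (t + 1) 1 a b (ih ha) hb

/-- the projection onto the augmentation ideal -/
def aug : A →ₗ[R] A := LinearMap.id - (Algebra.linearMap R A) ∘ₗ (Coalgebra.counit (R := R))

theorem aug_apply (a : A) : aug R A a = a - algebraMap R A (Coalgebra.counit (R := R) a) := rfl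

theorem counit_aug (a : A) : Coalgebra.counit (R := R) (aug R A a) = 0 := by
  rw [aug_apply, map_sub, Bialgebra.counit_algebraMap, sub_self]

theorem aug_of_counit (a : A) (ha : Coalgebra.counit (R := R) a = 0) : aug R A a = a := by
  rw [aug_apply, ha, map_zero, sub_zero]

/-- the projector onto the `i`-th eigenspace -/
def qq (i : ℕ) : A →ₗ[R] A := OortTate.proj R A p u χ i ∘ₗ aug R A

theorem qq_apply (i : ℕ) (a : A) : qq p R u χ A i a = OortTate.proj R A p u χ i (aug R A a) := rfl

theorem qq_mem (hp : (toConv (AlgHom.id R A)) ^ p = 1) (i : ℕ) (a : A) :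
    qq p R u χ A i a ∈ OortTate.eigenAug R A p χ i :=
  proj_mem p R u χ A hp i _ (counit_aug R A a)

theorem counit_of_mem (i : ℕ) (f : A) (hf : f ∈ OortTate.eigenAug R A p χ i) :
    Coalgebra.counit (R := R) f = 0 := ((mem_eigenAug p R χ A i f).1 hf).1

theorem qq_of_mem (hu : u * ((p - 1 : ℕ) : R) = 1) (i : ℕ) (f : A)
    (hf : f ∈ OortTate.eigenAug R A p χ i) : qq p R u χ A i f = f := by
  rw [qq_apply, aug_of_counit R A f (counit_of_mem p R χ A i f hf)]
  exact proj_self_of_mem p R u χ A hu i f hf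

theorem qq_of_mem_ne (hχ : ∀ m : (ZMod p)ˣ, m ≠ 1 → IsUnit ((χ m : R) - 1)) (i j : ℕ)
    (hi : i < p - 1) (hj : j < p - 1) (hij : i ≠ j) (f : A)
    (hf : f ∈ OortTate.eigenAug R A p χ j) : qq p R u χ A i f = 0 := by
  rw [qq_apply, aug_of_counit R A f (counit_of_mem p R χ A j f hf)]
  exact proj_ne_of_mem p R u χ A hχ i j hi hj hij f hf

theorem qq_algebraMap (i : ℕ) (r : R) : qq p R u χ A i (algebraMap R A r) = 0 := by
  rw [qq_apply, aug_apply, Bialgebra.counit_algebraMap, sub_self, map_zero]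

theorem sum_qq (hu : u * ((p - 1 : ℕ) : R) = 1)
    (hχ : ∀ m : (ZMod p)ˣ, m ≠ 1 → IsUnit ((χ m : R) - 1)) (a : A) :
    ∑ i : Fin (p - 1), qq p R u χ A (i : ℕ) a = aug R A a :=
  sum_proj p R u χ A hu hχ (aug R A a)

/-- the projector as a map onto the eigenspace -/
def qr (hp : (toConv (AlgHom.id R A)) ^ p = 1) (i : ℕ) : A →ₗ[R] OortTate.eigenAug R A p χ i :=
  LinearMap.codRestrict _ (qq p R u χ A i) (qq_mem p R u χ A hp i)

theorem coe_qr (hp : (toConv (AlgHom.id R A)) ^ p = 1) (i : ℕ) (a : A) :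
    ((qr p R u χ A hp i a : OortTate.eigenAug R A p χ i) : A) = qq p R u χ A i a := rfl

theorem qr_coe (hp : (toConv (AlgHom.id R A)) ^ p = 1) (hu : u * ((p - 1 : ℕ) : R) = 1) (i : ℕ)
    (f : OortTate.eigenAug R A p χ i) : qr p R u χ A hp i (f : A) = f := by
  apply Subtype.ext
  rw [coe_qr]
  exact qq_of_mem p R u χ A hu i (f : A) f.2

theorem finite_eigenAug (hp : (toConv (AlgHom.id R A)) ^ p = 1)
    (hu : u * ((p - 1 : ℕ) : R) = 1) [Module.Finite R A] (i : ℕ) :
    Module.Finite R (OortTate.eigenAug R A p χ i) :=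
  Module.Finite.of_surjective (qr p R u χ A hp i) (fun f => ⟨f, qr_coe p R u χ A hp hu i f⟩)

theorem projective_eigenAug (hp : (toConv (AlgHom.id R A)) ^ p = 1)
    (hu : u * ((p - 1 : ℕ) : R) = 1) [Module.Projective R A] (i : ℕ) :
    Module.Projective R (OortTate.eigenAug R A p χ i) :=
  Module.Projective.of_split (OortTate.eigenAug R A p χ i).subtype (qr p R u χ A hp i)
    (LinearMap.ext fun f => qr_coe p R u χ A hp hu i f)

/-- the decomposition `A = R ⊕ ⨁ I_i`, forward map -/
def decompFwd (hp : (toConv (AlgHom.id R A)) ^ p = 1) :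
    A →ₗ[R] R × (Π i : Fin (p - 1), OortTate.eigenAug R A p χ (i : ℕ)) :=
  LinearMap.prod (Coalgebra.counit (R := R))
    (LinearMap.pi fun i : Fin (p - 1) => qr p R u χ A hp (i : ℕ))

theorem decompFwd_fst (hp : (toConv (AlgHom.id R A)) ^ p = 1) (a : A) :
    (decompFwd p R u χ A hp a).1 = Coalgebra.counit (R := R) a := rfl

theorem decompFwd_snd (hp : (toConv (AlgHom.id R A)) ^ p = 1) (a : A) (i : Fin (p - 1)) :
    (((decompFwd p R u χ A hp a).2 i : OortTate.eigenAug R A p χ (i : ℕ)) : A) =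
      qq p R u χ A (i : ℕ) a := rfl

/-- the decomposition `A = R ⊕ ⨁ I_i`, backward map -/
def decompInv : R × (Π i : Fin (p - 1), OortTate.eigenAug R A p χ (i : ℕ)) →ₗ[R] A :=
  LinearMap.coprod (Algebra.linearMap R A)
    (∑ i : Fin (p - 1), (OortTate.eigenAug R A p χ (i : ℕ)).subtype ∘ₗ LinearMap.proj i)

theorem decompInv_apply (z : R × (Π i : Fin (p - 1), OortTate.eigenAug R A p χ (i : ℕ))) :
    decompInv p R χ A z = algebraMap R A z.1 + ∑ i : Fin (p - 1), ((z.2 i : _) : A) := by
  simp only [decompInv, LinearMap.coprod_apply, LinearMap.sum_apply, LinearMap.comp_apply,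
    LinearMap.proj_apply, Submodule.subtype_apply, Algebra.linearMap_apply]

theorem decompInv_fwd (hp : (toConv (AlgHom.id R A)) ^ p = 1) (hu : u * ((p - 1 : ℕ) : R) = 1)
    (hχ : ∀ m : (ZMod p)ˣ, m ≠ 1 → IsUnit ((χ m : R) - 1)) (a : A) :
    decompInv p R χ A (decompFwd p R u χ A hp a) = a := by
  rw [decompInv_apply, decompFwd_fst]
  simp only [decompFwd_snd]
  rw [sum_qq p R u χ A hu hχ a, aug_apply]
  ring

theorem decompFwd_inv (hp : (toConv (AlgHom.id R A)) ^ p = 1) (hu : u * ((p - 1 : ℕ) : R) = 1)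
    (hχ : ∀ m : (ZMod p)ˣ, m ≠ 1 → IsUnit ((χ m : R) - 1))
    (z : R × (Π i : Fin (p - 1), OortTate.eigenAug R A p χ (i : ℕ))) :
    decompFwd p R u χ A hp (decompInv p R χ A z) = z := by
  have hx : ∀ j : Fin (p - 1), Coalgebra.counit (R := R) ((z.2 j : A)) = 0 := fun j =>
    counit_of_mem p R χ A (j : ℕ) _ (z.2 j).2
  apply Prod.ext
  · rw [decompFwd_fst, decompInv_apply, map_add, map_sum, Bialgebra.counit_algebraMap]
    simp only [hx, Finset.sum_const_zero, add_zero]
  · funext i
    apply Subtype.ext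
    rw [decompFwd_snd, decompInv_apply, map_add, map_sum, qq_algebraMap, zero_add]
    rw [Finset.sum_eq_single i]
    · exact qq_of_mem p R u χ A hu (i : ℕ) _ (z.2 i).2
    · intro j _ hj
      exact qq_of_mem_ne p R u χ A hχ (i : ℕ) (j : ℕ) i.2 j.2 (fun h => hj (Fin.ext h.symm)) _
        (z.2 j).2
    · intro h
      exact absurd (Finset.mem_univ i) h

/-- the decomposition `A = R ⊕ ⨁ I_i` -/
def decompEquiv (hp : (toConv (AlgHom.id R A)) ^ p = 1) (hu : u * ((p - 1 : ℕ) : R) = 1)
    (hχ : ∀ m : (ZMod p)ˣ, m ≠ 1 → IsUnit ((χ m : R) - 1)) :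
    A ≃ₗ[R] R × (Π i : Fin (p - 1), OortTate.eigenAug R A p χ (i : ℕ)) :=
  { decompFwd p R u χ A hp with
    invFun := decompInv p R χ A
    left_inv := decompInv_fwd p R u χ A hp hu hχ
    right_inv := decompFwd_inv p R u χ A hp hu hχ }

end Gen

section Cong
variable {R : Type u} [CommRing R] {A : Type u} [CommRing A] [HopfAlgebra R A]

/-- the auxiliary operator measuring the failure of `F * id` to be `F + id - ε` -/
def Xi (F : A →ₐ[R] A) : A ⊗[R] A →ₗ[R] A :=
  LinearMap.mul' R A ∘ₗ TensorProduct.map F.toLinearMap LinearMap.id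
    - (TensorProduct.lid R A).toLinearMap ∘ₗ LinearMap.rTensor A (Coalgebra.counit (R := R))
    - F.toLinearMap ∘ₗ (TensorProduct.rid R A).toLinearMap ∘ₗ
        LinearMap.lTensor A (Coalgebra.counit (R := R))
    + Algebra.linearMap R A ∘ₗ (Coalgebra.counit (R := R)) ∘ₗ (TensorProduct.lid R A).toLinearMap ∘ₗ
        LinearMap.rTensor A (Coalgebra.counit (R := R))

theorem Xi_mem (F : A →ₐ[R] A)
    (hF : ∀ a, Coalgebra.counit (R := R) (F a) = Coalgebra.counit (R := R) a) (t : A ⊗[R] A) :
    Xi F t ∈ (RingHom.ker (Bialgebra.counitAlgHom R A)) ^ 2 := by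
  induction t using TensorProduct.induction_on with
  | zero => rw [map_zero]; exact Submodule.zero_mem _
  | tmul a b =>
    have h1 : Xi F (a ⊗ₜ[R] b) = (F a - algebraMap R A (Coalgebra.counit (R := R) a)) *
        (b - algebraMap R A (Coalgebra.counit (R := R) b)) := by
      simp only [Xi, LinearMap.add_apply, LinearMap.sub_apply, LinearMap.comp_apply,
        TensorProduct.map_tmul, LinearMap.mul'_apply, LinearMap.rTensor_tmul,
        LinearMap.lTensor_tmul, LinearEquiv.coe_coe, TensorProduct.lid_tmul,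
        TensorProduct.rid_tmul, AlgHom.toLinearMap_apply, LinearMap.id_apply,
        Algebra.linearMap_apply, Algebra.smul_def, map_mul, AlgHom.commutes,
        Bialgebra.counit_mul, Bialgebra.counit_algebraMap]
      ring
    rw [h1, pow_two]
    apply Ideal.mul_mem_mul
    · rw [RingHom.mem_ker, map_sub, AlgHom.commutes]
      show Coalgebra.counit (R := R) (F a) - algebraMap R R _ = 0
      rw [hF a]
      simp
    · rw [RingHom.mem_ker, map_sub, AlgHom.commutes]
      show Coalgebra.counit (R := R) b - algebraMap R R _ = 0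
      simp
  | add x y hx hy => rw [map_add]; exact add_mem hx hy

theorem Xi_comul (F : A →ₐ[R] A) (x : A) :
    Xi F (Coalgebra.comul (R := R) x) =
      (toConv F * toConv (AlgHom.id R A)).ofConv x - x - F x
        + algebraMap R A (Coalgebra.counit (R := R) x) := by
  simp only [Xi, LinearMap.add_apply, LinearMap.sub_apply, LinearMap.comp_apply,
    Coalgebra.rTensor_counit_comul, Coalgebra.lTensor_counit_comul, LinearEquiv.coe_coe,
    TensorProduct.lid_tmul, TensorProduct.rid_tmul, one_smul, AlgHom.toLinearMap_apply,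
    Algebra.linearMap_apply]
  rfl

theorem counit_powConv (n : ℕ) (a : A) :
    Coalgebra.counit (R := R) (SGA3b.powConv R A n a) = Coalgebra.counit (R := R) a :=
  AlgHom.congr_fun (counit_comp_powConv R A n) a

/-- `[n] x ≡ n x` modulo the square of the augmentation ideal -/
theorem powConv_sub_nsmul_mem (n : ℕ) (x : A) (hx : Coalgebra.counit (R := R) x = 0) :
    SGA3b.powConv R A n x - n • x ∈ (RingHom.ker (Bialgebra.counitAlgHom R A)) ^ 2 := by
  induction n with
  | zero =>
    rw [powConv_zero_apply, hx, map_zero, zero_smul, sub_zero]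
    exact Submodule.zero_mem _
  | succ n ih =>
    have h1 := Xi_mem (SGA3b.powConv R A n) (counit_powConv n) (Coalgebra.comul (R := R) x)
    rw [Xi_comul, hx, map_zero, add_zero] at h1
    have h2 : (toConv (SGA3b.powConv R A n) * toConv (AlgHom.id R A)).ofConv x =
        SGA3b.powConv R A (n + 1) x := by
      rw [powConv_def R A (n + 1), pow_succ]
      rfl
    rw [h2] at h1
    have h3 := add_mem h1 ih
    have h4 : SGA3b.powConv R A (n + 1) x - x - SGA3b.powConv R A n x +
        (SGA3b.powConv R A n x - n • x) = SGA3b.powConv R A (n + 1) x - (n + 1) • x := by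
      rw [succ_nsmul]
      abel
    rw [h4] at h3
    exact h3

end Cong

end

end Groth.Agent.H84.OT
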