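import Groth.Agent.H84.OT5
import Mathlib

/-!
# The fibre theorem: over an algebraically closed field the first eigenspace contains an
element whose `(p-1)`-st power is nonzero
-/

set_option autoImplicit false
set_option linter.unusedSectionVars false
universe u v w

namespace Groth.Agent.H84.OT

open WithConv TensorProduct Groth.Agent.H1.FinHopf Groth.Agent.H84.CMM Groth.Agent.S18468

noncomputable section

section NilData
variable {K : Type u} [Field K] {A : Type v} [CommRing A] [Bialgebra K A] [Module.Finite K A]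

theorem exists_x_phi (p : ℕ) (hp2 : 2 ≤ p) (hA : Module.finrank K A = p)
    (hnil : (RingHom.ker (Bialgebra.counitAlgHom K A)) ^ p = ⊥) :
    ∃ (x : A) (φ : A →ₗ[K] K), CoalgebraStruct.counit (R := K) x = 0 ∧ φ x = 1 ∧
      (∀ u v : A, φ (u * v) =
        CoalgebraStruct.counit (R := K) u * φ v + CoalgebraStruct.counit (R := K) v * φ u) := by
  classical
  set I := RingHom.ker (Bialgebra.counitAlgHom K A) with hI
  -- a nonzero element of `I`
  have hex : ∃ y : A, y ∈ I ∧ y ≠ 0 := by
    by_contra hcon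
    push_neg at hcon
    have h1 : ∀ a : A, a = algebraMap K A (CoalgebraStruct.counit (R := K) a) := by
      intro a
      have : a - algebraMap K A (CoalgebraStruct.counit (R := K) a) ∈ I := by
        rw [hI, RingHom.mem_ker, map_sub, AlgHom.commutes]
        show CoalgebraStruct.counit (R := K) a - _ = 0
        simp
      exact sub_eq_zero.1 (hcon _ this)
    have h2 : Submodule.span K {(1 : A)} = ⊤ := by
      rw [eq_top_iff]
      intro a _
      rw [h1 a, Algebra.algebraMap_eq_smul_one]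
      exact Submodule.smul_mem _ _ (Submodule.mem_span_singleton_self 1)
    have h3 : Module.finrank K A ≤ 1 := by
      rw [← finrank_top K A, ← h2]
      exact (finrank_span_le_card ({1} : Set A)).trans (by simp)
    omega
  obtain ⟨y, hyI, hy0⟩ := hex
  -- `I ≠ I ^ 2`
  have hne : ¬ I ≤ I ^ 2 := by
    intro hle
    have h1 : ∀ n : ℕ, I ≤ I ^ (n + 1) := by
      intro n
      induction n with
      | zero => rw [zero_add, pow_one]
      | succ n ih =>
        calc I ≤ I ^ 2 := hle
          _ = I * I := pow_two I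
          _ ≤ I ^ (n + 1) * I := Ideal.mul_mono_left ih
          _ = I ^ (n + 1 + 1) := (pow_succ I (n + 1)).symm
    have h2 := h1 (p - 1) hyI
    rw [Nat.sub_add_cancel (by omega), hnil] at h2
    exact hy0 ((Submodule.mem_bot A).1 h2)
  obtain ⟨x, hxI', hx2'⟩ := Set.not_subset.1 hne
  have hxI : x ∈ I := hxI'
  have hx2 : x ∉ I ^ 2 := hx2'
  have hεx : CoalgebraStruct.counit (R := K) x = 0 := by
    rw [hI, RingHom.mem_ker] at hxI; exact hxI
  set Z : Submodule K A := Submodule.span K {(1 : A)} ⊔ (I ^ 2).restrictScalars K with hZ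
  have hxZ : x ∉ Z := by
    intro hx
    obtain ⟨a, ha, b, hb, hab⟩ := Submodule.mem_sup.1 hx
    obtain ⟨c, rfl⟩ := Submodule.mem_span_singleton.1 ha
    have hbI : b ∈ I := Ideal.pow_le_self (by norm_num) hb
    have hεb : CoalgebraStruct.counit (R := K) b = 0 := by
      rw [hI, RingHom.mem_ker] at hbI; exact hbI
    have h1 := congrArg (CoalgebraStruct.counit (R := K)) hab
    rw [map_add, map_smul, Bialgebra.counit_one, hεb, hεx, add_zero, smul_eq_mul, mul_one] at h1
    rw [h1, zero_smul, zero_add] at hab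
    exact hx2 (hab ▸ hb)
  obtain ⟨φ₀, hφ₀x, hφ₀Z⟩ := Submodule.exists_dual_map_eq_bot_of_notMem hxZ inferInstance
  set φ : A →ₗ[K] K := (φ₀ x)⁻¹ • φ₀ with hφdef
  have hφx : φ x = 1 := by
    rw [hφdef, LinearMap.smul_apply, smul_eq_mul, inv_mul_cancel₀ hφ₀x]
  have hφZ : ∀ z ∈ Z, φ z = 0 := by
    intro z hz
    have : φ₀ z ∈ Z.map φ₀ := Submodule.mem_map_of_mem hz
    rw [hφ₀Z] at this
    rw [hφdef, LinearMap.smul_apply, (Submodule.mem_bot K).1 this, smul_zero]
  have hφder := funct_der φ (hφZ 1 (Submodule.mem_sup_left (Submodule.mem_span_singleton_self 1)))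
    (fun w hw => hφZ w (Submodule.mem_sup_right hw))
  exact ⟨x, φ, hεx, hφx, hφder⟩

theorem pow_sub_pow_mem (I : Ideal A) (a b : A) (ha : a ∈ I) (hb : b ∈ I) (hab : a - b ∈ I ^ 2)
    (n : ℕ) : a ^ (n + 1) - b ^ (n + 1) ∈ I ^ (n + 2) := by
  rw [← geom_sum₂_mul a b (n + 1)]
  have h1 : ∑ i ∈ Finset.range (n + 1), a ^ i * b ^ (n + 1 - 1 - i) ∈ I ^ n := by
    refine Ideal.sum_mem _ (fun i hi => ?_)
    have hi' : i ≤ n := Nat.lt_succ_iff.1 (Finset.mem_range.1 hi)
    have h2 : a ^ i * b ^ (n + 1 - 1 - i) ∈ I ^ i * I ^ (n + 1 - 1 - i) :=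
      Ideal.mul_mem_mul (Ideal.pow_mem_pow ha i) (Ideal.pow_mem_pow hb _)
    rw [← pow_add] at h2
    have h3 : i + (n + 1 - 1 - i) = n := by omega
    rw [h3] at h2
    exact h2
  have h4 := Ideal.mul_mem_mul h1 hab
  rw [← pow_add] at h4
  exact h4

end NilData

section CharPNil
variable (K : Type u) [Field K] (A : Type v) [CommRing A] [Bialgebra K A] [Module.Finite K A]

theorem charP_of_nilpotent (p : ℕ) (hp : p.Prime) (hA : Module.finrank K A = p)
    (hnil : (RingHom.ker (Bialgebra.counitAlgHom K A)) ^ p = ⊥) : CharP K p := by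
  have hnil' : ∀ b : A, CoalgebraStruct.counit (R := K) b = 0 → IsNilpotent b := by
    intro b hb
    refine ⟨p, ?_⟩
    have : b ^ p ∈ (RingHom.ker (Bialgebra.counitAlgHom K A)) ^ p :=
      Ideal.pow_mem_pow (by rw [RingHom.mem_ker]; exact hb) p
    rw [hnil] at this
    exact (Submodule.mem_bot A).1 this
  obtain ⟨r, hr⟩ := exists_finrank_eq_ringExpChar_pow (k := K) A hnil'
  rw [hA] at hr
  have hr0 : r ≠ 0 := by
    rintro rfl
    rw [pow_zero] at hr
    exact hp.one_lt.ne' hr
  have hq : ringExpChar K = p := by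
    have hdvd : ringExpChar K ∣ p := by rw [hr]; exact dvd_pow_self _ hr0
    rcases (Nat.dvd_prime hp).1 hdvd with h1 | h1
    · rw [h1, one_pow] at hr
      exact absurd hr hp.one_lt.ne'
    · exact h1
  have hc : ringChar K = p := by
    have h1 : ringExpChar K = max (ringChar K) 1 := rfl
    rw [hq] at h1
    rcases max_cases (ringChar K) 1 with ⟨h2, _⟩ | ⟨h2, _⟩
    · rw [h2] at h1; exact h1.symm
    · rw [h2] at h1; exact absurd h1 hp.one_lt.ne'
  exact hc ▸ ringChar.charP K

end CharPNil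

section Fibre
variable (p : ℕ) [hpf : Fact p.Prime] (K : Type u) [Field K] [IsAlgClosed K] (u : K)
  (χ : (ZMod p)ˣ →* Kˣ) (A : Type u) [CommRing A] [HopfAlgebra K A] [Module.Finite K A]

theorem killed_of_finrank (hA : Module.finrank K A = p) :
    (toConv (AlgHom.id K A)) ^ p = 1 := by
  have h := convPow_finrank_algClosed (K := K) (A := A)
  rw [hA] at h
  exact h

theorem point_powConv (h : WithConv (A →ₐ[K] K)) (n : ℕ) (a : A) :
    h.ofConv (SGA3b.powConv K A n a) = (h ^ n).ofConv a := by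
  have h1 := comp_convPow (R := K) (A := A) h.ofConv (toConv (AlgHom.id K A)) n
  rw [ofConv_toConv, AlgHom.comp_id] at h1
  have h2 := congrArg (fun F : WithConv (A →ₐ[K] K) => F.ofConv a) h1
  exact h2

theorem fibre_points (hu : u * ((p - 1 : ℕ) : K) = 1)
    (hχ : ∀ m : (ZMod p)ˣ, m ≠ 1 → IsUnit ((χ m : K) - 1))
    (hA : Module.finrank K A = p) (hcard : Nat.card (WithConv (A →ₐ[K] K)) = p) :
    ∃ f ∈ OortTate.eigenAug K A p χ 1, f ^ (p - 1) ≠ 0 := by
  classical
  have hp : p.Prime := hpf.out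
  have hpk := killed_of_finrank p K A hA
  have hcard' : Nat.card (A →ₐ[K] K) = Module.finrank K A := by
    rw [hA, ← hcard]
    exact Nat.card_congr (WithConv.equiv (A →ₐ[K] K)).symm
  haveI : IsCyclic (WithConv (A →ₐ[K] K)) := isCyclic_of_prime_card hcard
  haveI : Finite (WithConv (A →ₐ[K] K)) :=
    Nat.finite_of_card_ne_zero (by rw [hcard]; exact hp.ne_zero)
  obtain ⟨g, hg⟩ := IsCyclic.exists_generator (α := WithConv (A →ₐ[K] K))
  have hord : orderOf g = p := by
    rw [orderOf_eq_card_of_forall_mem_zpowers hg, hcard]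
  -- points separate the elements of `A`
  have hsep : ∀ a : A, (∀ h : WithConv (A →ₐ[K] K), h.ofConv a = 0) → a = 0 := by
    intro a ha
    have hspan := span_points_eq_top (K := K) (A := A) hcard'
    rw [← Module.forall_dual_apply_eq_zero_iff K a]
    intro φ
    have hφ : φ ∈ Submodule.span K
        (Set.range (AlgHom.toLinearMap : (A →ₐ[K] K) → A →ₗ[K] K)) := by
      rw [hspan]; exact Submodule.mem_top
    induction hφ using Submodule.span_induction with
    | mem φ h =>
      obtain ⟨h', rfl⟩ := h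
      exact ha (toConv h')
    | zero => rfl
    | add _ _ _ _ h1 h2 => rw [LinearMap.add_apply, h1, h2, add_zero]
    | smul c _ _ h1 => rw [LinearMap.smul_apply, h1, smul_zero]
  -- evaluation at `g` is injective on each eigenspace
  have hinj : ∀ (j : ℕ) (a : A), a ∈ OortTate.eigenAug K A p χ j → g.ofConv a = 0 → a = 0 := by
    intro j a ha hga
    apply hsep
    intro h
    have hmem := (mem_zpowers_iff_mem_range_orderOf (x := g) (y := h)).1 (hg h)
    rw [Finset.mem_image] at hmem
    obtain ⟨n, hn, rfl⟩ := hmem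
    rw [Finset.mem_range, hord] at hn
    rcases Nat.eq_zero_or_pos n with rfl | hn0
    · show ((g ^ 0 : WithConv (A →ₐ[K] K))).ofConv a = 0
      rw [pow_zero]
      show algebraMap K K (Coalgebra.counit (R := K) a) = 0
      rw [counit_of_mem p K χ A j a ha, map_zero]
    · have hcop : Nat.Coprime n p :=
        ((Nat.Prime.coprime_iff_not_dvd hp).2 (Nat.not_dvd_of_pos_of_lt hn0 hn)).symm
      let m : (ZMod p)ˣ := ZMod.unitOfCoprime n hcop
      have hmval : ((m : ZMod p)).val = n := by
        rw [ZMod.coe_unitOfCoprime, ZMod.val_cast_of_lt hn]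
      have h1 := ((mem_eigenAug p K χ A j a).1 ha).2 m
      rw [T_apply, hmval] at h1
      show ((g ^ n : WithConv (A →ₐ[K] K))).ofConv a = 0
      rw [← point_powConv K A g n a, h1, map_smul, hga, smul_zero]
  -- dimension count
  have hle : ∀ j : ℕ, Module.finrank K (OortTate.eigenAug K A p χ j) ≤ 1 := by
    intro j
    let ev : OortTate.eigenAug K A p χ j →ₗ[K] K :=
      g.ofConv.toLinearMap ∘ₗ (OortTate.eigenAug K A p χ j).subtype
    have hev : Function.Injective ev := by
      rw [← LinearMap.ker_eq_bot, eq_bot_iff]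
      intro a ha
      rw [Submodule.mem_bot]
      apply Subtype.ext
      exact hinj j (a : A) a.2 (LinearMap.mem_ker.1 ha)
    have := LinearMap.finrank_le_finrank_of_injective hev
    rwa [Module.finrank_self] at this
  have hsum : p = 1 + ∑ i : Fin (p - 1), Module.finrank K (OortTate.eigenAug K A p χ (i : ℕ)) := by
    have h1 := (decompEquiv p K u χ A hpk hu hχ).finrank_eq
    rw [Module.finrank_prod, Module.finrank_pi_fintype, Module.finrank_self, hA] at h1
    exact h1
  have hall : ∀ i ∈ (Finset.univ : Finset (Fin (p - 1))),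
      Module.finrank K (OortTate.eigenAug K A p χ (i : ℕ)) = 1 := by
    have h2 : ∑ i : Fin (p - 1), Module.finrank K (OortTate.eigenAug K A p χ (i : ℕ)) =
        ∑ _i : Fin (p - 1), 1 := by
      rw [Finset.sum_const, Finset.card_univ, Fintype.card_fin, smul_eq_mul, mul_one]
      have := hp.one_lt
      omega
    exact (Finset.sum_eq_sum_iff_of_le (s := (Finset.univ : Finset (Fin (p - 1))))
      (f := fun i : Fin (p - 1) => Module.finrank K (OortTate.eigenAug K A p χ (i : ℕ)))
      (g := fun _ => 1) (fun i _ => hle (i : ℕ))).1 h2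
  have hp1 : 1 % (p - 1) < p - 1 := Nat.mod_lt _ (by have := hp.one_lt; omega)
  have h1 := hall ⟨1 % (p - 1), hp1⟩ (Finset.mem_univ _)
  rw [← eigenAug_mod p K χ A 1] at h1
  haveI : Nontrivial (OortTate.eigenAug K A p χ 1) := by
    rw [← Module.finrank_pos_iff (R := K), h1]
    exact Nat.one_pos
  obtain ⟨f, hf⟩ := exists_ne (0 : OortTate.eigenAug K A p χ 1)
  refine ⟨(f : A), f.2, ?_⟩
  intro h0
  have hgf : g.ofConv (f : A) ≠ 0 := by
    intro h
    exact hf (Subtype.ext (hinj 1 (f : A) f.2 h))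
  have h3 := congrArg g.ofConv h0
  rw [map_pow, map_zero] at h3
  exact hgf (pow_eq_zero_iff (by have := hp.one_lt; omega) |>.1 h3)

theorem fibre_nilpotent (hu : u * ((p - 1 : ℕ) : K) = 1)
    (hχp : ∀ m : (ZMod p)ˣ, ((χ m : Kˣ) : K) - (((m : ZMod p).val : ℕ) : K) ∈
      Ideal.span ({(p : K)} : Set K))
    (hA : Module.finrank K A = p)
    (hnil : (RingHom.ker (Bialgebra.counitAlgHom K A)) ^ p = ⊥) :
    ∃ f ∈ OortTate.eigenAug K A p χ 1, f ^ (p - 1) ≠ 0 := by
  classical
  have hp : p.Prime := hpf.out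
  have hpk := killed_of_finrank p K A hA
  haveI : CharP K p := charP_of_nilpotent K A p hp hA hnil
  have hfact := factorial_ne_zero_of_nilpotent K A p hp hA hnil
  have hχval : ∀ m : (ZMod p)ˣ, ((χ m : Kˣ) : K) = (((m : ZMod p).val : ℕ) : K) := by
    intro m
    have h1 := hχp m
    rw [CharP.cast_eq_zero K p, Ideal.span_singleton_zero, Ideal.mem_bot, sub_eq_zero] at h1
    exact h1
  obtain ⟨x, φ, hεx, hφx, hφder⟩ := exists_x_phi (K := K) (A := A) p hp.two_le hA hnil
  set I := RingHom.ker (Bialgebra.counitAlgHom K A) with hI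
  have hxI : x ∈ I := by rw [hI, RingHom.mem_ker]; exact hεx
  have hxp : x ^ (p - 1) ≠ 0 := by
    intro h0
    have h1 := convPow_pow_self φ hφder x hεx hφx (p - 1)
    rw [h0, map_zero] at h1
    exact hfact (p - 1) (by have := hp.one_lt; omega) h1.symm
  set f := OortTate.proj K A p u χ 1 x with hf
  have hfmem : f ∈ OortTate.eigenAug K A p χ 1 := proj_mem p K u χ A hpk 1 x hεx
  have hfI : f ∈ I := by
    rw [hI, RingHom.mem_ker]
    exact counit_of_mem p K χ A 1 f hfmem
  have hx_eq : x = u • ∑ m : (ZMod p)ˣ,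
      ((((χ m⁻¹ : Kˣ) : K) ^ 1) • ((((m : ZMod p).val : ℕ) : K) • x)) := by
    have h1 : ∀ m : (ZMod p)ˣ, ((((χ m⁻¹ : Kˣ) : K) ^ 1) • ((((m : ZMod p).val : ℕ) : K) • x)) = x := by
      intro m
      rw [smul_smul, pow_one, ← hχval m, ← Units.val_mul, ← map_mul, inv_mul_cancel, map_one,
        Units.val_one, one_smul]
    simp only [h1, Finset.sum_const, Finset.card_univ, ZMod.card_units]
    rw [← Nat.cast_smul_eq_nsmul K, smul_smul, hu, one_smul]
  have hsub : f - x ∈ I ^ 2 := by
    have hfx : f - x = u • ∑ m : (ZMod p)ˣ, ((((χ m⁻¹ : Kˣ) : K) ^ 1) • T p K A m x) -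
        u • ∑ m : (ZMod p)ˣ,
          ((((χ m⁻¹ : Kˣ) : K) ^ 1) • ((((m : ZMod p).val : ℕ) : K) • x)) := by
      rw [← hx_eq, hf, proj_apply]
    rw [hfx, ← smul_sub, ← Finset.sum_sub_distrib]
    refine (Submodule.restrictScalars K (I ^ 2)).smul_mem u ?_
    refine Submodule.sum_mem _ (fun m _ => ?_)
    rw [← smul_sub]
    refine (Submodule.restrictScalars K (I ^ 2)).smul_mem _ ?_
    have h2 := powConv_sub_nsmul_mem (R := K) (A := A) ((m : ZMod p).val) x hεx
    rw [T_apply, Nat.cast_smul_eq_nsmul K]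
    exact h2
  have hpow := pow_sub_pow_mem I f x hfI hxI hsub (p - 2)
  have hp2 : p - 2 + 1 = p - 1 := by have := hp.two_le; omega
  have hp3 : p - 2 + 2 = p := by have := hp.two_le; omega
  rw [hp2, hp3, hnil, Ideal.mem_bot, sub_eq_zero] at hpow
  refine ⟨f, hfmem, ?_⟩
  rw [hpow]
  exact hxp

/-- **the fibre theorem** -/
theorem exists_eigen_pow_ne_zero (hu : u * ((p - 1 : ℕ) : K) = 1)
    (hχ : ∀ m : (ZMod p)ˣ, m ≠ 1 → IsUnit ((χ m : K) - 1))
    (hχp : ∀ m : (ZMod p)ˣ, ((χ m : Kˣ) : K) - (((m : ZMod p).val : ℕ) : K) ∈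
      Ideal.span ({(p : K)} : Set K))
    (hA : Module.finrank K A = p) :
    ∃ f ∈ OortTate.eigenAug K A p χ 1, f ^ (p - 1) ≠ 0 := by
  rcases card_points_or_nilpotent K A p hpf.out hA with h | ⟨_, hnil⟩
  · exact fibre_points p K u χ A hu hχ hA h
  · exact fibre_nilpotent p K u χ A hu hχp hA hnil

end Fibre

end

end Groth.Agent.H84.OT
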