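import Groth.Agent.H84.OT6
import Groth.Agent.H1.FinHopf.BaseChangeRing
import Mathlib

/-!
# Base change of the eigenspace decomposition
-/

set_option autoImplicit false
set_option linter.unusedSectionVars false
universe u v w

namespace Groth.Agent.H84.OT

open WithConv TensorProduct Groth.Agent.H1.FinHopf Groth.Agent.S18468

noncomputable section

section BCchar
variable (p : ℕ) [Fact p.Prime] {R : Type u} [CommRing R] (K : Type u) [CommRing K] [Algebra R K]
  (u : R) (χ : (ZMod p)ˣ →* Rˣ)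

/-- base change of the character -/
def chiK : (ZMod p)ˣ →* Kˣ := (Units.map (algebraMap R K : R →* K)).comp χ

theorem chiK_apply (m : (ZMod p)ˣ) :
    ((chiK p K χ m : Kˣ) : K) = algebraMap R K ((χ m : Rˣ) : R) := rfl

theorem hu_K (hu : u * ((p - 1 : ℕ) : R) = 1) :
    algebraMap R K u * ((p - 1 : ℕ) : K) = 1 := by
  have := congrArg (algebraMap R K) hu
  rwa [map_mul, map_natCast, map_one] at this

theorem hchi_K (hχ : ∀ m : (ZMod p)ˣ, m ≠ 1 → IsUnit ((χ m : R) - 1)) :
    ∀ m : (ZMod p)ˣ, m ≠ 1 → IsUnit ((chiK p K χ m : K) - 1) := by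
  intro m hm
  have := (hχ m hm).map (algebraMap R K)
  rwa [map_sub, map_one] at this

theorem hchip_K (hχp : ∀ m : (ZMod p)ˣ,
    ((χ m : Rˣ) : R) - (((m : ZMod p).val : ℕ) : R) ∈ Ideal.span ({(p : R)} : Set R)) :
    ∀ m : (ZMod p)ˣ, ((chiK p K χ m : Kˣ) : K) - (((m : ZMod p).val : ℕ) : K) ∈
      Ideal.span ({(p : K)} : Set K) := by
  intro m
  obtain ⟨c, hc⟩ := Ideal.mem_span_singleton'.1 (hχp m)
  rw [Ideal.mem_span_singleton']
  refine ⟨algebraMap R K c, ?_⟩
  have := congrArg (algebraMap R K) hc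
  rw [map_mul, map_sub, map_natCast, map_natCast] at this
  rw [chiK_apply]
  exact this

end BCchar

section BCops
variable (p : ℕ) [Fact p.Prime] {R : Type u} [CommRing R] (K : Type u) [CommRing K] [Algebra R K]
  (u : R) (χ : (ZMod p)ˣ →* Rˣ) {A : Type u} [CommRing A] [HopfAlgebra R A]

theorem amap_smul_tmul (r : R) (c : K) (a : A) :
    (algebraMap R K r) • (c ⊗ₜ[R] a) = c ⊗ₜ[R] (r • a) := by
  rw [algebraMap_smul, TensorProduct.smul_tmul', TensorProduct.smul_tmul]

theorem powConv_bc_one (n : ℕ) (a : A) :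
    SGA3b.powConv K (K ⊗[R] A) n ((1 : K) ⊗ₜ[R] a) = (1 : K) ⊗ₜ[R] SGA3b.powConv R A n a := by
  have h1 := rhoR_pow K (toConv (AlgHom.id K (K ⊗[R] A))) n
  have h2 := comp_convPow (Algebra.TensorProduct.includeRight : A →ₐ[R] K ⊗[R] A)
    (toConv (AlgHom.id R A)) n
  rw [ofConv_toConv, AlgHom.comp_id] at h2
  have e : rhoR K (toConv (AlgHom.id K (K ⊗[R] A))).ofConv =
      (Algebra.TensorProduct.includeRight : A →ₐ[R] K ⊗[R] A) := by
    apply AlgHom.ext
    intro a
    rfl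
  rw [e, ← h2] at h1
  have h3 := congrArg (fun f : WithConv (A →ₐ[R] K ⊗[R] A) => f.ofConv a) h1
  exact h3

theorem powConv_bc (n : ℕ) (c : K) (a : A) :
    SGA3b.powConv K (K ⊗[R] A) n (c ⊗ₜ[R] a) = c ⊗ₜ[R] SGA3b.powConv R A n a := by
  have h : c ⊗ₜ[R] a = c • ((1 : K) ⊗ₜ[R] a) := by
    rw [TensorProduct.smul_tmul', smul_eq_mul, mul_one]
  rw [h, map_smul, powConv_bc_one, TensorProduct.smul_tmul', smul_eq_mul, mul_one]

theorem counit_bc (c : K) (a : A) :
    Coalgebra.counit (R := K) (c ⊗ₜ[R] a) = Coalgebra.counit (R := R) a • c := by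
  rw [TensorProduct.counit_tmul, CommSemiring.counit_apply]

theorem aug_bc (c : K) (a : A) :
    aug K (K ⊗[R] A) (c ⊗ₜ[R] a) = c ⊗ₜ[R] aug R A a := by
  rw [aug_apply, aug_apply, counit_bc, Algebra.TensorProduct.algebraMap_apply,
    TensorProduct.tmul_sub, Algebra.algebraMap_eq_smul_one (Coalgebra.counit (R := R) a),
    Algebra.algebraMap_self_apply, TensorProduct.smul_tmul]

theorem proj_bc (i : ℕ) (c : K) (a : A) :
    OortTate.proj K (K ⊗[R] A) p (algebraMap R K u) (chiK p K χ) i (c ⊗ₜ[R] a) =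
      c ⊗ₜ[R] OortTate.proj R A p u χ i a := by
  rw [proj_apply, proj_apply, ← amap_smul_tmul, TensorProduct.tmul_sum]
  congr 1
  refine Finset.sum_congr rfl (fun m _ => ?_)
  rw [T_apply, T_apply, powConv_bc, chiK_apply, ← map_pow, amap_smul_tmul]

theorem qq_bc (i : ℕ) (c : K) (a : A) :
    qq p K (algebraMap R K u) (chiK p K χ) (K ⊗[R] A) i (c ⊗ₜ[R] a) =
      c ⊗ₜ[R] qq p R u χ A i a := by
  rw [qq_apply, qq_apply, aug_bc, proj_bc]

theorem qq_bc' (i : ℕ) (z : K ⊗[R] A) :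
    qq p K (algebraMap R K u) (chiK p K χ) (K ⊗[R] A) i z =
      (qq p R u χ A i).baseChange K z := by
  induction z using TensorProduct.induction_on with
  | zero => rw [map_zero, map_zero]
  | tmul c a => rw [qq_bc, LinearMap.baseChange_tmul]
  | add x y hx hy => rw [map_add, map_add, hx, hy]

end BCops

end

end Groth.Agent.H84.OT
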