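import Groth.Agent.H84.OT7
import Mathlib

/-!
# Ranks of the eigenspaces
-/

set_option autoImplicit false
set_option linter.unusedSectionVars false
universe u v w

namespace Groth.Agent.H84.OT

open WithConv TensorProduct Groth.Agent.H1.FinHopf Groth.Agent.S18468

noncomputable section

section Rank
variable (p : ℕ) [hpf : Fact p.Prime] (R : Type u) [CommRing R] (u : R) (χ : (ZMod p)ˣ →* Rˣ)
  (A : Type u) [CommRing A] [HopfAlgebra R A] [Module.Finite R A] [Module.Projective R A]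

theorem finrank_fibre (hrk : ∀ q : PrimeSpectrum R, Module.rankAtStalk A q = p)
    (K : Type u) [Field K] [Algebra R K] : Module.finrank K (K ⊗[R] A) = p := by
  let P : PrimeSpectrum K := ⟨⊥, Ideal.isPrime_bot⟩
  have h1 := Module.rankAtStalk_baseChange (R := R) (M := A) (S := K) P
  rw [hrk] at h1
  have h2 := congrFun (Module.rankAtStalk_eq_finrank_of_free (R := K) (M := K ⊗[R] A)) P
  rw [h1] at h2
  exact h2.symm

/-- the fibres of the eigenspaces over algebraically closed fields are nonzero -/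
theorem nontrivial_fibre_eigenAug (hpk : (toConv (AlgHom.id R A)) ^ p = 1)
    (hu : u * ((p - 1 : ℕ) : R) = 1)
    (hχ : ∀ m : (ZMod p)ˣ, m ≠ 1 → IsUnit ((χ m : R) - 1))
    (hχp : ∀ m : (ZMod p)ˣ,
      ((χ m : Rˣ) : R) - (((m : ZMod p).val : ℕ) : R) ∈ Ideal.span ({(p : R)} : Set R))
    (hrk : ∀ q : PrimeSpectrum R, Module.rankAtStalk A q = p)
    (K : Type u) [Field K] [IsAlgClosed K] [Algebra R K] (j : ℕ) (hj1 : 1 ≤ j) (hj2 : j ≤ p - 1) :
    Nontrivial (K ⊗[R] OortTate.eigenAug R A p χ j) := by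
  have hA := finrank_fibre p R A hrk K
  obtain ⟨f, hf, hfp⟩ := exists_eigen_pow_ne_zero p K (algebraMap R K u) (chiK p K χ) (K ⊗[R] A)
    (hu_K p K u hu) (hchi_K p K χ hχ) (hchip_K p K χ hχp) hA
  have hfj : f ^ j ∈ OortTate.eigenAug K (K ⊗[R] A) p (chiK p K χ) j := by
    obtain ⟨t, rfl⟩ : ∃ t, j = t + 1 := ⟨j - 1, by omega⟩
    exact pow_mem_eigenAug p K (chiK p K χ) (K ⊗[R] A) f hf t
  have hfj0 : f ^ j ≠ 0 := by
    intro h0
    apply hfp
    have h1 : p - 1 = j + (p - 1 - j) := by omega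
    rw [h1, pow_add, h0, zero_mul]
  let z := (qr p R u χ A hpk j).baseChange K (f ^ j)
  have hz : ((OortTate.eigenAug R A p χ j).subtype.baseChange K) z = f ^ j := by
    show ((OortTate.eigenAug R A p χ j).subtype.baseChange K)
      ((qr p R u χ A hpk j).baseChange K (f ^ j)) = f ^ j
    rw [← LinearMap.comp_apply, ← LinearMap.baseChange_comp]
    have h1 : (OortTate.eigenAug R A p χ j).subtype ∘ₗ qr p R u χ A hpk j = qq p R u χ A j :=
      LinearMap.ext fun a => coe_qr p R u χ A hpk j a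
    rw [h1, ← qq_bc']
    exact qq_of_mem p K (algebraMap R K u) (chiK p K χ) (K ⊗[R] A) (hu_K p K u hu) j (f ^ j) hfj
  refine ⟨⟨z, 0, ?_⟩⟩
  intro hz0
  rw [hz0, map_zero] at hz
  exact hfj0 hz.symm

theorem comap_algClosure (q : PrimeSpectrum R) :
    PrimeSpectrum.comap (algebraMap R (AlgebraicClosure q.asIdeal.ResidueField))
      (⟨⊥, Ideal.isPrime_bot⟩ : PrimeSpectrum (AlgebraicClosure q.asIdeal.ResidueField)) = q := by
  apply PrimeSpectrum.ext
  rw [PrimeSpectrum.comap_asIdeal]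
  ext x
  rw [Ideal.mem_comap, Ideal.mem_bot,
    IsScalarTower.algebraMap_apply R q.asIdeal.ResidueField
      (AlgebraicClosure q.asIdeal.ResidueField),
    map_eq_zero_iff _ (algebraMap q.asIdeal.ResidueField
      (AlgebraicClosure q.asIdeal.ResidueField)).injective,
    Ideal.algebraMap_residueField_eq_zero]

theorem rankAtStalk_eigenAug_pos (hpk : (toConv (AlgHom.id R A)) ^ p = 1)
    (hu : u * ((p - 1 : ℕ) : R) = 1)
    (hχ : ∀ m : (ZMod p)ˣ, m ≠ 1 → IsUnit ((χ m : R) - 1))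
    (hχp : ∀ m : (ZMod p)ˣ,
      ((χ m : Rˣ) : R) - (((m : ZMod p).val : ℕ) : R) ∈ Ideal.span ({(p : R)} : Set R))
    (hrk : ∀ q : PrimeSpectrum R, Module.rankAtStalk A q = p)
    (q : PrimeSpectrum R) (j : ℕ) (hj1 : 1 ≤ j) (hj2 : j ≤ p - 1) :
    0 < Module.rankAtStalk (OortTate.eigenAug R A p χ j) q := by
  haveI := finite_eigenAug p R u χ A hpk hu j
  haveI := projective_eigenAug p R u χ A hpk hu j
  let K := AlgebraicClosure q.asIdeal.ResidueField
  let P : PrimeSpectrum K := ⟨⊥, Ideal.isPrime_bot⟩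
  have h1 := Module.rankAtStalk_baseChange (R := R) (M := OortTate.eigenAug R A p χ j)
    (S := K) P
  rw [comap_algClosure R q] at h1
  have h2 := congrFun (Module.rankAtStalk_eq_finrank_of_free (R := K)
    (M := K ⊗[R] OortTate.eigenAug R A p χ j)) P
  rw [← h1, h2]
  haveI := nontrivial_fibre_eigenAug p R u χ A hpk hu hχ hχp hrk K j hj1 hj2
  exact Module.finrank_pos

theorem rankAtStalk_eigenAug_fin (hpk : (toConv (AlgHom.id R A)) ^ p = 1)
    (hu : u * ((p - 1 : ℕ) : R) = 1)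
    (hχ : ∀ m : (ZMod p)ˣ, m ≠ 1 → IsUnit ((χ m : R) - 1))
    (hχp : ∀ m : (ZMod p)ˣ,
      ((χ m : Rˣ) : R) - (((m : ZMod p).val : ℕ) : R) ∈ Ideal.span ({(p : R)} : Set R))
    (hrk : ∀ q : PrimeSpectrum R, Module.rankAtStalk A q = p)
    (q : PrimeSpectrum R) (i : Fin (p - 1)) :
    Module.rankAtStalk (OortTate.eigenAug R A p χ (i : ℕ)) q = 1 := by
  have hp : p.Prime := hpf.out
  haveI : Nontrivial R := q.nontrivial
  haveI hfin : ∀ i' : Fin (p - 1), Module.Finite R (OortTate.eigenAug R A p χ (i' : ℕ)) :=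
    fun i' => finite_eigenAug p R u χ A hpk hu i'
  haveI hflat : ∀ i' : Fin (p - 1), Module.Flat R (OortTate.eigenAug R A p χ (i' : ℕ)) :=
    fun i' => by
      haveI := projective_eigenAug p R u χ A hpk hu (i' : ℕ)
      infer_instance
  haveI hflatpi : Module.Flat R (Π i' : Fin (p - 1), OortTate.eigenAug R A p χ (i' : ℕ)) := by
    classical
    exact Module.Flat.of_linearEquiv
      (DFinsupp.linearEquivFunOnFintype (R := R) (ι := Fin (p - 1))
        (M := fun i' : Fin (p - 1) => OortTate.eigenAug R A p χ (i' : ℕ))).symm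
  have hpos : ∀ i' : Fin (p - 1),
      1 ≤ Module.rankAtStalk (OortTate.eigenAug R A p χ (i' : ℕ)) q := by
    intro i'
    rcases Nat.eq_zero_or_pos (i' : ℕ) with h0 | h0
    · rw [h0, ← eigenAug_add_card p R χ A 0, zero_add]
      exact rankAtStalk_eigenAug_pos p R u χ A hpk hu hχ hχp hrk q (p - 1)
        (by have := hp.one_lt; omega) le_rfl
    · exact rankAtStalk_eigenAug_pos p R u χ A hpk hu hχ hχp hrk q (i' : ℕ) h0
        (by have := i'.2; omega)
  have hsum : p = 1 + ∑ i' : Fin (p - 1),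
      Module.rankAtStalk (OortTate.eigenAug R A p χ (i' : ℕ)) q := by
    have h1 := congrFun (Module.rankAtStalk_eq_of_equiv (decompEquiv p R u χ A hpk hu hχ)) q
    rw [hrk, Module.rankAtStalk_prod, Pi.add_apply, Module.rankAtStalk_self, Pi.one_apply,
      Module.rankAtStalk_pi, finsum_eq_sum_of_fintype] at h1
    exact h1
  have h2 : ∑ _i' : Fin (p - 1), 1 =
      ∑ i' : Fin (p - 1), Module.rankAtStalk (OortTate.eigenAug R A p χ (i' : ℕ)) q := by
    rw [Finset.sum_const, Finset.card_univ, Fintype.card_fin, smul_eq_mul, mul_one]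
    have := hp.one_lt
    omega
  exact ((Finset.sum_eq_sum_iff_of_le (s := (Finset.univ : Finset (Fin (p - 1))))
    (f := fun _ => 1)
    (g := fun i' : Fin (p - 1) => Module.rankAtStalk (OortTate.eigenAug R A p χ (i' : ℕ)) q)
    (fun i' _ => hpos i')).1 h2 i (Finset.mem_univ i)).symm

/-- every eigenspace has rank one everywhere -/
theorem rankAtStalk_eigenAug (hpk : (toConv (AlgHom.id R A)) ^ p = 1)
    (hu : u * ((p - 1 : ℕ) : R) = 1)
    (hχ : ∀ m : (ZMod p)ˣ, m ≠ 1 → IsUnit ((χ m : R) - 1))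
    (hχp : ∀ m : (ZMod p)ˣ,
      ((χ m : Rˣ) : R) - (((m : ZMod p).val : ℕ) : R) ∈ Ideal.span ({(p : R)} : Set R))
    (hrk : ∀ q : PrimeSpectrum R, Module.rankAtStalk A q = p)
    (i : ℕ) (q : PrimeSpectrum R) :
    Module.rankAtStalk (OortTate.eigenAug R A p χ i) q = 1 := by
  have hp : p.Prime := hpf.out
  have hlt : i % (p - 1) < p - 1 := Nat.mod_lt _ (by have := hp.one_lt; omega)
  rw [eigenAug_mod p R χ A i]
  exact rankAtStalk_eigenAug_fin p R u χ A hpk hu hχ hχp hrk q ⟨i % (p - 1), hlt⟩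

end Rank

end

end Groth.Agent.H84.OT
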