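import Groth.Agent.H84.OT8
import Mathlib

/-!
# Powers of the first eigenspace
-/

set_option autoImplicit false
set_option linter.unusedSectionVars false
universe u v w

namespace Groth.Agent.H84.OT

open WithConv TensorProduct Groth.Agent.H1.FinHopf Groth.Agent.S18468

noncomputable section

section Nak
variable {R : Type u} [CommRing R] {M : Type v} [AddCommGroup M] [Module R M] [Module.Finite R M]

/-- a global form of Nakayama's lemma -/
theorem eq_top_of_forall_maximal (N : Submodule R M)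
    (h : ∀ (m : Ideal R), m.IsMaximal → N ⊔ m • (⊤ : Submodule R M) = ⊤) : N = ⊤ := by
  by_contra hN
  let J : Ideal R := (⊤ : Submodule R (M ⧸ N)).annihilator
  have hJ : J ≠ ⊤ := by
    intro hJ
    have h1 : (1 : R) ∈ J := by rw [hJ]; exact Submodule.mem_top
    rw [Submodule.mem_annihilator] at h1
    apply hN
    rw [eq_top_iff]
    intro x _
    have h2 := h1 (N.mkQ x) Submodule.mem_top
    rw [one_smul] at h2
    exact (Submodule.Quotient.mk_eq_zero N).1 h2
  obtain ⟨m, hm, hJm⟩ := Ideal.exists_le_maximal J hJ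
  have hle : (⊤ : Submodule R (M ⧸ N)) ≤ m • ⊤ := by
    have h2 := congrArg (Submodule.map N.mkQ) (h m hm)
    have h3 : Submodule.map N.mkQ N = ⊥ := by
      rw [eq_bot_iff]
      rintro _ ⟨x, hx, rfl⟩
      exact (Submodule.Quotient.mk_eq_zero N).2 hx
    rw [Submodule.map_sup, Submodule.map_smul'', Submodule.map_top, Submodule.range_mkQ, h3,
      bot_sup_eq] at h2
    exact h2.ge
  obtain ⟨r, hr1, hr2⟩ := Submodule.exists_sub_one_mem_and_smul_eq_zero_of_fg_of_le_smul m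
    (⊤ : Submodule R (M ⧸ N)) Module.Finite.fg_top hle
  have hrJ : r ∈ J := by
    rw [Submodule.mem_annihilator]
    intro n hn
    exact hr2 n hn
  have h1 : (1 : R) ∈ m := by
    have h4 := m.sub_mem (hJm hrJ) hr1
    simpa using h4
  exact hm.ne_top ((Ideal.eq_top_iff_one m).2 h1)

end Nak

section Pow
variable (p : ℕ) [hpf : Fact p.Prime] (R : Type u) [CommRing R] (u : R) (χ : (ZMod p)ˣ →* Rˣ)
  (A : Type u) [CommRing A] [HopfAlgebra R A] [Module.Finite R A] [Module.Projective R A]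

/-- the `K`-span of the image of the `s`-th power of the first eigenspace -/
def Wsp (K : Type u) [Field K] [Algebra R K] (s : ℕ) : Submodule K (K ⊗[R] A) :=
  Submodule.span K ((fun y : A => (1 : K) ⊗ₜ[R] y) ''
    ((OortTate.eigenAug R A p χ 1 ^ s : Submodule R A) : Set A))

theorem Wsp_mul (K : Type u) [Field K] [Algebra R K] (s : ℕ) :
    Wsp p R χ A K 1 * Wsp p R χ A K s ≤ Wsp p R χ A K (1 + s) := by
  unfold Wsp
  rw [Submodule.span_mul_span]
  apply Submodule.span_mono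
  rintro _ ⟨_, ⟨a, ha, rfl⟩, _, ⟨y, hy, rfl⟩, rfl⟩
  refine ⟨a * y, ?_, ?_⟩
  · rw [pow_add]
    exact Submodule.mul_mem_mul ha hy
  · show (1 : K) ⊗ₜ[R] (a * y) = ((1 : K) ⊗ₜ[R] a) * ((1 : K) ⊗ₜ[R] y)
    rw [Algebra.TensorProduct.tmul_mul_tmul, one_mul]

theorem baseChange_qq_mem (K : Type u) [Field K] [Algebra R K]
    (hpk : (toConv (AlgHom.id R A)) ^ p = 1) (z : K ⊗[R] A) :
    (qq p R u χ A 1).baseChange K z ∈ Wsp p R χ A K 1 := by
  induction z using TensorProduct.induction_on with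
  | zero => rw [map_zero]; exact Submodule.zero_mem _
  | tmul c a =>
    rw [LinearMap.baseChange_tmul]
    have h : c ⊗ₜ[R] qq p R u χ A 1 a = c • ((1 : K) ⊗ₜ[R] qq p R u χ A 1 a) := by
      rw [TensorProduct.smul_tmul', smul_eq_mul, mul_one]
    rw [h]
    refine Submodule.smul_mem _ _ (Submodule.subset_span ⟨_, ?_, rfl⟩)
    rw [pow_one]
    exact qq_mem p R u χ A hpk 1 a
  | add x y hx hy => rw [map_add]; exact Submodule.add_mem _ hx hy

/-- an element of the `t`-th power of the first eigenspace which survives in the fibre -/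
theorem exists_pow_elem_fibre_ne_zero (hpk : (toConv (AlgHom.id R A)) ^ p = 1)
    (hu : u * ((p - 1 : ℕ) : R) = 1)
    (hχ : ∀ m : (ZMod p)ˣ, m ≠ 1 → IsUnit ((χ m : R) - 1))
    (hχp : ∀ m : (ZMod p)ˣ,
      ((χ m : Rˣ) : R) - (((m : ZMod p).val : ℕ) : R) ∈ Ideal.span ({(p : R)} : Set R))
    (hrk : ∀ q : PrimeSpectrum R, Module.rankAtStalk A q = p)
    (K : Type u) [Field K] [IsAlgClosed K] [Algebra R K] (t : ℕ) (ht1 : 1 ≤ t) (ht2 : t ≤ p - 1) :
    ∃ y ∈ (OortTate.eigenAug R A p χ 1) ^ t, (1 : K) ⊗ₜ[R] y ≠ (0 : K ⊗[R] A) := by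
  have hA := finrank_fibre p R A hrk K
  obtain ⟨f, hf, hfp⟩ := exists_eigen_pow_ne_zero p K (algebraMap R K u) (chiK p K χ) (K ⊗[R] A)
    (hu_K p K u hu) (hchi_K p K χ hχ) (hchip_K p K χ hχp) hA
  have hft0 : f ^ t ≠ 0 := by
    intro h0
    apply hfp
    have h1 : p - 1 = t + (p - 1 - t) := by omega
    rw [h1, pow_add, h0, zero_mul]
  have hf1 : f ∈ Wsp p R χ A K 1 := by
    have h1 := qq_of_mem p K (algebraMap R K u) (chiK p K χ) (K ⊗[R] A) (hu_K p K u hu) 1 f hf
    rw [qq_bc'] at h1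
    rw [← h1]
    exact baseChange_qq_mem p R u χ A K hpk f
  have hfs : ∀ s : ℕ, f ^ (s + 1) ∈ Wsp p R χ A K (s + 1) := by
    intro s
    induction s with
    | zero => rw [zero_add, pow_one]; exact hf1
    | succ s ih =>
      rw [pow_succ', add_comm (s + 1) 1]
      exact Wsp_mul p R χ A K (s + 1) (Submodule.mul_mem_mul hf1 ih)
  by_contra hcon
  push_neg at hcon
  apply hft0
  obtain ⟨s, rfl⟩ : ∃ s, t = s + 1 := ⟨t - 1, by omega⟩
  have h2 : Wsp p R χ A K (s + 1) = ⊥ := by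
    unfold Wsp
    rw [Submodule.span_eq_bot]
    rintro _ ⟨y, hy, rfl⟩
    exact hcon y hy
  have h3 := hfs s
  rw [h2] at h3
  exact (Submodule.mem_bot K).1 h3

theorem finrank_residue_eigenAug (hpk : (toConv (AlgHom.id R A)) ^ p = 1)
    (hu : u * ((p - 1 : ℕ) : R) = 1)
    (hχ : ∀ m : (ZMod p)ˣ, m ≠ 1 → IsUnit ((χ m : R) - 1))
    (hχp : ∀ m : (ZMod p)ˣ,
      ((χ m : Rˣ) : R) - (((m : ZMod p).val : ℕ) : R) ∈ Ideal.span ({(p : R)} : Set R))
    (hrk : ∀ q : PrimeSpectrum R, Module.rankAtStalk A q = p)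
    (m : Ideal R) [hm : m.IsMaximal] (t : ℕ) :
    letI : Field (R ⧸ m) := Ideal.Quotient.field m
    Module.finrank (R ⧸ m) ((R ⧸ m) ⊗[R] OortTate.eigenAug R A p χ t) = 1 := by
  letI : Field (R ⧸ m) := Ideal.Quotient.field m
  haveI := finite_eigenAug p R u χ A hpk hu t
  haveI := projective_eigenAug p R u χ A hpk hu t
  let P : PrimeSpectrum (R ⧸ m) := ⟨⊥, Ideal.isPrime_bot⟩
  have hcomap : PrimeSpectrum.comap (algebraMap R (R ⧸ m)) P = ⟨m, hm.isPrime⟩ := by
    apply PrimeSpectrum.ext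
    rw [PrimeSpectrum.comap_asIdeal]
    ext x
    rw [Ideal.mem_comap, Ideal.mem_bot, Ideal.Quotient.algebraMap_eq,
      Ideal.Quotient.eq_zero_iff_mem]
  have h1 := Module.rankAtStalk_baseChange (R := R) (M := OortTate.eigenAug R A p χ t)
    (S := R ⧸ m) P
  rw [hcomap, rankAtStalk_eigenAug p R u χ A hpk hu hχ hχp hrk t] at h1
  have h2 := congrFun (Module.rankAtStalk_eq_finrank_of_free (R := R ⧸ m)
    (M := (R ⧸ m) ⊗[R] OortTate.eigenAug R A p χ t)) P
  rw [h1] at h2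
  exact h2.symm

/-- `I_1 ^ t = I_t` for `1 ≤ t ≤ p - 1` -/
theorem eigenAug_one_pow_eq (hpk : (toConv (AlgHom.id R A)) ^ p = 1)
    (hu : u * ((p - 1 : ℕ) : R) = 1)
    (hχ : ∀ m : (ZMod p)ˣ, m ≠ 1 → IsUnit ((χ m : R) - 1))
    (hχp : ∀ m : (ZMod p)ˣ,
      ((χ m : Rˣ) : R) - (((m : ZMod p).val : ℕ) : R) ∈ Ideal.span ({(p : R)} : Set R))
    (hrk : ∀ q : PrimeSpectrum R, Module.rankAtStalk A q = p)
    (t : ℕ) (ht1 : 1 ≤ t) (ht2 : t ≤ p - 1) :
    (OortTate.eigenAug R A p χ 1) ^ t = OortTate.eigenAug R A p χ t := by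
  have hle : (OortTate.eigenAug R A p χ 1) ^ t ≤ OortTate.eigenAug R A p χ t := by
    obtain ⟨s, rfl⟩ : ∃ s, t = s + 1 := ⟨t - 1, by omega⟩
    exact eigenAug_one_pow_le p R χ A s
  apply le_antisymm hle
  haveI := finite_eigenAug p R u χ A hpk hu t
  set It := OortTate.eigenAug R A p χ t with hIt
  let N : Submodule R It := Submodule.comap It.subtype ((OortTate.eigenAug R A p χ 1) ^ t)
  have hN : N = ⊤ := by
    apply eq_top_of_forall_maximal
    intro m hm
    haveI := hm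
    letI : Field (R ⧸ m) := Ideal.Quotient.field m
    let k := R ⧸ m
    let K := AlgebraicClosure k
    obtain ⟨y, hy, hy0⟩ := exists_pow_elem_fibre_ne_zero p R u χ A hpk hu hχ hχp hrk K t ht1 ht2
    let y' : It := ⟨y, hle hy⟩
    have hy'N : y' ∈ N := hy
    have hfin := finrank_residue_eigenAug p R u χ A hpk hu hχ hχp hrk m t
    -- `1 ⊗ y'` is nonzero in `k ⊗ I_t`
    let L : k ⊗[R] It →ₗ[R] K ⊗[R] A :=
      TensorProduct.map ((Algebra.linearMap k K).restrictScalars R) It.subtype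
    have hy'0 : (1 : k) ⊗ₜ[R] y' ≠ (0 : k ⊗[R] It) := by
      intro h0
      apply hy0
      have h1 := congrArg L h0
      rw [map_zero] at h1
      rw [← h1]
      show (1 : K) ⊗ₜ[R] y = TensorProduct.map ((Algebra.linearMap k K).restrictScalars R)
        It.subtype ((1 : k) ⊗ₜ[R] y')
      rw [TensorProduct.map_tmul]
      show (1 : K) ⊗ₜ[R] y = (algebraMap k K 1) ⊗ₜ[R] y
      rw [map_one]
    have hall := (finrank_eq_one_iff_of_nonzero' ((1 : k) ⊗ₜ[R] y') hy'0).1 hfin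
    rw [eq_top_iff]
    intro x _
    obtain ⟨c, hc⟩ := hall ((1 : k) ⊗ₜ[R] x)
    obtain ⟨c', rfl⟩ := Ideal.Quotient.mk_surjective c
    have h1 : (Ideal.Quotient.mk m c') • ((1 : k) ⊗ₜ[R] y') = (1 : k) ⊗ₜ[R] (c' • y') := by
      rw [TensorProduct.smul_tmul', smul_eq_mul, mul_one]
      have h5 : (Ideal.Quotient.mk m c' : k) = c' • (1 : k) := by
        rw [Algebra.smul_def, mul_one]
        rfl
      rw [h5, TensorProduct.smul_tmul]
    rw [h1] at hc
    have h2 : (1 : k) ⊗ₜ[R] (x - c' • y') = (0 : k ⊗[R] It) := by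
      rw [TensorProduct.tmul_sub, hc, sub_self]
    have h3 := congrArg (TensorProduct.quotTensorEquivQuotSMul It m) h2
    rw [TensorProduct.quotTensorEquivQuotSMul_mk_one_tmul, map_zero,
      Submodule.Quotient.mk_eq_zero] at h3
    have h4 : x = c' • y' + (x - c' • y') := by abel
    rw [h4]
    exact Submodule.add_mem _ (Submodule.mem_sup_left (N.smul_mem c' hy'N))
      (Submodule.mem_sup_right h3)
  intro x hx
  have h1 : (⟨x, hx⟩ : It) ∈ N := by rw [hN]; exact Submodule.mem_top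
  exact h1

end Pow

end

end Groth.Agent.H84.OT
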