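import Mathlib
import Groth.Prelude.Def_PLie

/-! Small lemmas on iterated adjoint maps, for computing `(ad x)^p` on explicit Lie algebras. -/

set_option autoImplicit false

namespace Groth.Agent.H84.PLieAux

variable {R : Type*} [CommRing R] {L : Type*} [LieRing L] [LieAlgebra R L]

theorem ad_pow_apply (x w : L) (n : ℕ) :
    (LieAlgebra.ad R L x ^ n) w = (fun u => ⁅x, u⁆)^[n] w := by
  rw [Module.End.pow_apply]
  rfl

theorem iter_eigen (x w : L) (c : R) (h : ⁅x, w⁆ = c • w) (n : ℕ) :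
    (fun u => ⁅x, u⁆)^[n] w = c ^ n • w := by
  induction n with
  | zero => simp
  | succ n ih =>
    rw [Function.iterate_succ_apply', ih, lie_smul, h, smul_smul, pow_succ]

theorem iter_zero (x : L) (n : ℕ) : (fun u : L => ⁅x, u⁆)^[n] (0 : L) = 0 :=
  Function.iterate_fixed (f := fun u : L => ⁅x, u⁆) (lie_zero x) n

theorem iter_nil2 (x w : L) (h : ⁅x, ⁅x, w⁆⁆ = 0) (n : ℕ) (hn : 2 ≤ n) :
    (fun u => ⁅x, u⁆)^[n] w = 0 := by
  obtain ⟨m, rfl⟩ := Nat.exists_eq_add_of_le hn
  rw [add_comm, Function.iterate_add_apply]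
  show (fun u => ⁅x, u⁆)^[m] ⁅x, ⁅x, w⁆⁆ = 0
  rw [h, iter_zero]

theorem iter_eigen2 (x w : L) (c : R) (h : ⁅x, ⁅x, w⁆⁆ = c • w) (n : ℕ) :
    (fun u => ⁅x, u⁆)^[2 * n] w = c ^ n • w := by
  induction n with
  | zero => simp
  | succ n ih =>
    have e : 2 * (n + 1) = (2 * n + 1) + 1 := by ring
    rw [e, Function.iterate_succ_apply', Function.iterate_succ_apply', ih, lie_smul, lie_smul, h,
      smul_smul, pow_succ]

/-- coefficient extraction on a basis -/
theorem repr_smul_self {ι : Type*} (b : Module.Basis ι R L) (c : R) (i : ι) :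
    b.repr (c • b i) i = c := by
  rw [map_smul, b.repr_self, Finsupp.smul_apply, Finsupp.single_eq_same, smul_eq_mul, mul_one]

theorem eq_of_smul_basis_eq {ι : Type*} (b : Module.Basis ι R L) (c d : R) (i : ι)
    (h : c • b i = d • b i) : c = d := by
  have := congrArg (fun u => b.repr u i) h
  simpa [repr_smul_self] using this

end Groth.Agent.H84.PLieAux
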