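import Groth.Prelude.Def_QuadGrp
import Mathlib

set_option autoImplicit false

/-!
# Infinitesimal isometries `1 + ε X_{a,b}` of a quadratic form (helper84)

For a quadratic form `Q` over a commutative ring `A` with an element `ε`, `ε² = 0`, and `a b : M`, the map
`x ↦ x + ε • (polar(x,a) b − polar(x,b) a)` is an isometry whose induced automorphism of the Clifford algebra is
conjugation by the even unit `1 − ε ι(a) ι(b)`; in particular it satisfies the Dickson condition.
-/

namespace Groth.Agent.H84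

open CliffordAlgebra QuadGrp

universe u v

theorem one_sub_mul_one_add {B : Type*} [Ring B] (E : B) (h : E * E = 0) :
    (1 - E) * (1 + E) = 1 := by
  have : (1 - E) * (1 + E) = 1 - E * E := by noncomm_ring
  rw [this, h, sub_zero]

theorem one_add_mul_one_sub {B : Type*} [Ring B] (E : B) (h : E * E = 0) :
    (1 + E) * (1 - E) = 1 := by
  have : (1 + E) * (1 - E) = 1 - E * E := by noncomm_ring
  rw [this, h, sub_zero]

theorem conj_expand {B : Type*} [Ring B] (E y : B) :
    (1 - E) * y * (1 + E) = y + y * E - E * y - E * y * E := by noncomm_ring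

section Inf

variable {A : Type u} [CommRing A] {M : Type v} [AddCommGroup M] [Module A M] (Q : QuadraticForm A M)

/-- `Y_{a,b}(x) = polar(x,a) b − polar(x,b) a`. -/
noncomputable def infGen (a b : M) : Module.End A M :=
  ((QuadraticMap.polarBilin Q).flip a).smulRight b - ((QuadraticMap.polarBilin Q).flip b).smulRight a

theorem infGen_apply (a b x : M) :
    infGen Q a b x = QuadraticMap.polar Q x a • b - QuadraticMap.polar Q x b • a := by
  simp [infGen]

theorem polar_infGen_self (a b x : M) : QuadraticMap.polar Q x (infGen Q a b x) = 0 := by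
  rw [infGen_apply, QuadraticMap.polar_sub_right, QuadraticMap.polar_smul_right,
    QuadraticMap.polar_smul_right, smul_eq_mul, smul_eq_mul, mul_comm, sub_self]

theorem smul_infGen_sq (ε : A) (hε : ε * ε = 0) (a b : M) :
    (ε • infGen Q a b) * (ε • infGen Q a b) = 0 := by
  rw [smul_mul_smul_comm, hε, zero_smul]

/-- The isometry `1 + ε Y_{a,b}`. -/
noncomputable def infIsom (ε : A) (hε : ε * ε = 0) (a b : M) : M ≃ₗ[A] M :=
  LinearEquiv.ofLinear ((1 : Module.End A M) + ε • infGen Q a b)
    ((1 : Module.End A M) - ε • infGen Q a b)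
    (one_add_mul_one_sub _ (smul_infGen_sq Q ε hε a b))
    (one_sub_mul_one_add _ (smul_infGen_sq Q ε hε a b))

theorem infIsom_apply (ε : A) (hε : ε * ε = 0) (a b x : M) :
    infIsom Q ε hε a b x = x + ε • infGen Q a b x := rfl

theorem infIsom_mem_O (ε : A) (hε : ε * ε = 0) (a b : M) : infIsom Q ε hε a b ∈ QuadGrp.O Q := by
  intro x
  rw [infIsom_apply, QuadraticMap.map_add (⇑Q), QuadraticMap.map_smul, QuadraticMap.polar_smul_right,
    polar_infGen_self, hε, zero_smul, smul_zero, add_zero, add_zero]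

theorem ι_mul_ι_mul_ι_comm (a b x : M) :
    ι Q a * ι Q b * ι Q x - ι Q x * (ι Q a * ι Q b) =
      ι Q (QuadraticMap.polar Q b x • a - QuadraticMap.polar Q a x • b) := by
  have h1 : ι Q b * ι Q x = algebraMap A _ (QuadraticMap.polar Q b x) - ι Q x * ι Q b := by
    rw [eq_sub_iff_add_eq, ι_mul_ι_add_swap]
  have h2 : ι Q a * ι Q x = algebraMap A _ (QuadraticMap.polar Q a x) - ι Q x * ι Q a := by
    rw [eq_sub_iff_add_eq, ι_mul_ι_add_swap]
  rw [map_sub, map_smul, map_smul, Algebra.smul_def, Algebra.smul_def,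
    Algebra.commutes (QuadraticMap.polar Q b x) (ι Q a), mul_assoc (ι Q a), h1, mul_sub,
    ← mul_assoc (ι Q a) (ι Q x), h2]
  noncomm_ring

/-- Conjugation by a unit given with its inverse, as an algebra endomorphism. -/
def conjAlgHom {B : Type*} [Ring B] [Algebra A B] (U V : B) (hUV : U * V = 1) (hVU : V * U = 1) :
    B →ₐ[A] B where
  toFun y := U * y * V
  map_one' := by rw [mul_one, hUV]
  map_mul' x y := by
    have : U * x * V * (U * y * V) = U * x * (V * U) * y * V := by noncomm_ring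
    rw [this, hVU]; noncomm_ring
  map_zero' := by simp
  map_add' x y := by noncomm_ring
  commutes' r := by rw [← Algebra.commutes, mul_assoc, hUV, mul_one]

theorem conjAlgHom_apply {B : Type*} [Ring B] [Algebra A B] (U V : B) (hUV : U * V = 1)
    (hVU : V * U = 1) (y : B) : conjAlgHom (A := A) U V hUV hVU y = U * y * V := rfl

theorem smul_ι_mul_ι_sq (ε : A) (hε : ε * ε = 0) (a b : M) :
    (ε • (ι Q a * ι Q b)) * (ε • (ι Q a * ι Q b)) = 0 := by
  rw [smul_mul_smul_comm, hε, zero_smul]

theorem map_infIsom (ε : A) (hε : ε * ε = 0) (a b : M) :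
    CliffordAlgebra.map (QuadGrp.isometryOfMem Q (infIsom Q ε hε a b) (infIsom_mem_O Q ε hε a b)) =
      conjAlgHom (A := A) (1 - ε • (ι Q a * ι Q b)) (1 + ε • (ι Q a * ι Q b))
        (one_sub_mul_one_add _ (smul_ι_mul_ι_sq Q ε hε a b))
        (one_add_mul_one_sub _ (smul_ι_mul_ι_sq Q ε hε a b)) := by
  apply CliffordAlgebra.hom_ext
  ext x
  rw [LinearMap.comp_apply, LinearMap.comp_apply, AlgHom.toLinearMap_apply, AlgHom.toLinearMap_apply,
    CliffordAlgebra.map_apply_ι, conjAlgHom_apply, QuadGrp.isometryOfMem_apply, infIsom_apply]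
  have key := ι_mul_ι_mul_ι_comm Q a b x
  have hY : ι Q (infGen Q a b x) = -(ι Q a * ι Q b * ι Q x - ι Q x * (ι Q a * ι Q b)) := by
    rw [key, ← map_neg, infGen_apply, QuadraticMap.polar_comm Q b x, QuadraticMap.polar_comm Q a x]
    congr 1
    abel
  rw [map_add, map_smul, hY]
  have hsq : (ε • (ι Q a * ι Q b)) * ι Q x * (ε • (ι Q a * ι Q b)) = 0 := by
    rw [smul_mul_assoc, smul_mul_assoc, mul_smul_comm, smul_smul, hε, zero_smul]
  rw [conj_expand, hsq, sub_zero, mul_smul_comm, smul_mul_assoc, smul_neg, smul_sub]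
  abel

theorem infIsom_dickson (ε : A) (hε : ε * ε = 0) (a b : M) :
    QuadGrp.IsDicksonTrivial Q (infIsom Q ε hε a b) (infIsom_mem_O Q ε hε a b) := by
  intro z hz
  rw [map_infIsom, conjAlgHom_apply]
  have hUe : (1 - ε • (ι Q a * ι Q b)) ∈ CliffordAlgebra.even Q := by
    refine Subalgebra.sub_mem _ (Subalgebra.one_mem _) (Subalgebra.smul_mem _ ?_ ε)
    show ι Q a * ι Q b ∈ Subalgebra.toSubmodule (CliffordAlgebra.even Q)
    rw [CliffordAlgebra.even_toSubmodule]
    exact ι_mul_ι_mem_evenOdd_zero Q a b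
  have hcomm := Subalgebra.mem_center_iff.mp hz ⟨_, hUe⟩
  have hcomm' : (1 - ε • (ι Q a * ι Q b)) * (z : CliffordAlgebra Q) =
      (z : CliffordAlgebra Q) * (1 - ε • (ι Q a * ι Q b)) := congrArg Subtype.val hcomm
  rw [hcomm', mul_assoc, one_sub_mul_one_add _ (smul_ι_mul_ι_sq Q ε hε a b), mul_one]

theorem infIsom_mem_SOeven (ε : A) (hε : ε * ε = 0) (a b : M) :
    infIsom Q ε hε a b ∈ QuadGrp.SOeven Q :=
  ⟨infIsom_mem_O Q ε hε a b, infIsom_dickson Q ε hε a b⟩

end Inf

end Groth.Agent.H84
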