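import Groth.Agent.H84.QuadCenter

set_option autoImplicit false

/-!
# Centralisers of infinitesimal isometries (helper84)

* polar forms of `QuadGrp.baseChange`, `QuadGrp.baseChangeForm` on pure tensors;
* the extraction map `R[ε] ⊗ M → M`, `a ⊗ v ↦ snd a • v`;
* the linear algebra: an automorphism `g` of `Rⁿ` (`n ≥ 3`) commuting with all `x ↦ B(x,u) w − B(x,w) u`
  for a perfect pairing `B` is a scalar.
-/

namespace Groth.Agent.H84

open QuadGrp TensorProduct

universe u v w

section Polar

variable {R : Type u} [CommRing R] {M : Type v} [AddCommGroup M] [Module R M] [Module.Free R M]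
  {N : Type w} [AddCommGroup N] [Module R N] (A : Type*) [CommRing A] [Algebra R A]

theorem polar_eq_bilinLift (Q : QuadraticMap R M N) (x y : M) :
    QuadraticMap.polar Q x y = QuadGrp.bilinLift Q x y + QuadGrp.bilinLift Q y x := by
  conv_lhs => rw [← QuadGrp.bilinLift_spec Q]
  exact LinearMap.BilinMap.polar_toQuadraticMap _ _

theorem polar_baseChange_tmul (Q : QuadraticMap R M N) (a b : A) (x y : M) :
    QuadraticMap.polar (QuadGrp.baseChange A Q) (a ⊗ₜ[R] x) (b ⊗ₜ[R] y) =
      (a * b) ⊗ₜ[R] QuadraticMap.polar Q x y := by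
  rw [QuadGrp.baseChange, LinearMap.BilinMap.polar_toQuadraticMap,
    LinearMap.BilinMap.baseChange_tmul, LinearMap.BilinMap.baseChange_tmul, polar_eq_bilinLift,
    TensorProduct.tmul_add, mul_comm b a]

theorem polar_baseChangeForm (Q : QuadraticForm R M) (x y : A ⊗[R] M) :
    QuadraticMap.polar (QuadGrp.baseChangeForm A Q) x y =
      (AlgebraTensorModule.rid R A A) (QuadraticMap.polar (QuadGrp.baseChange A Q) x y) := by
  simp [QuadraticMap.polar, QuadGrp.baseChangeForm, map_sub]

theorem polar_baseChangeForm_tmul (Q : QuadraticForm R M) (a b : A) (x y : M) :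
    QuadraticMap.polar (QuadGrp.baseChangeForm A Q) (a ⊗ₜ[R] x) (b ⊗ₜ[R] y) =
      QuadraticMap.polar Q x y • (a * b) := by
  rw [polar_baseChangeForm, polar_baseChange_tmul, AlgebraTensorModule.rid_tmul]

end Polar

section Dual

variable {R : Type u} [CommRing R] {M : Type v} [AddCommGroup M] [Module R M]

open DualNumber

/-- `a ⊗ v ↦ snd a • v`. -/
noncomputable def sndExtract : (DualNumber R) ⊗[R] M →ₗ[R] M :=
  (TensorProduct.lid R M).toLinearMap ∘ₗ LinearMap.rTensor M (TrivSqZeroExt.sndHom R R)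

theorem sndExtract_tmul (a : DualNumber R) (v : M) :
    sndExtract (a ⊗ₜ[R] v) = TrivSqZeroExt.snd a • v := by
  simp [sndExtract]

variable [Module.Free R M] (Q : QuadraticForm R M)

/-- The value of the infinitesimal isometry for `1 ⊗ u`, `1 ⊗ w` on `1 ⊗ x`. -/
theorem infIsom_one_tmul (u w x : M) :
    infIsom (QuadGrp.baseChangeForm (DualNumber R) Q) (ε : DualNumber R) DualNumber.eps_mul_eps
        ((1 : DualNumber R) ⊗ₜ[R] u) ((1 : DualNumber R) ⊗ₜ[R] w) ((1 : DualNumber R) ⊗ₜ[R] x) =
      (1 : DualNumber R) ⊗ₜ[R] x +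
        (ε : DualNumber R) ⊗ₜ[R] (QuadraticMap.polar Q x u • w - QuadraticMap.polar Q x w • u) := by
  rw [infIsom_apply, infGen_apply, polar_baseChangeForm_tmul, polar_baseChangeForm_tmul]
  congr 1
  rw [smul_sub, TensorProduct.tmul_sub]
  congr 1
  · rw [TensorProduct.smul_tmul', TensorProduct.smul_tmul', TensorProduct.tmul_smul,
      TensorProduct.smul_tmul']
    congr 1
    simp [Algebra.smul_def, mul_comm]
  · rw [TensorProduct.smul_tmul', TensorProduct.smul_tmul', TensorProduct.tmul_smul,
      TensorProduct.smul_tmul']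
    congr 1
    simp [Algebra.smul_def, mul_comm]

end Dual

section LinAlg

variable {R : Type u} [CommRing R] {n : ℕ}

/-- An automorphism of `Rⁿ`, `n ≥ 3`, commuting with all `x ↦ B(x,u) w − B(x,w) u` for a bilinear form `B`
admitting a dual family to the standard basis, is a scalar. -/
theorem scalar_of_commute (hn : 3 ≤ n) (B : (Fin n → R) →ₗ[R] (Fin n → R) →ₗ[R] R)
    (d : Fin n → (Fin n → R)) (hd : ∀ i y, B (d i) y = y i)
    (g : (Fin n → R) ≃ₗ[R] (Fin n → R))
    (hcomm : ∀ x u w : Fin n → R,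
      g (B x u • w - B x w • u) = B (g x) u • w - B (g x) w • u) :
    ∃ c : R, (∀ v, g v = c • v) ∧ ∀ a, B (g (d a)) (Pi.single a 1) = c := by
  classical
  have hthird : ∀ b c : Fin n, ∃ a : Fin n, a ≠ b ∧ a ≠ c := by
    intro b c
    by_contra hcon
    push Not at hcon
    have h1 : (Finset.univ : Finset (Fin n)) ⊆ {b, c} := by
      intro a _
      by_cases h : a = b
      · simp [h]
      · simp [hcon a h]
    have h2 := Finset.card_le_card h1
    have h3 : ({b, c} : Finset (Fin n)).card ≤ 2 := Finset.card_le_two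
    simp only [Finset.card_univ, Fintype.card_fin] at h2
    omega
  -- the basic formula
  have hform : ∀ a b : Fin n, a ≠ b →
      g (Pi.single b 1) = B (g (d a)) (Pi.single a 1) • Pi.single b 1 -
        B (g (d a)) (Pi.single b 1) • Pi.single a 1 := by
    intro a b hab
    have h := hcomm (d a) (Pi.single a 1) (Pi.single b 1)
    rw [hd, hd, Pi.single_eq_same, Pi.single_eq_of_ne hab, one_smul, zero_smul, sub_zero] at h
    exact h
  have hoff : ∀ b c : Fin n, c ≠ b → g (Pi.single b 1) c = 0 := by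
    intro b c hcb
    obtain ⟨a, hab, hac⟩ := hthird b c
    rw [hform a b hab]
    simp [Pi.single_eq_of_ne hcb, Pi.single_eq_of_ne (Ne.symm hac)]
  have hdiag : ∀ a b : Fin n, a ≠ b → g (Pi.single b 1) b = B (g (d a)) (Pi.single a 1) := by
    intro a b hab
    rw [hform a b hab]
    simp [Pi.single_eq_of_ne (Ne.symm hab)]
  have hconst : ∀ b b' : Fin n, g (Pi.single b 1) b = g (Pi.single b' 1) b' := by
    intro b b'
    obtain ⟨a, hab, hab'⟩ := hthird b b'
    rw [hdiag a b hab, hdiag a b' hab']
  have hn0 : 0 < n := by omega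
  refine ⟨g (Pi.single ⟨0, hn0⟩ 1) ⟨0, hn0⟩, ?_, ?_⟩
  · have hbasis : ∀ b : Fin n, g (Pi.single b 1) =
        (g (Pi.single ⟨0, hn0⟩ 1) ⟨0, hn0⟩) • Pi.single b 1 := by
      intro b
      funext c
      by_cases hcb : c = b
      · subst hcb
        simp [hconst c ⟨0, hn0⟩]
      · rw [hoff b c hcb]
        simp [Pi.single_eq_of_ne hcb]
    have hlin : g.toLinearMap =
        (g (Pi.single ⟨0, hn0⟩ 1) ⟨0, hn0⟩) • (LinearMap.id : (Fin n → R) →ₗ[R] (Fin n → R)) := by
      apply LinearMap.pi_ext
      intro i x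
      have hx : (Pi.single i x : Fin n → R) = x • Pi.single i 1 := by
        rw [← Pi.single_smul, smul_eq_mul, mul_one]
      rw [hx, map_smul, map_smul, LinearEquiv.coe_coe, hbasis i]
      simp
    intro v
    have := LinearMap.congr_fun hlin v
    simpa using this
  · intro a
    obtain ⟨b, hba, -⟩ := hthird a a
    rw [← hdiag a b (Ne.symm hba)]
    exact hconst b ⟨0, hn0⟩

end LinAlg

end Groth.Agent.H84
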