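import Groth.Prelude.Def_QuadGrp
import Groth.Agent.H84.QuadCenter
import Groth.Agent.H84.QuadCenter2
import Groth.Agent.H84.HalfDisc
import Mathlib

set_option autoImplicit false
universe u v

namespace Groth.Agent.H84

open QuadGrp TensorProduct

section McCoy

open MvPolynomial

/-- Multivariate McCoy: a polynomial whose coefficients have no common nonzero annihilator in `R` is a
non-zero-divisor. -/
theorem mccoy_mul_eq_zero {σ : Type*} {R : Type*} [CommRing R] (m : MonomialOrder σ)
    (f : MvPolynomial σ R) (hf : ∀ r : R, r • f = 0 → r = 0) :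
    ∀ p : MvPolynomial σ R, f * p = 0 → p = 0 := by
  classical
  intro p
  induction' hd : m.toSyn (m.degree p) using WellFoundedLT.induction with d IH generalizing p
  intro hfp
  have star : ∀ a : R, a * m.leadingCoeff p = 0 → a • p = 0 := by
    intro a ha
    by_cases hdeg : m.degree p = 0
    · have hC : p = C (m.leadingCoeff p) := m.eq_C_of_degree_eq_zero hdeg
      calc a • p = a • C (m.leadingCoeff p) := by rw [← hC]
        _ = C (a * m.leadingCoeff p) := by rw [smul_eq_C_mul, C_mul]
        _ = 0 := by rw [ha, C_0]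
    · have h1 : a • p = a • (p - m.leadingTerm p) := by
        rw [smul_sub, MonomialOrder.leadingTerm, smul_monomial, smul_eq_mul, ha, monomial_zero,
          sub_zero]
      have h2 : m.toSyn (m.degree (a • p)) < d := by
        rw [← hd, h1]
        exact lt_of_le_of_lt m.degree_smul_le (m.degree_sub_leadingTerm_lt_degree hdeg)
      exact IH _ h2 (a • p) rfl (by rw [mul_smul_comm, hfp, smul_zero])
  have inner : ∀ f' : MvPolynomial σ R, f' * p = 0 → ∀ α, f'.coeff α • p = 0 := by
    intro f'
    induction' hd' : m.toSyn (m.degree f') using WellFoundedLT.induction with d' IH' generalizing f'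
    intro hf'p α
    have h0 : m.leadingCoeff f' • p = 0 := by
      apply star
      rw [← m.coeff_mul_of_degree_add, hf'p, coeff_zero]
    by_cases hdeg : m.degree f' = 0
    · have hC : f' = C (m.leadingCoeff f') := m.eq_C_of_degree_eq_zero hdeg
      by_cases hα : α = 0
      · subst hα
        have h5 : f'.coeff 0 = m.leadingCoeff f' := by rw [MonomialOrder.leadingCoeff, hdeg]
        rw [h5]; exact h0
      · have h5 : f'.coeff α = 0 := by rw [hC, coeff_C, if_neg (Ne.symm hα)]
        rw [h5, zero_smul]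
    · have h1 : (f' - m.leadingTerm f') * p = 0 := by
        have h6 : m.leadingTerm f' * p = monomial (m.degree f') 1 * (m.leadingCoeff f' • p) := by
          rw [MonomialOrder.leadingTerm, mul_smul_comm, ← smul_mul_assoc, smul_monomial, smul_eq_mul,
            mul_one]
        rw [sub_mul, hf'p, h6, h0, mul_zero, sub_zero]
      have h2 := IH' _ (by rw [← hd']; exact m.degree_sub_leadingTerm_lt_degree hdeg)
        (f' - m.leadingTerm f') rfl h1 α
      by_cases hα : α = m.degree f'
      · subst hα; exact h0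
      · have h5 : f'.coeff α = (f' - m.leadingTerm f').coeff α := by
          rw [coeff_sub, MonomialOrder.leadingTerm, coeff_monomial, if_neg (Ne.symm hα), sub_zero]
        rw [h5]; exact h2
  have h3 := inner f hfp
  have h4 : m.leadingCoeff p = 0 := by
    apply hf
    ext α
    have h5 := congrArg (coeff (m.degree p)) (h3 α)
    rw [coeff_smul, coeff_zero, smul_eq_mul] at h5
    rw [coeff_smul, coeff_zero, smul_eq_mul, mul_comm]
    exact h5
  exact m.leadingCoeff_eq_zero_iff.mp h4

theorem mccoy_mem_nonZeroDivisors {n : ℕ} {R : Type*} [CommRing R]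
    (f : MvPolynomial (Fin n) R) (hf : ∀ r : R, r • f = 0 → r = 0) :
    f ∈ nonZeroDivisors (MvPolynomial (Fin n) R) :=
  mem_nonZeroDivisors_iff_left.mpr (mccoy_mul_eq_zero MonomialOrder.lex f hf)

end McCoy

section Ann

theorem eq_zero_of_mul_span {R : Type*} [CommRing R] (s : Set R) (hs : Ideal.span s = ⊤) (r : R)
    (h : ∀ x ∈ s, r * x = 0) : r = 0 := by
  have h1 : (1 : R) ∈ Ideal.span s := hs ▸ Submodule.mem_top
  have h2 : ∀ x ∈ Ideal.span s, r * x = 0 := by
    intro x hx
    refine Submodule.span_induction (p := fun x _ => r * x = 0) ?_ ?_ ?_ ?_ hx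
    · intro x hx; exact h x hx
    · exact mul_zero r
    · intro x y _ _ hx hy; rw [mul_add, hx, hy, add_zero]
    · intro a x _ hx; rw [smul_eq_mul, mul_left_comm, hx, mul_zero]
  simpa using h2 1 h1

end Ann

section Det

theorem det_id_add_smulRight {A : Type*} [CommRing A] {M' : Type*} [AddCommGroup M'] [Module A M']
    {ι : Type*} [Fintype ι] [DecidableEq ι] (b : Module.Basis ι A M') (f : M' →ₗ[A] A) (v : M') :
    LinearMap.det (LinearMap.id + f.smulRight v) = 1 + f v := by
  rw [← LinearMap.det_toMatrix b]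
  have h1 : LinearMap.toMatrix b b (LinearMap.id + f.smulRight v) =
      1 + Matrix.replicateCol Unit (fun i => b.repr v i) * Matrix.replicateRow Unit (fun j => f (b j)) := by
    ext i j
    rw [LinearMap.toMatrix_apply, LinearMap.add_apply, LinearMap.id_apply, LinearMap.smulRight_apply,
      map_add, map_smul, Finsupp.add_apply, Finsupp.smul_apply, Module.Basis.repr_self,
      Matrix.add_apply, Matrix.one_apply, Matrix.mul_apply, Finsupp.single_apply]
    simp only [Matrix.replicateCol_apply, Matrix.replicateRow_apply, Finset.univ_unique,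
      Finset.sum_singleton, smul_eq_mul]
    congr 1
    · by_cases h : i = j
      · subst h; simp
      · rw [if_neg h, if_neg (Ne.symm h)]
    · ring
  rw [h1, Matrix.det_one_add_replicateCol_mul_replicateRow]
  congr 1
  conv_rhs => rw [← b.sum_repr v]
  simp only [dotProduct, map_sum, map_smul, smul_eq_mul]
  exact Finset.sum_congr rfl fun j _ => mul_comm _ _

end Det

section Off

open MvPolynomial

/-- The universal discriminant is `2 ^ n ∏ X_jj` modulo the ideal of off-diagonal variables. -/
theorem discUniv_sub_mem (n : ℕ) :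
    discUniv n - 2 ^ n * ∏ j : Fin n, X (Sym2.mk j j) ∈
      Ideal.span (X '' {p : Sym2 (Fin n) | ¬ p.IsDiag} : Set (MvPolynomial (Sym2 (Fin n)) ℤ)) := by
  classical
  rw [discUniv, Matrix.det_apply,
    ← Finset.add_sum_erase _ _ (Finset.mem_univ (1 : Equiv.Perm (Fin n)))]
  have h1 : Equiv.Perm.sign (1 : Equiv.Perm (Fin n)) • ∏ i, univPolarMat n ((1 : Equiv.Perm (Fin n)) i) i =
      2 ^ n * ∏ j : Fin n, (X (Sym2.mk j j) : MvPolynomial (Sym2 (Fin n)) ℤ) := by
    simp [univPolarMat, Finset.prod_mul_distrib, Finset.prod_const]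
  rw [h1, add_sub_cancel_left]
  refine Ideal.sum_mem _ fun σ hσ => ?_
  have hne : σ ≠ 1 := Finset.ne_of_mem_erase hσ
  obtain ⟨i, hi⟩ : ∃ i, σ i ≠ i := by
    by_contra h
    push Not at h
    exact hne (Equiv.ext h)
  have hmem : ∏ j, univPolarMat n (σ j) j ∈
      Ideal.span (X '' {p : Sym2 (Fin n) | ¬ p.IsDiag} : Set (MvPolynomial (Sym2 (Fin n)) ℤ)) := by
    rw [← Finset.mul_prod_erase _ _ (Finset.mem_univ i)]
    apply Ideal.mul_mem_right
    simp only [univPolarMat, Matrix.of_apply, if_neg hi]
    exact Ideal.subset_span ⟨_, by simpa using hi, rfl⟩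
  rcases Int.units_eq_one_or (Equiv.Perm.sign σ) with h | h <;> rw [h]
  · simpa using hmem
  · simpa using hmem

theorem halfDiscUniv_sub_mem {n : ℕ} (hn : Odd n) :
    halfDiscUniv n - 2 ^ (n - 1) * ∏ j : Fin n, X (Sym2.mk j j) ∈
      Ideal.span (X '' {p : Sym2 (Fin n) | ¬ p.IsDiag} : Set (MvPolynomial (Sym2 (Fin n)) ℤ)) := by
  have hE := discUniv_sub_mem n
  have h2 : (2 : MvPolynomial (Sym2 (Fin n)) ℤ) *
      (halfDiscUniv n - 2 ^ (n - 1) * ∏ j : Fin n, X (Sym2.mk j j)) =
      discUniv n - 2 ^ n * ∏ j : Fin n, X (Sym2.mk j j) := by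
    obtain ⟨k, rfl⟩ := hn
    rw [mul_sub, two_mul_halfDiscUniv ⟨k, rfl⟩, ← mul_assoc, ← pow_succ']
    simp
  rw [mem_ideal_span_X_image] at hE ⊢
  intro m hm
  apply hE m
  rw [mem_support_iff] at hm ⊢
  rw [← h2]
  have h3 : (2 : MvPolynomial (Sym2 (Fin n)) ℤ) = C 2 := by simp
  rw [h3, coeff_C_mul]
  intro h0
  apply hm
  rcases mul_eq_zero.mp h0 with h | h
  · norm_num at h
  · exact h

end Off

section SpanTop

variable {R : Type*} [CommRing R] {n : ℕ}

/-- For a semiregular form of odd rank `n ≥ 2`, the polar matrix with one column removed still has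
entries generating the unit ideal. -/
theorem span_polar_eq_top (hn : Odd n) (hn2 : 2 ≤ n) (Q : QuadraticForm R (Fin n → R))
    (hQ : IsSemiregular (Pi.basisFun R (Fin n)) (LinearEquiv.refl R R) Q) (i : Fin n) :
    Ideal.span {r : R | ∃ k b : Fin n, b ≠ i ∧
      r = QuadraticMap.polar Q (Pi.single k 1) (Pi.single b 1)} = ⊤ := by
  classical
  set J : Ideal R := Ideal.span {r : R | ∃ k b : Fin n, b ≠ i ∧
      r = QuadraticMap.polar Q (Pi.single k 1) (Pi.single b 1)} with hJ
  set a := coeffs (Pi.basisFun R (Fin n)) (LinearEquiv.refl R R) Q with ha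
  have hoff : ∀ p : Sym2 (Fin n), ¬ p.IsDiag → a p ∈ J := by
    intro p
    induction p using Sym2.ind with | _ k b =>
    intro hp
    have hkb : k ≠ b := by simpa using hp
    have h1 : a (Sym2.mk k b) = QuadraticMap.polar Q (Pi.single k 1) (Pi.single b 1) := by
      rw [ha, coeffs_mk, if_neg hkb]
      simp
    rw [h1]
    by_cases hb : b = i
    · rw [QuadraticMap.polar_comm]
      exact Ideal.subset_span ⟨b, k, by rw [hb] at hkb; exact hkb, rfl⟩
    · exact Ideal.subset_span ⟨k, b, hb, rfl⟩
  have hdiag : ∀ j : Fin n, j ≠ i → 2 * a (Sym2.mk j j) ∈ J := by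
    intro j hj
    have h1 : 2 * a (Sym2.mk j j) = QuadraticMap.polar Q (Pi.single j 1) (Pi.single j 1) := by
      rw [ha, coeffs_mk, if_pos rfl, QuadraticMap.polar_self]
      simp
    rw [h1]
    exact Ideal.subset_span ⟨j, j, hj, rfl⟩
  have hmem : hdEval a ∈ J := by
    have h1 := halfDiscUniv_sub_mem hn
    set φ := MvPolynomial.eval₂Hom (Int.castRingHom R) a with hφ
    have h2 : φ (halfDiscUniv n - 2 ^ (n - 1) * ∏ j : Fin n, MvPolynomial.X (Sym2.mk j j)) ∈ J := by
      have h3 := Ideal.mem_map_of_mem φ h1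
      rw [Ideal.map_span] at h3
      refine (Ideal.span_le.mpr ?_) h3
      rintro _ ⟨_, ⟨p, hp, rfl⟩, rfl⟩
      rw [hφ, MvPolynomial.eval₂Hom_X']
      exact hoff p hp
    have h4 : φ (2 ^ (n - 1) * ∏ j : Fin n, MvPolynomial.X (Sym2.mk j j)) ∈ J := by
      obtain ⟨j₀, hj₀⟩ : ∃ j : Fin n, j ≠ i := by
        by_cases h0 : i = ⟨0, by omega⟩
        · exact ⟨⟨1, by omega⟩, by rw [h0]; simp [Fin.ext_iff]⟩
        · exact ⟨⟨0, by omega⟩, fun h => h0 h.symm⟩
      have h5 : φ (2 ^ (n - 1) * ∏ j : Fin n, MvPolynomial.X (Sym2.mk j j)) =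
          (2 * a (Sym2.mk j₀ j₀)) * (2 ^ (n - 2) * ∏ j ∈ Finset.univ.erase j₀, a (Sym2.mk j j)) := by
        rw [map_mul, map_pow, map_ofNat, map_prod]
        simp only [hφ, MvPolynomial.eval₂Hom_X']
        rw [← Finset.mul_prod_erase _ _ (Finset.mem_univ j₀)]
        have h6 : n - 1 = (n - 2) + 1 := by omega
        rw [h6, pow_succ]
        ring
      rw [h5]
      exact Ideal.mul_mem_right _ _ (hdiag j₀ hj₀)
    have h7 : hdEval a = φ (halfDiscUniv n - 2 ^ (n - 1) * ∏ j : Fin n, MvPolynomial.X (Sym2.mk j j)) +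
        φ (2 ^ (n - 1) * ∏ j : Fin n, MvPolynomial.X (Sym2.mk j j)) := by
      rw [← map_add, sub_add_cancel]
      rfl
    rw [h7]
    exact J.add_mem h2 h4
  exact Ideal.eq_top_of_isUnit_mem _ hmem hQ

end SpanTop

section Refl

variable {A : Type*} [CommRing A] {M' : Type*} [AddCommGroup M'] [Module A M'] (Q' : QuadraticForm A M')

/-- The reflection `y ↦ y − (u · polar(y, v)) v`, with `u = Q(v)⁻¹`. -/
noncomputable def reflMap (v : M') (u : A) : M' →ₗ[A] M' :=
  LinearMap.id + ((-u) • (QuadraticMap.polarBilin Q').flip v).smulRight v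

theorem reflMap_apply (v : M') (u : A) (y : M') :
    reflMap Q' v u y = y - (u * QuadraticMap.polar Q' y v) • v := by
  simp [reflMap, sub_eq_add_neg]

theorem reflMap_invol (v : M') (u : A) (hu : u * Q' v = 1) (y : M') :
    reflMap Q' v u (reflMap Q' v u y) = y := by
  rw [reflMap_apply, reflMap_apply]
  have h1 : QuadraticMap.polar Q' (y - (u * QuadraticMap.polar Q' y v) • v) v =
      - QuadraticMap.polar Q' y v := by
    rw [QuadraticMap.polar_sub_left, QuadraticMap.polar_smul_left, QuadraticMap.polar_self,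
      smul_eq_mul, nsmul_eq_mul]
    push_cast
    linear_combination (-2 * QuadraticMap.polar Q' y v) * hu
  rw [h1]
  module

theorem reflMap_isom (v : M') (u : A) (hu : u * Q' v = 1) (y : M') :
    Q' (reflMap Q' v u y) = Q' y := by
  rw [reflMap_apply, sub_eq_add_neg, ← neg_smul, QuadraticMap.map_add (⇑Q'), QuadraticMap.map_smul,
    QuadraticMap.polar_smul_right, smul_eq_mul, smul_eq_mul]
  linear_combination (u * (QuadraticMap.polar Q' y v) ^ 2) * hu

/-- The negative of the reflection, as a linear equivalence. -/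
noncomputable def negRefl (v : M') (u : A) (hu : u * Q' v = 1) : M' ≃ₗ[A] M' :=
  (LinearEquiv.ofInvolutive (reflMap Q' v u) (reflMap_invol Q' v u hu)).trans (LinearEquiv.neg A)

theorem negRefl_apply (v : M') (u : A) (hu : u * Q' v = 1) (y : M') :
    negRefl Q' v u hu y = -(y - (u * QuadraticMap.polar Q' y v) • v) := by
  simp [negRefl, reflMap_apply]

theorem negRefl_mem_O (v : M') (u : A) (hu : u * Q' v = 1) : negRefl Q' v u hu ∈ QuadGrp.O Q' := by
  intro y
  rw [negRefl_apply, QuadraticMap.map_neg, ← reflMap_apply, reflMap_isom Q' v u hu]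

theorem det_negRefl {ι : Type*} [Fintype ι] [DecidableEq ι] (b : Module.Basis ι A M')
    (hodd : Odd (Fintype.card ι)) (v : M') (u : A) (hu : u * Q' v = 1) :
    LinearEquiv.det (negRefl Q' v u hu) = 1 := by
  apply Units.ext
  rw [LinearEquiv.coe_det, Units.val_one]
  have h1 : (negRefl Q' v u hu : M' →ₗ[A] M') = -(reflMap Q' v u) := by
    ext y
    simp [negRefl]
  rw [h1, ← LinearMap.det_toMatrix b, map_neg, Matrix.det_neg, LinearMap.det_toMatrix b, reflMap,
    det_id_add_smulRight b, hodd.neg_one_pow]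
  simp only [LinearMap.smul_apply, LinearMap.flip_apply, QuadraticMap.polarBilin_apply_apply,
    QuadraticMap.polar_self, smul_eq_mul, nsmul_eq_mul]
  push_cast
  linear_combination 2 * hu

/-- Commutation with the (negative) reflection. -/
theorem comm_negRefl (v : M') (u : A) (hu : u * Q' v = 1) (G : M' ≃ₗ[A] M')
    (hG : G * negRefl Q' v u hu = negRefl Q' v u hu * G) (x : M') :
    QuadraticMap.polar Q' x v • G v = QuadraticMap.polar Q' (G x) v • v := by
  have h1 := congrArg (fun f => f x) hG
  simp only [LinearEquiv.mul_apply, negRefl_apply, map_neg, map_sub, map_smul] at h1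
  have h2 : (u * QuadraticMap.polar Q' x v) • G v = (u * QuadraticMap.polar Q' (G x) v) • v := by
    have h3 := neg_injective h1
    have h4 := sub_right_injective h3
    exact h4
  have h5 := congrArg (fun z => Q' v • z) h2
  simp only [smul_smul] at h5
  rw [← mul_assoc, ← mul_assoc, mul_comm (Q' v) u, hu, one_mul, one_mul] at h5
  exact h5

end Refl

section OEq

theorem mem_orth_of_mem_O_baseChangeForm {R : Type*} [CommRing R] {M : Type*} [AddCommGroup M]
    [Module R M] [Module.Free R M] (Q : QuadraticForm R M) (A : Type*) [CommRing A] [Algebra R A]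
    (h : (A ⊗[R] M) ≃ₗ[A] (A ⊗[R] M)) (hh : h ∈ QuadGrp.O (QuadGrp.baseChangeForm A Q)) :
    h ∈ QuadGrp.orth Q A := by
  intro x
  have h1 := hh x
  change (AlgebraTensorModule.rid R A A) _ = (AlgebraTensorModule.rid R A A) _ at h1
  exact (AlgebraTensorModule.rid R A A).injective h1

theorem det_infIsom {A : Type*} [CommRing A] {M' : Type*} [AddCommGroup M'] [Module A M']
    (Q' : QuadraticForm A M') {ι : Type*} [Fintype ι] [DecidableEq ι] (b₀ : Module.Basis ι A M')
    (ε : A) (hε : ε * ε = 0) (a b : M') : LinearEquiv.det (infIsom Q' ε hε a b) = 1 := by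
  apply Units.ext
  rw [LinearEquiv.coe_det, Units.val_one]
  have hfac : (infIsom Q' ε hε a b : M' →ₗ[A] M') =
      (LinearMap.id + (ε • (QuadraticMap.polarBilin Q').flip a).smulRight b) ∘ₗ
      (LinearMap.id + ((-ε) • (QuadraticMap.polarBilin Q').flip b).smulRight a) := by
    ext y
    have h1 : ε * (QuadraticMap.polar Q' y a +
        (-ε * QuadraticMap.polar Q' y b) * QuadraticMap.polar Q' a a) = ε * QuadraticMap.polar Q' y a := by
      linear_combination (- QuadraticMap.polar Q' y b * QuadraticMap.polar Q' a a) * hε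
    simp only [LinearEquiv.coe_coe, infIsom_apply, infGen_apply, LinearMap.comp_apply,
      LinearMap.add_apply, LinearMap.id_apply, LinearMap.smulRight_apply, LinearMap.smul_apply,
      LinearMap.flip_apply, QuadraticMap.polarBilin_apply_apply, smul_eq_mul,
      QuadraticMap.polar_add_left, QuadraticMap.polar_smul_left]
    rw [h1]
    module
  rw [hfac, LinearMap.det_comp, det_id_add_smulRight b₀, det_id_add_smulRight b₀]
  simp only [LinearMap.smul_apply, LinearMap.flip_apply, QuadraticMap.polarBilin_apply_apply,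
    smul_eq_mul]
  rw [QuadraticMap.polar_comm Q' b a]
  linear_combination (-(QuadraticMap.polar Q' a b) ^ 2) * hε

end OEq

section Generic

variable {R : Type u} [CommRing R] {n : ℕ}

theorem generic_reflection_identity (hn : Odd n) (Q : QuadraticForm R (Fin n → R))
    (hann : ∀ r : R, (∀ y, r * Q y = 0) → r = 0)
    (g : (Fin n → R) ≃ₗ[R] (Fin n → R))
    (H : ∀ (A : Type u) [CommRing A] [Algebra R A], ∀ h ∈ QuadGrp.sorth' Q A,
        g.baseChange R A (Fin n → R) (Fin n → R) * h = h * g.baseChange R A (Fin n → R) (Fin n → R))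
    (k i : Fin n) (y : Fin n → R) :
    QuadraticMap.polar Q (Pi.single k 1) y * (g y) i =
      QuadraticMap.polar Q (g (Pi.single k 1)) y * y i := by
  classical
  set q : MvPolynomial (Fin n) R := ∑ k : Fin n, ∑ l : Fin n,
    MvPolynomial.C (QuadGrp.bilinLift Q (Pi.single k 1) (Pi.single l 1)) * MvPolynomial.X k *
      MvPolynomial.X l with hq
  have hqeval : ∀ y : Fin n → R, MvPolynomial.eval y q = Q y := by
    intro y
    have h1 : Q y = QuadGrp.bilinLift Q y y := by
      conv_lhs => rw [← QuadGrp.bilinLift_spec Q]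
      rfl
    rw [h1]
    conv_rhs => rw [pi_eq_sum_univ' y]
    simp only [map_sum, LinearMap.sum_apply, map_smul, LinearMap.smul_apply, smul_eq_mul, hq,
      MvPolynomial.eval_C, MvPolynomial.eval_X, map_mul, Finset.mul_sum]
    rw [Finset.sum_comm]
    refine Finset.sum_congr rfl fun k _ => Finset.sum_congr rfl fun l _ => ?_
    ring
  have hqnzd : q ∈ nonZeroDivisors (MvPolynomial (Fin n) R) := by
    apply mccoy_mem_nonZeroDivisors
    intro r hr
    apply hann
    intro y
    have h1 := congrArg (MvPolynomial.eval y) hr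
    rw [MvPolynomial.smul_eval, hqeval, map_zero] at h1
    exact h1
  have hinj : Function.Injective (algebraMap (MvPolynomial (Fin n) R) (Localization.Away q)) :=
    IsLocalization.injective (Localization.Away q) (Submonoid.powers_le.mpr hqnzd)
  set φ := algebraMap (MvPolynomial (Fin n) R) (Localization.Away q) with hφ
  have hsm : ∀ (r : R) (a : Localization.Away q), r • a = φ (MvPolynomial.C r) * a := by
    intro r a
    rw [Algebra.smul_def, IsScalarTower.algebraMap_apply R (MvPolynomial (Fin n) R) (Localization.Away q),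
      MvPolynomial.algebraMap_eq]
  set τ : (Localization.Away q) ⊗[R] (Fin n → R) :=
    ∑ j : Fin n, (φ (MvPolynomial.X j)) ⊗ₜ[R] (Pi.single j (1 : R)) with hτ
  have hQτ : QuadGrp.baseChangeForm (Localization.Away q) Q τ = φ q := by
    have h1 : QuadGrp.baseChangeForm (Localization.Away q) Q τ =
        (AlgebraTensorModule.rid R (Localization.Away q) (Localization.Away q))
          (((QuadGrp.bilinLift Q).baseChange (Localization.Away q)) τ τ) := rfl
    rw [h1, hτ, congrArg φ hq]
    simp only [map_sum, LinearMap.sum_apply, LinearMap.BilinMap.baseChange_tmul,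
      AlgebraTensorModule.rid_tmul, map_mul, hsm]
    rw [Finset.sum_comm]
    refine Finset.sum_congr rfl fun k _ => Finset.sum_congr rfl fun l _ => ?_
    ring
  obtain ⟨u, hu⟩ := (IsLocalization.Away.algebraMap_isUnit (S := Localization.Away q) q).exists_left_inv
  have hu' : u * QuadGrp.baseChangeForm (Localization.Away q) Q τ = 1 := by rw [hQτ]; exact hu
  have hρmem : negRefl (QuadGrp.baseChangeForm (Localization.Away q) Q) τ u hu' ∈
      QuadGrp.sorth' Q (Localization.Away q) := by
    refine Subgroup.mem_inf.mpr ⟨mem_orth_of_mem_O_baseChangeForm Q _ _ (negRefl_mem_O _ _ _ _), ?_⟩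
    rw [MonoidHom.mem_ker]
    exact det_negRefl _ (Algebra.TensorProduct.basis (Localization.Away q) (Pi.basisFun R (Fin n)))
      (by simpa using hn) τ u hu'
  have hc := comm_negRefl (QuadGrp.baseChangeForm (Localization.Away q) Q) τ u hu'
    (g.baseChange R (Localization.Away q) (Fin n → R) (Fin n → R)) (H _ _ hρmem)
  set coord : (Localization.Away q) ⊗[R] (Fin n → R) →ₗ[Localization.Away q] (Localization.Away q) :=
    (AlgebraTensorModule.rid R (Localization.Away q) (Localization.Away q)).toLinearMap ∘ₗ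
      (LinearMap.baseChange (Localization.Away q) (LinearMap.proj i : (Fin n → R) →ₗ[R] R)) with hcoord_def
  have hcoord : ∀ (a : Localization.Away q) (m : Fin n → R), coord (a ⊗ₜ[R] m) = φ (MvPolynomial.C (m i)) * a := by
    intro a m
    rw [← hsm]
    simp [hcoord_def]
  have hp : ∀ x : Fin n → R,
      QuadraticMap.polar (QuadGrp.baseChangeForm (Localization.Away q) Q) ((1 : Localization.Away q) ⊗ₜ[R] x) τ =
        φ (∑ b : Fin n, MvPolynomial.C (QuadraticMap.polar Q x (Pi.single b 1)) * MvPolynomial.X b) := by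
    intro x
    have h1 : QuadraticMap.polar (QuadGrp.baseChangeForm (Localization.Away q) Q)
        ((1 : Localization.Away q) ⊗ₜ[R] x) τ =
        QuadraticMap.polarBilin (QuadGrp.baseChangeForm (Localization.Away q) Q)
          ((1 : Localization.Away q) ⊗ₜ[R] x) τ := rfl
    rw [h1, hτ]
    simp only [map_sum, QuadraticMap.polarBilin_apply_apply, polar_baseChangeForm_tmul, map_mul,
      one_mul, hsm]
  have hgτ : coord (g.baseChange R (Localization.Away q) (Fin n → R) (Fin n → R) τ) =
      φ (∑ a : Fin n, MvPolynomial.C ((g (Pi.single a 1)) i) * MvPolynomial.X a) := by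
    rw [hτ]
    simp only [map_sum, LinearEquiv.baseChange_tmul, hcoord, map_mul]
  have hτi : coord τ = φ (MvPolynomial.X i) := by
    rw [hτ]
    simp only [map_sum, hcoord]
    rw [Finset.sum_eq_single i]
    · simp
    · intro b _ hb
      rw [Pi.single_eq_of_ne (Ne.symm hb)]
      simp
    · intro h
      exact absurd (Finset.mem_univ i) h
  have h1 := congrArg coord (hc ((1 : Localization.Away q) ⊗ₜ[R] Pi.single k 1))
  rw [map_smul, map_smul, LinearEquiv.baseChange_tmul, hp, hp, hgτ, hτi, smul_eq_mul, smul_eq_mul,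
    ← map_mul, ← map_mul] at h1
  have h2 := hinj h1
  have h3 := congrArg (MvPolynomial.eval y) h2
  simp only [map_mul, map_sum, MvPolynomial.eval_C, MvPolynomial.eval_X] at h3
  have hlin : ∀ x : Fin n → R,
      ∑ b : Fin n, QuadraticMap.polar Q x (Pi.single b 1) * y b = QuadraticMap.polar Q x y := by
    intro x
    calc ∑ b : Fin n, QuadraticMap.polar Q x (Pi.single b 1) * y b
        = ∑ b : Fin n, QuadraticMap.polarBilin Q x (y b • Pi.single b 1) := by
          refine Finset.sum_congr rfl fun b _ => ?_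
          rw [map_smul, smul_eq_mul, mul_comm]
          rfl
      _ = QuadraticMap.polarBilin Q x (∑ b : Fin n, y b • Pi.single b 1) := (map_sum _ _ _).symm
      _ = QuadraticMap.polar Q x y := by
          rw [← pi_eq_sum_univ' y]
          rfl
  have hg' : ∑ a : Fin n, (g (Pi.single a 1)) i * y a = (g y) i := by
    calc ∑ a : Fin n, (g (Pi.single a 1)) i * y a
        = ∑ a : Fin n, (g (y a • Pi.single a 1)) i := by
          refine Finset.sum_congr rfl fun a _ => ?_
          rw [map_smul, Pi.smul_apply, smul_eq_mul, mul_comm]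
      _ = (g (∑ a : Fin n, y a • Pi.single a 1)) i := by
          rw [map_sum, Finset.sum_apply]
      _ = (g y) i := by rw [← pi_eq_sum_univ' y]
  rw [hlin, hlin, hg'] at h3
  exact h3

theorem scalar_of_reflection_identity (hn : Odd n) (hn3 : 3 ≤ n) (Q : QuadraticForm R (Fin n → R))
    (hQ : IsSemiregular (Pi.basisFun R (Fin n)) (LinearEquiv.refl R R) Q)
    (g : (Fin n → R) ≃ₗ[R] (Fin n → R)) (hg : g ∈ QuadGrp.O Q)
    (HD : ∀ (k i : Fin n) (y : Fin n → R),
      QuadraticMap.polar Q (Pi.single k 1) y * (g y) i =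
        QuadraticMap.polar Q (g (Pi.single k 1)) y * y i) :
    ∃ c : R, c * c = 1 ∧ ∀ v, g v = c • v := by
  classical
  have hα : ∀ k a i : Fin n, i ≠ a →
      QuadraticMap.polar Q (Pi.single k 1) (Pi.single a 1) * (g (Pi.single a 1)) i = 0 := by
    intro k a i hia
    have h := HD k i (Pi.single a 1)
    rw [Pi.single_eq_of_ne hia, mul_zero] at h
    exact h
  have hβ : ∀ k a b i : Fin n, i ≠ a → i ≠ b →
      QuadraticMap.polar Q (Pi.single k 1) (Pi.single a 1) * (g (Pi.single b 1)) i +
        QuadraticMap.polar Q (Pi.single k 1) (Pi.single b 1) * (g (Pi.single a 1)) i = 0 := by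
    intro k a b i hia hib
    have h := HD k i (Pi.single a 1 + Pi.single b 1)
    simp only [QuadraticMap.polar_add_right, map_add, Pi.add_apply, Pi.single_eq_of_ne hia,
      Pi.single_eq_of_ne hib, add_zero, mul_zero] at h
    have h1 := hα k a i hia
    have h2 := hα k b i hib
    linear_combination h - h1 - h2
  have hoffdiag : ∀ a i : Fin n, i ≠ a → (g (Pi.single a 1)) i = 0 := by
    intro a i hia
    have htop := Ideal.span_pow_eq_top _ (span_polar_eq_top hn (by omega) Q hQ i) 2
    apply eq_zero_of_mul_span _ htop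
    rintro _ ⟨_, ⟨k, b, hb, rfl⟩, rfl⟩
    have h1 := hα k b i (Ne.symm hb)
    have h2 := hβ k a b i hia (Ne.symm hb)
    linear_combination (QuadraticMap.polar Q (Pi.single k 1) (Pi.single b 1)) * h2 -
      (QuadraticMap.polar Q (Pi.single k 1) (Pi.single a 1)) * h1
  have hdiagform : ∀ a : Fin n, g (Pi.single a 1) = (g (Pi.single a 1)) a • Pi.single a 1 := by
    intro a
    funext i
    by_cases h : i = a
    · subst h; simp
    · rw [hoffdiag a i h]; simp [Pi.single_eq_of_ne h]
  have hδ : ∀ k a : Fin n, QuadraticMap.polar Q (g (Pi.single k 1)) (Pi.single a 1) =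
      QuadraticMap.polar Q (Pi.single k 1) (Pi.single a 1) * (g (Pi.single a 1)) a := by
    intro k a
    have h := HD k a (Pi.single a 1)
    rw [Pi.single_eq_same, mul_one] at h
    exact h.symm
  have hγ : ∀ k a i : Fin n, i ≠ a →
      ((g (Pi.single i 1)) i - (g (Pi.single a 1)) a) *
        QuadraticMap.polar Q (Pi.single k 1) (Pi.single a 1) = 0 := by
    intro k a i hia
    have h := HD k i (Pi.single a 1 + Pi.single i 1)
    simp only [QuadraticMap.polar_add_right, map_add, Pi.add_apply, Pi.single_eq_of_ne hia,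
      Pi.single_eq_same, hoffdiag a i hia, zero_add, mul_one, hδ] at h
    linear_combination h
  have hconst : ∀ i j : Fin n, (g (Pi.single i 1)) i = (g (Pi.single j 1)) j := by
    intro i j
    apply sub_eq_zero.mp
    apply eq_zero_of_mul_span _ (span_polar_eq_top hn (by omega) Q hQ i)
    rintro _ ⟨k, b, hb, rfl⟩
    have h1 := hγ k b i (Ne.symm hb)
    have h2 : ((g (Pi.single j 1)) j - (g (Pi.single b 1)) b) *
        QuadraticMap.polar Q (Pi.single k 1) (Pi.single b 1) = 0 := by
      by_cases hjb : j = b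
      · subst hjb; simp
      · exact hγ k b j hjb
    linear_combination h1 - h2
  have hn0 : 0 < n := by omega
  obtain ⟨c, hc⟩ : ∃ c : R, c = (g (Pi.single ⟨0, hn0⟩ 1)) ⟨0, hn0⟩ := ⟨_, rfl⟩
  have hbasis : ∀ b : Fin n, g (Pi.single b 1) = c • Pi.single b 1 := by
    intro b
    rw [hc, ← hconst b ⟨0, hn0⟩]
    exact hdiagform b
  refine ⟨c, ?_, ?_⟩
  · apply sub_eq_zero.mp
    apply eq_zero_of_mul_span _ (span_polar_eq_top hn (by omega) Q hQ ⟨0, hn0⟩)
    rintro _ ⟨k, b, -, rfl⟩
    have hpol : QuadraticMap.polar Q (g (Pi.single k 1)) (g (Pi.single b 1)) =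
        QuadraticMap.polar Q (Pi.single k 1) (Pi.single b 1) := by
      simp only [QuadraticMap.polar, ← map_add, hg _]
    rw [hbasis k, hbasis b, QuadraticMap.polar_smul_left, QuadraticMap.polar_smul_right, smul_eq_mul,
      smul_eq_mul] at hpol
    linear_combination hpol
  · have hlin : g.toLinearMap = c • (LinearMap.id : (Fin n → R) →ₗ[R] (Fin n → R)) := by
      apply LinearMap.pi_ext
      intro i x
      have hx : (Pi.single i x : Fin n → R) = x • Pi.single i 1 := by
        rw [← Pi.single_smul, smul_eq_mul, mul_one]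
      rw [hx, map_smul, map_smul, LinearEquiv.coe_coe, hbasis i]
      simp
    intro v
    have := LinearMap.congr_fun hlin v
    simpa using this

end Generic

section Core

theorem center_core (R : Type u) [CommRing R] (n : ℕ) (hn : 3 ≤ n)
    (Q : QuadraticForm R (Fin n → R))
    (hQ : QuadGrp.IsNondeg (Pi.basisFun R (Fin n)) (LinearEquiv.refl R R) Q)
    (g : (Fin n → R) ≃ₗ[R] (Fin n → R)) (hgO : g ∈ QuadGrp.O Q)
    (H : ∀ (A : Type u) [CommRing A] [Algebra R A], ∀ h ∈ QuadGrp.sorth' Q A,
        g.baseChange R A (Fin n → R) (Fin n → R) * h = h * g.baseChange R A (Fin n → R) (Fin n → R)) :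
    ∃ c : R, c * c = 1 ∧ ∀ v, g v = c • v := by
  classical
  rcases Nat.even_or_odd n with he | ho
  · have hreg : QuadGrp.IsRegular Q := hQ.1 he
    have hdual : ∀ i : Fin n, ∃ d : Fin n → R, ∀ y, QuadraticMap.polar Q d y = y i := by
      intro i
      obtain ⟨d, hd⟩ := hreg.2 (LinearMap.proj i)
      exact ⟨d, fun y => by
        have := LinearMap.congr_fun hd y
        simpa using this⟩
    choose d hd using hdual
    have hcomm : ∀ x u w : Fin n → R,
        g (QuadraticMap.polarBilin Q x u • w - QuadraticMap.polarBilin Q x w • u) =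
          QuadraticMap.polarBilin Q (g x) u • w - QuadraticMap.polarBilin Q (g x) w • u := by
      intro x u w
      have hmem : infIsom (QuadGrp.baseChangeForm (DualNumber R) Q) (DualNumber.eps : DualNumber R)
          DualNumber.eps_mul_eps ((1 : DualNumber R) ⊗ₜ[R] u) ((1 : DualNumber R) ⊗ₜ[R] w) ∈
          QuadGrp.sorth' Q (DualNumber R) := by
        refine Subgroup.mem_inf.mpr
          ⟨mem_orth_of_mem_O_baseChangeForm Q _ _ (infIsom_mem_O _ _ _ _ _), ?_⟩
        rw [MonoidHom.mem_ker]
        exact det_infIsom _ (Algebra.TensorProduct.basis (DualNumber R) (Pi.basisFun R (Fin n))) _ _ _ _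
      have h1 := H (DualNumber R) _ hmem
      have h2 := congrArg (fun f => sndExtract (f ((1 : DualNumber R) ⊗ₜ[R] x))) h1
      simp only [LinearEquiv.mul_apply, infIsom_one_tmul, map_add, LinearEquiv.baseChange_tmul,
        sndExtract_tmul] at h2
      simpa using h2
    obtain ⟨c, hc, hcd⟩ := scalar_of_commute (by omega) (QuadraticMap.polarBilin Q) d
      (fun i y => by simpa using hd i y) g hcomm
    refine ⟨c, ?_, hc⟩
    have hpol : ∀ x y, QuadraticMap.polar Q (g x) (g y) = QuadraticMap.polar Q x y := by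
      intro x y
      simp only [QuadraticMap.polar, ← map_add, hgO _]
    have h3 := hpol (d ⟨0, by omega⟩) (Pi.single ⟨0, by omega⟩ 1)
    rw [hc (d _), hc (Pi.single _ 1), QuadraticMap.polar_smul_left, QuadraticMap.polar_smul_right,
      hd, Pi.single_eq_same] at h3
    simpa using h3
  · have hsemi := hQ.2 ho
    have hann : ∀ r : R, (∀ y, r * Q y = 0) → r = 0 := by
      intro r hr
      apply eq_zero_of_mul_span _ (span_polar_eq_top ho (by omega) Q hsemi ⟨0, by omega⟩)
      rintro _ ⟨k, b, -, rfl⟩
      simp only [QuadraticMap.polar]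
      rw [mul_sub, mul_sub, hr, hr, hr]
      simp
    exact scalar_of_reflection_identity ho hn Q hsemi g hgO
      (generic_reflection_identity ho Q hann g H)

theorem center_converse {R : Type u} [CommRing R] {n : ℕ}
    (g : (Fin n → R) ≃ₗ[R] (Fin n → R)) (c : R) (hc : ∀ v, g v = c • v)
    (A : Type u) [CommRing A] [Algebra R A]
    (h : (A ⊗[R] (Fin n → R)) ≃ₗ[A] (A ⊗[R] (Fin n → R))) :
    g.baseChange R A (Fin n → R) (Fin n → R) * h = h * g.baseChange R A (Fin n → R) (Fin n → R) := by
  have hgA : ∀ y : A ⊗[R] (Fin n → R),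
      g.baseChange R A (Fin n → R) (Fin n → R) y = c • y := by
    intro y
    induction y using TensorProduct.induction_on with
    | zero => simp
    | tmul a v => rw [LinearEquiv.baseChange_tmul, hc, TensorProduct.tmul_smul]
    | add x y hx hy => rw [map_add, hx, hy, smul_add]
  ext y
  rw [LinearEquiv.mul_apply, LinearEquiv.mul_apply, hgA, hgA, ← algebraMap_smul A c,
    ← algebraMap_smul A c, map_smul]

end Core

end Groth.Agent.H84
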