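import Groth.Agent.H84.RPBW
import Mathlib

/-!
# The restricted enveloping algebra `u(L)` as an algebra: universal property and PBW basis
-/

set_option autoImplicit false
universe u v w

namespace Groth.Agent.H84.RHopf

attribute [local instance 100] LieRing.ofAssociativeRing

open Groth.Agent.S3312 Groth.Agent.H84.RPBW

noncomputable section

/-! ## lists versus exponent vectors -/

section Lists
variable {n : ℕ}

/-- exponent vector of a list -/
def evl (l : List (Fin n)) : Fin n →₀ ℕ := Multiset.toFinsupp (l : Multiset (Fin n))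

theorem evl_apply (l : List (Fin n)) (i : Fin n) : evl l i = l.count i := by
  unfold evl
  rw [Multiset.toFinsupp_apply, Multiset.coe_count]

theorem Lst_evl (l : List (Fin n)) (hl : l.SortedLE) : Lst (evl l) = l :=
  congrArg Subtype.val (slEquiv.left_inv ⟨l, hl⟩)

theorem evl_Lst (e : Fin n →₀ ℕ) : evl (Lst e) = e := slEquiv.right_inv e

theorem Lst_injective {e e' : Fin n →₀ ℕ} (h : Lst e = Lst e') : e = e' := by
  rw [← evl_Lst e, ← evl_Lst e', h]

theorem evl_nil : evl ([] : List (Fin n)) = 0 := by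
  ext i
  rw [evl_apply]
  simp

theorem evl_singleton (i : Fin n) : evl [i] = Finsupp.single i 1 := by
  show Multiset.toFinsupp ({i} : Multiset (Fin n)) = _
  rw [Multiset.toFinsupp_singleton]

theorem count_Lst (e : Fin n →₀ ℕ) (i : Fin n) : (Lst e).count i = e i := by
  rw [← evl_apply, evl_Lst]

theorem qd_evl (p : ℕ) [hp : Fact p.Prime] (l : List (Fin n)) (h : ∀ i, l.count i < p) : qd p (evl l) = 0 := by
  ext i
  rw [qd_apply, evl_apply, Finsupp.zero_apply]
  exact Nat.div_eq_of_lt (h i)

theorem lt_of_qd_eq_zero (p : ℕ) [hp : Fact p.Prime] (e : Fin n →₀ ℕ) (he : qd p e = 0)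
    (i : Fin n) : e i < p := by
  have hp0 : 0 < p := hp.out.pos
  have := congrArg (fun f : Fin n →₀ ℕ => f i) he
  simp only [qd_apply, Finsupp.coe_zero, Pi.zero_apply] at this
  exact (Nat.div_eq_zero_iff.mp this).resolve_left hp0.ne'

theorem rm_of_qd_eq_zero (p : ℕ) [hp : Fact p.Prime] (e : Fin n →₀ ℕ) (he : qd p e = 0) : rm p e = e := by
  have h := qd_add_rm p e
  rw [he, smul_zero, zero_add] at h
  exact h

/-- the index type of the restricted PBW basis -/
abbrev Sm (p n : ℕ) [hp : Fact p.Prime] : Type := {e : Fin n →₀ ℕ // qd p e = 0}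

instance Sm_finite (p : ℕ) [hp : Fact p.Prime] : Finite (Sm p n) :=
  (finite_small p).to_subtype

end Lists

section Alg
variable {k : Type u} [Field k] {L : Type v} [LieRing L] [LieAlgebra k L]
  (p : ℕ) [hp : Fact p.Prime] [CharP k p] (φ : PLie.PMap k p L)
  {n : ℕ} (b : Module.Basis (Fin n) k L)

/-! ## `J` is a two-sided ideal -/

theorem mul_mem_J (c u : UniversalEnvelopingAlgebra k L) (hu : u ∈ J p φ b) :
    c * u ∈ J p φ b := by
  have key : ∀ a : TensorAlgebra k L, ∀ u ∈ J p φ b,
      UniversalEnvelopingAlgebra.mkAlgHom k L a * u ∈ J p φ b := by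
    intro a
    induction a using TensorAlgebra.induction with
    | algebraMap r =>
      intro u hu
      rw [AlgHom.commutes, ← Algebra.smul_def]
      exact Submodule.smul_mem _ r hu
    | ι y =>
      intro u hu
      exact iL_mul_mem_J p φ b y u hu
    | mul a a' ha ha' =>
      intro u hu
      rw [map_mul, mul_assoc]
      exact ha _ (ha' u hu)
    | add a a' ha ha' =>
      intro u hu
      rw [map_add, add_mul]
      exact Submodule.add_mem _ (ha u hu) (ha' u hu)
  obtain ⟨a, rfl⟩ := RingCon.mkₐ_surjective (α := k) (UniversalEnvelopingAlgebra.ringCon k L) c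
  exact key a u hu

theorem mem_J_mul (c u : UniversalEnvelopingAlgebra k L) (hu : u ∈ J p φ b) :
    u * c ∈ J p φ b := by
  induction hu using Submodule.span_induction with
  | mem u hu =>
    obtain ⟨e, he, rfl⟩ := hu
    obtain ⟨i, f, rfl⟩ := exists_eq_add_single p e he
    rw [← xi_mul_mp, mul_assoc]
    exact xi_basis_mul_mem p φ b i _
  | zero => rw [zero_mul]; exact Submodule.zero_mem _
  | add u v _ _ hu hv => rw [add_mul]; exact Submodule.add_mem _ hu hv
  | smul r u _ hu => rw [smul_mul_assoc]; exact Submodule.smul_mem _ r hu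

/-- `J` as a (two-sided) ideal -/
def Jid : Ideal (UniversalEnvelopingAlgebra k L) where
  carrier := {u | u ∈ J p φ b}
  add_mem' := fun ha hb => (J p φ b).add_mem ha hb
  zero_mem' := (J p φ b).zero_mem
  smul_mem' := fun c _ hu => mul_mem_J p φ b c _ hu

theorem mem_Jid (u : UniversalEnvelopingAlgebra k L) : u ∈ Jid p φ b ↔ u ∈ J p φ b := Iff.rfl

instance Jid_twoSided : (Jid p φ b).IsTwoSided := ⟨fun c hu => mem_J_mul p φ b c _ hu⟩

/-- the restricted enveloping algebra -/
abbrev uL : Type (max u v) := UniversalEnvelopingAlgebra k L ⧸ Jid p φ b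

/-- the quotient map -/
def mkU : UniversalEnvelopingAlgebra k L →ₐ[k] uL p φ b := Ideal.Quotient.mkₐ k (Jid p φ b)

theorem mkU_surjective : Function.Surjective (mkU p φ b) :=
  Ideal.Quotient.mkₐ_surjective k (Jid p φ b)

theorem mkU_eq_zero_iff (u : UniversalEnvelopingAlgebra k L) :
    mkU p φ b u = 0 ↔ u ∈ J p φ b := by
  unfold mkU
  rw [Ideal.Quotient.mkₐ_eq_mk, Ideal.Quotient.eq_zero_iff_mem]
  rfl

/-- the canonical map `L → u(L)` -/
def iu : L →ₗ[k] uL p φ b :=
  (mkU p φ b).toLinearMap ∘ₗ (iL : L →ₗ[k] UniversalEnvelopingAlgebra k L)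

theorem iu_apply (x : L) : iu p φ b x = mkU p φ b (iL x) := rfl

theorem iu_lie (x y : L) :
    iu p φ b ⁅x, y⁆ = iu p φ b x * iu p φ b y - iu p φ b y * iu p φ b x := by
  simp only [iu_apply]
  rw [iL_lie, map_sub, map_mul, map_mul]

theorem iu_pow (x : L) : iu p φ b x ^ p = iu p φ b (φ x) := by
  rw [iu_apply, iu_apply, ← map_pow, ← sub_eq_zero, ← map_sub, mkU_eq_zero_iff]
  have h := xi_mul_mem p φ b x 1
  rw [mul_one] at h
  exact h

theorem iu_injective : Function.Injective (iu p φ b) := by
  rw [← LinearMap.ker_eq_bot, Submodule.eq_bot_iff]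
  intro x hx
  rw [LinearMap.mem_ker, iu_apply, mkU_eq_zero_iff] at hx
  exact eq_zero_of_iL_mem_J p φ b x hx

theorem uL_induction {C : uL p φ b → Prop}
    (halg : ∀ r : k, C (algebraMap k (uL p φ b) r))
    (hι : ∀ x : L, C (iu p φ b x))
    (hmul : ∀ a a', C a → C a' → C (a * a'))
    (hadd : ∀ a a', C a → C a' → C (a + a')) (w : uL p φ b) : C w := by
  have key : ∀ a : TensorAlgebra k L,
      C (mkU p φ b (UniversalEnvelopingAlgebra.mkAlgHom k L a)) := by
    intro a
    induction a using TensorAlgebra.induction with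
    | algebraMap r =>
      rw [AlgHom.commutes, AlgHom.commutes]
      exact halg r
    | ι y => exact hι y
    | mul a a' ha ha' =>
      rw [map_mul, map_mul]
      exact hmul _ _ ha ha'
    | add a a' ha ha' =>
      rw [map_add, map_add]
      exact hadd _ _ ha ha'
  obtain ⟨u, rfl⟩ := mkU_surjective p φ b w
  obtain ⟨a, rfl⟩ := RingCon.mkₐ_surjective (α := k) (UniversalEnvelopingAlgebra.ringCon k L) u
  exact key a

theorem uL_algHom_ext {B : Type w} [Semiring B] [Algebra k B] {f g : uL p φ b →ₐ[k] B}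
    (h : ∀ x : L, f (iu p φ b x) = g (iu p φ b x)) : f = g := by
  apply AlgHom.ext
  intro w
  refine uL_induction p φ b (C := fun w => f w = g w) (fun r => ?_) h
    (fun a a' ha ha' => ?_) (fun a a' ha ha' => ?_) w
  · rw [AlgHom.commutes, AlgHom.commutes]
  · have h1 : f a = g a := ha
    have h2 : f a' = g a' := ha'
    show f (a * a') = g (a * a')
    rw [map_mul, map_mul, h1, h2]
  · have h1 : f a = g a := ha
    have h2 : f a' = g a' := ha'
    show f (a + a') = g (a + a')
    rw [map_add, map_add, h1, h2]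

/-! ## the universal property -/

section Lift
variable {B : Type w} [Ring B] [Algebra k B] (ℓ : L →ₗ[k] B)
  (hlie : ∀ x y : L, ℓ ⁅x, y⁆ = ℓ x * ℓ y - ℓ y * ℓ x)

/-- a linear map respecting brackets, as a Lie homomorphism -/
def lieHomOf : L →ₗ⁅k⁆ B :=
  { ℓ with map_lie' := fun {x y} => hlie x y }

/-- the induced map on `U(L)` -/
def liftU : UniversalEnvelopingAlgebra k L →ₐ[k] B :=
  UniversalEnvelopingAlgebra.lift k (lieHomOf ℓ hlie)

theorem liftU_iL (x : L) :
    liftU ℓ hlie ((iL : L →ₗ[k] UniversalEnvelopingAlgebra k L) x) = ℓ x :=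
  UniversalEnvelopingAlgebra.lift_ι_apply k (lieHomOf ℓ hlie) x

variable (hpow : ∀ x : L, ℓ x ^ p = ℓ (φ x))

include hpow in
theorem liftU_xi (x : L) : liftU ℓ hlie (xi p φ x) = 0 := by
  unfold xi
  rw [map_sub, map_pow, liftU_iL, liftU_iL, hpow, sub_self]

include hpow in
theorem liftU_J (u : UniversalEnvelopingAlgebra k L) (hu : u ∈ J p φ b) :
    liftU ℓ hlie u = 0 := by
  induction hu using Submodule.span_induction with
  | mem u hu =>
    obtain ⟨e, he, rfl⟩ := hu
    obtain ⟨i, f, rfl⟩ := exists_eq_add_single p e he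
    rw [← xi_mul_mp, map_mul, liftU_xi p φ ℓ hlie hpow, zero_mul]
  | zero => exact map_zero _
  | add u v _ _ hu hv => rw [map_add, hu, hv, add_zero]
  | smul c u _ hu => rw [map_smul, hu, smul_zero]

/-- the universal property of `u(L)` -/
def liftu : uL p φ b →ₐ[k] B :=
  Ideal.Quotient.liftₐ (Jid p φ b) (liftU ℓ hlie)
    (fun u hu => liftU_J p φ b ℓ hlie hpow u hu)

theorem liftu_mkU (u : UniversalEnvelopingAlgebra k L) :
    liftu p φ b ℓ hlie hpow (mkU p φ b u) = liftU ℓ hlie u :=
  AlgHom.congr_fun (Ideal.Quotient.liftₐ_comp (Jid p φ b) (liftU ℓ hlie)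
    (fun u hu => liftU_J p φ b ℓ hlie hpow u hu)) u

theorem liftu_iu (x : L) : liftu p φ b ℓ hlie hpow (iu p φ b x) = ℓ x := by
  rw [iu_apply, liftu_mkU, liftU_iL]

end Lift

/-! ## the restricted PBW basis -/

theorem mp_small (e : Fin n →₀ ℕ) (he : qd p e = 0) : mp p φ b e = Xm b e := by
  unfold mp
  rw [rm_of_qd_eq_zero p e he, he,
    show (MvPolynomial.monomial (0 : Fin n →₀ ℕ) (1 : k)) = 1 from rfl, map_one, one_mul]

/-- the family of restricted PBW monomials -/
def uBfun (e : Sm p n) : uL p φ b := mkU p φ b (Xm b e.1)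

theorem uB_li : LinearIndependent k (uBfun p φ b) := by
  rw [linearIndependent_iff']
  intro s g hg e he
  have h1 : mkU p φ b (∑ i ∈ s, g i • mpB p φ b i.1) = 0 := by
    rw [map_sum, ← hg]
    refine Finset.sum_congr rfl fun i _ => ?_
    rw [map_smul, mpB_apply, mp_small p φ b i.1 i.2]
    rfl
  rw [mkU_eq_zero_iff] at h1
  have h3 := repr_eq_zero_of_mem_J p φ b _ h1 e.1 e.2
  rw [map_sum, Finsupp.finset_sum_apply, Finset.sum_eq_single e] at h3
  · rw [map_smul, Module.Basis.repr_self, Finsupp.smul_apply, Finsupp.single_eq_same,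
      smul_eq_mul, mul_one] at h3
    exact h3
  · intro j _ hje
    rw [map_smul, Module.Basis.repr_self, Finsupp.smul_apply, Finsupp.single_apply, if_neg,
      smul_zero]
    exact fun h => hje (Subtype.ext h)
  · intro h
    exact absurd he h

theorem uB_span : ⊤ ≤ Submodule.span k (Set.range (uBfun p φ b)) := by
  rintro w -
  obtain ⟨u, rfl⟩ := mkU_surjective p φ b w
  have hu : u ∈ Submodule.span k (Set.range (mpB p φ b)) := by
    rw [(mpB p φ b).span_eq]; exact Submodule.mem_top
  induction hu using Submodule.span_induction with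
  | mem u hu =>
    obtain ⟨e, rfl⟩ := hu
    by_cases he : qd p e = 0
    · refine Submodule.subset_span ⟨⟨e, he⟩, ?_⟩
      show mkU p φ b (Xm b e) = mkU p φ b (mpB p φ b e)
      rw [mpB_apply, mp_small p φ b e he]
    · have : mkU p φ b (mpB p φ b e) = 0 := by
        rw [mkU_eq_zero_iff, mpB_apply]
        exact Submodule.subset_span ⟨e, he, rfl⟩
      rw [this]
      exact Submodule.zero_mem _
  | zero => rw [map_zero]; exact Submodule.zero_mem _
  | add u v _ _ hu hv => rw [map_add]; exact Submodule.add_mem _ hu hv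
  | smul c u _ hu => rw [map_smul]; exact Submodule.smul_mem _ c hu

/-- the restricted PBW basis of `u(L)` -/
def uB : Module.Basis (Sm p n) k (uL p φ b) := Module.Basis.mk (uB_li p φ b) (uB_span p φ b)

theorem uB_apply (e : Sm p n) : uB p φ b e = mkU p φ b (Xm b e.1) := by
  unfold uB
  rw [Module.Basis.mk_apply]
  rfl

instance uL_finite : Module.Finite k (uL p φ b) := Module.Finite.of_basis (uB p φ b)

/-- monomials along lists -/
def monoU (l : List (Fin n)) : uL p φ b := mkU p φ b (mono b l)

theorem monoU_nil : monoU p φ b [] = 1 := by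
  unfold monoU
  rw [mono_nil, map_one]

theorem monoU_cons (i : Fin n) (l : List (Fin n)) :
    monoU p φ b (i :: l) = iu p φ b (b i) * monoU p φ b l := by
  unfold monoU
  rw [mono_cons, map_mul]
  rfl

theorem uB_eq_monoU (e : Sm p n) : uB p φ b e = monoU p φ b (Lst e.1) := by
  rw [uB_apply]
  rfl

theorem monoU_good (l : List (Fin n)) (hl : l.SortedLE) (hs : ∀ i, l.count i < p) :
    monoU p φ b l = uB p φ b ⟨evl l, qd_evl p l hs⟩ := by
  rw [uB_eq_monoU]
  show monoU p φ b l = monoU p φ b (Lst (evl l))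
  rw [Lst_evl l hl]

theorem coord_monoU (e : Sm p n) (l : List (Fin n)) (hl : l.SortedLE) (hs : ∀ i, l.count i < p) :
    (uB p φ b).coord e (monoU p φ b l) = if e.1 = evl l then 1 else 0 := by
  rw [monoU_good p φ b l hl hs, Module.Basis.coord_apply, Module.Basis.repr_self,
    Finsupp.single_apply]
  by_cases h : e.1 = evl l
  · rw [if_pos h, if_pos (Subtype.ext h.symm)]
  · rw [if_neg h, if_neg (fun h' => h (congrArg Subtype.val h').symm)]

theorem uB_single (i : Fin n) :
    uB p φ b ⟨Finsupp.single i 1, qd_single_one p i⟩ = iu p φ b (b i) := by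
  rw [uB_eq_monoU]
  show monoU p φ b (Lst (Finsupp.single i 1)) = _
  rw [Lst_single_one, monoU_cons, monoU_nil, mul_one]

theorem uB_zero : uB p φ b ⟨0, by ext i; rw [qd_apply]; simp⟩ = 1 := by
  rw [uB_eq_monoU]
  show monoU p φ b (Lst 0) = _
  rw [Lst_zero, monoU_nil]

end Alg

end

end Groth.Agent.H84.RHopf
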