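import Groth.Agent.H84.RHopf1
import Mathlib

/-!
# The Hopf algebra structure on the restricted enveloping algebra `u(L)`
-/

set_option autoImplicit false
universe u v w

namespace Groth.Agent.H84.RHopf

attribute [local instance 100] LieRing.ofAssociativeRing

open Groth.Agent.S3312 Groth.Agent.H84.RPBW
open scoped TensorProduct

noncomputable section

section Gen
variable {k : Type u} [Field k]

theorem nontrivial_of_algHom {B : Type w} [Ring B] [Algebra k B] (f : B →ₐ[k] k) :
    Nontrivial B :=
  ⟨⟨0, 1, fun h => by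
    have h2 := congrArg f h
    rw [map_zero, map_one] at h2
    exact zero_ne_one h2⟩⟩

theorem charP_of_algHom (p : ℕ) [CharP k p] {B : Type w} [Ring B] [Algebra k B]
    (f : B →ₐ[k] k) : CharP B p := by
  haveI := nontrivial_of_algHom f
  exact charP_of_injective_algebraMap (algebraMap k B).injective p

end Gen

section Hopf
variable {k : Type u} [Field k] {L : Type v} [LieRing L] [LieAlgebra k L]
  (p : ℕ) [hp : Fact p.Prime] [CharP k p] (φ : PLie.PMap k p L)
  {n : ℕ} (b : Module.Basis (Fin n) k L)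

/-- the counit -/
def epsU : uL p φ b →ₐ[k] k :=
  liftu p φ b (0 : L →ₗ[k] k) (by intro x y; simp) (by intro x; simp [hp.out.ne_zero])

theorem epsU_iu (x : L) : epsU p φ b (iu p φ b x) = 0 := by
  unfold epsU
  rw [liftu_iu]
  rfl

instance uL_nontrivial : Nontrivial (uL p φ b) := nontrivial_of_algHom (epsU p φ b)

instance uL_charP : CharP (uL p φ b) p := charP_of_algHom p (epsU p φ b)

/-- the augmentation of the tensor square -/
def eps2 : uL p φ b ⊗[k] uL p φ b →ₐ[k] k :=
  (Algebra.TensorProduct.lmul' k).comp (Algebra.TensorProduct.map (epsU p φ b) (epsU p φ b))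

instance uL2_charP : CharP (uL p φ b ⊗[k] uL p φ b) p := charP_of_algHom p (eps2 p φ b)

/-- `x ↦ x ⊗ 1 + 1 ⊗ x` -/
def dlin : L →ₗ[k] uL p φ b ⊗[k] uL p φ b :=
  ((TensorProduct.mk k (uL p φ b) (uL p φ b)).flip 1) ∘ₗ iu p φ b +
    (TensorProduct.mk k (uL p φ b) (uL p φ b) 1) ∘ₗ iu p φ b

theorem dlin_apply (x : L) :
    dlin p φ b x = iu p φ b x ⊗ₜ[k] 1 + 1 ⊗ₜ[k] iu p φ b x := by
  simp [dlin]

theorem dlin_lie (x y : L) :
    dlin p φ b ⁅x, y⁆ = dlin p φ b x * dlin p φ b y - dlin p φ b y * dlin p φ b x := by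
  simp only [dlin_apply, iu_lie, add_mul, mul_add, Algebra.TensorProduct.tmul_mul_tmul, one_mul,
    mul_one, TensorProduct.sub_tmul, TensorProduct.tmul_sub]
  abel

theorem dlin_pow (x : L) : dlin p φ b x ^ p = dlin p φ b (φ x) := by
  rw [dlin_apply, dlin_apply]
  have hc : Commute (iu p φ b x ⊗ₜ[k] (1 : uL p φ b)) ((1 : uL p φ b) ⊗ₜ[k] iu p φ b x) := by
    show _ * _ = _ * _
    rw [Algebra.TensorProduct.tmul_mul_tmul, Algebra.TensorProduct.tmul_mul_tmul, one_mul,
      mul_one]
  rw [add_pow_char_of_commute p hc, Algebra.TensorProduct.tmul_pow,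
    Algebra.TensorProduct.tmul_pow, one_pow, iu_pow]

/-- the comultiplication -/
def delU : uL p φ b →ₐ[k] uL p φ b ⊗[k] uL p φ b :=
  liftu p φ b (dlin p φ b) (dlin_lie p φ b) (dlin_pow p φ b)

theorem delU_iu (x : L) :
    delU p φ b (iu p φ b x) = iu p φ b x ⊗ₜ[k] 1 + 1 ⊗ₜ[k] iu p φ b x := by
  unfold delU
  rw [liftu_iu, dlin_apply]

instance uL_bialgebra : Bialgebra k (uL p φ b) :=
  Bialgebra.ofAlgHom (delU p φ b) (epsU p φ b)
    (by
      apply uL_algHom_ext
      intro x
      simp only [AlgHom.comp_apply, delU_iu, map_add, Algebra.TensorProduct.map_tmul, map_one,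
        AlgHom.id_apply, Algebra.TensorProduct.one_def,
        TensorProduct.add_tmul, TensorProduct.tmul_add, Algebra.TensorProduct.assoc_tmul]
      abel)
    (by
      apply uL_algHom_ext
      intro x
      simp only [AlgHom.comp_apply, delU_iu, map_add, Algebra.TensorProduct.map_tmul, map_one,
        AlgHom.id_apply, epsU_iu, TensorProduct.zero_tmul, zero_add]
      exact (Algebra.TensorProduct.lid_symm_apply k _).symm)
    (by
      apply uL_algHom_ext
      intro x
      simp only [AlgHom.comp_apply, delU_iu, map_add, Algebra.TensorProduct.map_tmul, map_one,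
        AlgHom.id_apply, epsU_iu, TensorProduct.tmul_zero, add_zero]
      exact (Algebra.TensorProduct.rid_symm_apply k k _).symm)

theorem comul_eq (w : uL p φ b) :
    CoalgebraStruct.comul (R := k) (A := uL p φ b) w = delU p φ b w := rfl

theorem counit_eq (w : uL p φ b) :
    CoalgebraStruct.counit (R := k) (A := uL p φ b) w = epsU p φ b w := rfl

/-! ### the antipode -/

/-- `x ↦ op (-x)` -/
def slin : L →ₗ[k] (uL p φ b)ᵐᵒᵖ :=
  (MulOpposite.opLinearEquiv k).toLinearMap ∘ₗ (-(iu p φ b))

theorem slin_apply (x : L) : slin p φ b x = MulOpposite.op (-(iu p φ b x)) := rfl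

theorem slin_lie (x y : L) :
    slin p φ b ⁅x, y⁆ = slin p φ b x * slin p φ b y - slin p φ b y * slin p φ b x := by
  simp only [slin_apply, iu_lie, ← MulOpposite.op_mul, ← MulOpposite.op_sub]
  congr 1
  rw [neg_mul_neg, neg_mul_neg, neg_sub]

theorem slin_pow (x : L) : slin p φ b x ^ p = slin p φ b (φ x) := by
  rw [slin_apply, slin_apply, ← MulOpposite.op_pow, neg_pow, neg_one_pow_char (uL p φ b) p,
    neg_one_mul, iu_pow]

/-- the antipode as an algebra map to the opposite algebra -/
def anti : uL p φ b →ₐ[k] (uL p φ b)ᵐᵒᵖ :=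
  liftu p φ b (slin p φ b) (slin_lie p φ b) (slin_pow p φ b)

/-- the antipode -/
def Sant : uL p φ b →ₗ[k] uL p φ b :=
  (MulOpposite.opLinearEquiv k).symm.toLinearMap ∘ₗ (anti p φ b).toLinearMap

theorem Sant_apply (w : uL p φ b) : Sant p φ b w = MulOpposite.unop (anti p φ b w) := rfl

theorem Sant_one : Sant p φ b 1 = 1 := by
  rw [Sant_apply, map_one, MulOpposite.unop_one]

theorem Sant_mul (a c : uL p φ b) : Sant p φ b (a * c) = Sant p φ b c * Sant p φ b a := by
  rw [Sant_apply, map_mul, MulOpposite.unop_mul]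
  rfl

theorem Sant_iu (x : L) : Sant p φ b (iu p φ b x) = -(iu p φ b x) := by
  rw [Sant_apply]
  unfold anti
  rw [liftu_iu, slin_apply, MulOpposite.unop_op]

theorem mulS_r (t : uL p φ b ⊗[k] uL p φ b) (c d : uL p φ b) :
    LinearMap.mul' k (uL p φ b) (LinearMap.rTensor (uL p φ b) (Sant p φ b) (t * (c ⊗ₜ[k] d))) =
      Sant p φ b c * LinearMap.mul' k (uL p φ b) (LinearMap.rTensor (uL p φ b) (Sant p φ b) t) * d := by
  induction t using TensorProduct.induction_on with
  | zero => simp
  | tmul a a' =>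
    rw [Algebra.TensorProduct.tmul_mul_tmul, LinearMap.rTensor_tmul, LinearMap.rTensor_tmul,
      LinearMap.mul'_apply, LinearMap.mul'_apply, Sant_mul, mul_assoc, mul_assoc, mul_assoc]
  | add t t' ht ht' =>
    rw [add_mul, map_add, map_add, ht, ht', map_add, map_add, mul_add, add_mul]

theorem mulS_r_central (t t' : uL p φ b ⊗[k] uL p φ b) (r : k)
    (ht : LinearMap.mul' k (uL p φ b) (LinearMap.rTensor (uL p φ b) (Sant p φ b) t) =
      algebraMap k (uL p φ b) r) :
    LinearMap.mul' k (uL p φ b) (LinearMap.rTensor (uL p φ b) (Sant p φ b) (t * t')) =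
      r • LinearMap.mul' k (uL p φ b) (LinearMap.rTensor (uL p φ b) (Sant p φ b) t') := by
  induction t' using TensorProduct.induction_on with
  | zero => simp
  | tmul c d =>
    rw [mulS_r, ht, LinearMap.rTensor_tmul, LinearMap.mul'_apply, Algebra.algebraMap_eq_smul_one,
      mul_smul_comm, mul_one, smul_mul_assoc]
  | add t1 t2 h1 h2 =>
    rw [mul_add, map_add, map_add, h1, h2, map_add, map_add, smul_add]

theorem mulS_l (a a' : uL p φ b) (t : uL p φ b ⊗[k] uL p φ b) :
    LinearMap.mul' k (uL p φ b) (LinearMap.lTensor (uL p φ b) (Sant p φ b) ((a ⊗ₜ[k] a') * t)) =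
      a * LinearMap.mul' k (uL p φ b) (LinearMap.lTensor (uL p φ b) (Sant p φ b) t) *
        Sant p φ b a' := by
  induction t using TensorProduct.induction_on with
  | zero => simp
  | tmul c d =>
    rw [Algebra.TensorProduct.tmul_mul_tmul, LinearMap.lTensor_tmul, LinearMap.lTensor_tmul,
      LinearMap.mul'_apply, LinearMap.mul'_apply, Sant_mul, mul_assoc, mul_assoc, mul_assoc]
  | add t t' ht ht' =>
    rw [mul_add, map_add, map_add, ht, ht', map_add, map_add, mul_add, add_mul]

theorem mulS_l_central (t t' : uL p φ b ⊗[k] uL p φ b) (r : k)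
    (ht' : LinearMap.mul' k (uL p φ b) (LinearMap.lTensor (uL p φ b) (Sant p φ b) t') =
      algebraMap k (uL p φ b) r) :
    LinearMap.mul' k (uL p φ b) (LinearMap.lTensor (uL p φ b) (Sant p φ b) (t * t')) =
      r • LinearMap.mul' k (uL p φ b) (LinearMap.lTensor (uL p φ b) (Sant p φ b) t) := by
  induction t using TensorProduct.induction_on with
  | zero => simp
  | tmul a a' =>
    rw [mulS_l, ht', LinearMap.lTensor_tmul, LinearMap.mul'_apply, Algebra.algebraMap_eq_smul_one,
      mul_smul_comm, mul_one, smul_mul_assoc]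
  | add t1 t2 h1 h2 =>
    rw [add_mul, map_add, map_add, h1, h2, map_add, map_add, smul_add]

theorem antipode_r (w : uL p φ b) :
    LinearMap.mul' k (uL p φ b) (LinearMap.rTensor (uL p φ b) (Sant p φ b) (delU p φ b w)) =
      algebraMap k (uL p φ b) (epsU p φ b w) := by
  refine uL_induction p φ b (C := fun w => LinearMap.mul' k (uL p φ b)
    (LinearMap.rTensor (uL p φ b) (Sant p φ b) (delU p φ b w)) =
      algebraMap k (uL p φ b) (epsU p φ b w)) (fun r => ?_) (fun x => ?_)
    (fun a a' ha ha' => ?_) (fun a a' ha ha' => ?_) w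
  · rw [AlgHom.commutes, AlgHom.commutes, Algebra.algebraMap_eq_smul_one, map_smul, map_smul,
      Algebra.TensorProduct.one_def, LinearMap.rTensor_tmul, LinearMap.mul'_apply, Sant_one,
      mul_one, ← Algebra.algebraMap_eq_smul_one]
    rfl
  · rw [delU_iu, map_add, map_add, LinearMap.rTensor_tmul, LinearMap.rTensor_tmul,
      LinearMap.mul'_apply, LinearMap.mul'_apply, Sant_iu, Sant_one, mul_one, one_mul,
      neg_add_cancel, epsU_iu, map_zero]
  · show LinearMap.mul' k (uL p φ b)
      (LinearMap.rTensor (uL p φ b) (Sant p φ b) (delU p φ b (a * a'))) =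
      algebraMap k (uL p φ b) (epsU p φ b (a * a'))
    rw [map_mul, mulS_r_central p φ b _ _ _ ha, ha', map_mul, map_mul, Algebra.smul_def]
  · show LinearMap.mul' k (uL p φ b)
      (LinearMap.rTensor (uL p φ b) (Sant p φ b) (delU p φ b (a + a'))) =
      algebraMap k (uL p φ b) (epsU p φ b (a + a'))
    rw [map_add, map_add, map_add, ha, ha', map_add, map_add]

theorem antipode_l (w : uL p φ b) :
    LinearMap.mul' k (uL p φ b) (LinearMap.lTensor (uL p φ b) (Sant p φ b) (delU p φ b w)) =
      algebraMap k (uL p φ b) (epsU p φ b w) := by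
  refine uL_induction p φ b (C := fun w => LinearMap.mul' k (uL p φ b)
    (LinearMap.lTensor (uL p φ b) (Sant p φ b) (delU p φ b w)) =
      algebraMap k (uL p φ b) (epsU p φ b w)) (fun r => ?_) (fun x => ?_)
    (fun a a' ha ha' => ?_) (fun a a' ha ha' => ?_) w
  · rw [AlgHom.commutes, AlgHom.commutes, Algebra.algebraMap_eq_smul_one, map_smul, map_smul,
      Algebra.TensorProduct.one_def, LinearMap.lTensor_tmul, LinearMap.mul'_apply, Sant_one,
      mul_one, ← Algebra.algebraMap_eq_smul_one]
    rfl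
  · rw [delU_iu, map_add, map_add, LinearMap.lTensor_tmul, LinearMap.lTensor_tmul,
      LinearMap.mul'_apply, LinearMap.mul'_apply, Sant_iu, Sant_one, mul_one, one_mul,
      add_neg_cancel, epsU_iu, map_zero]
  · show LinearMap.mul' k (uL p φ b)
      (LinearMap.lTensor (uL p φ b) (Sant p φ b) (delU p φ b (a * a'))) =
      algebraMap k (uL p φ b) (epsU p φ b (a * a'))
    rw [map_mul, mulS_l_central p φ b _ _ _ ha', ha, map_mul (epsU p φ b),
      mul_comm (epsU p φ b a), map_mul, Algebra.smul_def]
  · show LinearMap.mul' k (uL p φ b)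
      (LinearMap.lTensor (uL p φ b) (Sant p φ b) (delU p φ b (a + a'))) =
      algebraMap k (uL p φ b) (epsU p φ b (a + a'))
    rw [map_add, map_add, map_add, ha, ha', map_add, map_add]

instance uL_hopf : HopfAlgebra k (uL p φ b) where
  antipode := Sant p φ b
  mul_antipode_rTensor_comul := LinearMap.ext fun w => antipode_r p φ b w
  mul_antipode_lTensor_comul := LinearMap.ext fun w => antipode_l p φ b w

instance uL_cocomm : Coalgebra.IsCocomm k (uL p φ b) where
  comm_comp_comul := by
    have h : (Algebra.TensorProduct.comm k (uL p φ b) (uL p φ b)).toAlgHom.comp (delU p φ b) =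
        delU p φ b := by
      apply uL_algHom_ext
      intro x
      rw [AlgHom.comp_apply, delU_iu, map_add]
      show (Algebra.TensorProduct.comm k _ _) (_ ⊗ₜ[k] _) +
        (Algebra.TensorProduct.comm k _ _) (_ ⊗ₜ[k] _) = _
      rw [Algebra.TensorProduct.comm_tmul, Algebra.TensorProduct.comm_tmul, add_comm]
    exact LinearMap.ext fun w => AlgHom.congr_fun h w

end Hopf

end

end Groth.Agent.H84.RHopf
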