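import Groth.Agent.H84.RHopf2
import Mathlib

/-!
# Primitive elements of the restricted enveloping algebra `u(L)` are the elements of `L`
-/

set_option autoImplicit false
universe u v w

namespace Groth.Agent.H84.RHopf

attribute [local instance 100] LieRing.ofAssociativeRing

open Groth.Agent.S3312 Groth.Agent.H84.RPBW
open scoped TensorProduct

noncomputable section

/-! ## list lemmas -/

section Lists
variable {n : ℕ}

theorem cons_erase_of_sorted (i : Fin n) (l : List (Fin n))
    (h : (i :: l).Pairwise (· ≤ ·)) (hi : i ∈ l) : i :: l.erase i = l := by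
  cases l with
  | nil => exact absurd hi List.not_mem_nil
  | cons a l' =>
    rw [List.pairwise_cons] at h
    have h1 : i ≤ a := h.1 a (by simp)
    have h2 : a ≤ i := by
      rcases List.mem_cons.1 hi with h' | hi'
      · exact le_of_eq h'.symm
      · exact (List.pairwise_cons.1 h.2).1 i hi'
    have h3 : a = i := le_antisymm h2 h1
    subst h3
    rw [List.erase_cons_head]

theorem single_eq_evl_cons (i j : Fin n) (s : List (Fin n)) (hs : (j :: s).Pairwise (· ≤ ·)) :
    (Finsupp.single i 1 = evl (j :: s)) ↔ (j = i ∧ s = []) := by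
  constructor
  · intro h
    have h1 : Lst (Finsupp.single i 1) = Lst (evl (j :: s)) := by rw [h]
    rw [Lst_single_one, Lst_evl _ hs.sortedLE] at h1
    obtain ⟨h2, h3⟩ := List.cons.inj h1
    exact ⟨h2.symm, h3.symm⟩
  · rintro ⟨rfl, rfl⟩
    exact (evl_singleton j).symm

theorem evl_erase (l : List (Fin n)) (i : Fin n) :
    evl (l.erase i) = evl l - Finsupp.single i 1 := by
  ext j
  rw [Finsupp.tsub_apply, evl_apply, evl_apply, Finsupp.single_apply]
  by_cases h : i = j
  · subst h
    rw [if_pos rfl, List.count_erase_self]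
  · rw [if_neg h, List.count_erase_of_ne (Ne.symm h), Nat.sub_zero]

theorem single_le_of_ne_zero (e : Fin n →₀ ℕ) (i : Fin n) (h : e i ≠ 0) :
    Finsupp.single i 1 ≤ e := by
  rw [Finsupp.le_def]
  intro j
  rw [Finsupp.single_apply]
  split_ifs with hij
  · subst hij
    exact Nat.one_le_iff_ne_zero.2 h
  · exact Nat.zero_le _

variable (p : ℕ) [hp : Fact p.Prime]

/-- sorted lists with all multiplicities `< p` -/
def Good (l : List (Fin n)) : Prop := l.Pairwise (· ≤ ·) ∧ ∀ i, l.count i < p

variable {p}

theorem Good.sublist {l l' : List (Fin n)} (hl : Good p l) (h : l'.Sublist l) : Good p l' :=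
  ⟨hl.1.sublist h, fun i => lt_of_le_of_lt (h.count_le i) (hl.2 i)⟩

variable (p)

theorem good_Lst (e : Sm p n) : Good p (Lst e.1) :=
  ⟨(Lst_sorted e.1).pairwise, fun i => by
    rw [count_Lst]
    exact lt_of_qd_eq_zero p e.1 e.2 i⟩

theorem good_nil : Good p ([] : List (Fin n)) :=
  ⟨List.Pairwise.nil, fun i => by simpa using hp.out.pos⟩

theorem qd_eq_zero_of_le (c e : Fin n →₀ ℕ) (h : c ≤ e) (he : qd p e = 0) : qd p c = 0 := by
  ext j
  rw [qd_apply, Finsupp.zero_apply]
  exact Nat.div_eq_of_lt (lt_of_le_of_lt (Finsupp.le_def.1 h j) (lt_of_qd_eq_zero p e he j))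

end Lists

section Prim
variable {k : Type u} [Field k] {L : Type v} [LieRing L] [LieAlgebra k L]
  (p : ℕ) [hp : Fact p.Prime] [CharP k p] (φ : PLie.PMap k p L)
  {n : ℕ} (b : Module.Basis (Fin n) k L)

/-- contraction of the first tensor factor against a linear form -/
def ctr (f : uL p φ b →ₗ[k] k) : uL p φ b ⊗[k] uL p φ b →ₗ[k] uL p φ b :=
  (TensorProduct.lid k (uL p φ b)).toLinearMap ∘ₗ LinearMap.rTensor (uL p φ b) f

theorem ctr_tmul (f : uL p φ b →ₗ[k] k) (a c : uL p φ b) :
    ctr p φ b f (a ⊗ₜ[k] c) = f a • c := by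
  simp [ctr]

theorem ctr_one_tmul_mul (f : uL p φ b →ₗ[k] k) (x : uL p φ b)
    (t : uL p φ b ⊗[k] uL p φ b) :
    ctr p φ b f (((1 : uL p φ b) ⊗ₜ[k] x) * t) = x * ctr p φ b f t := by
  induction t using TensorProduct.induction_on with
  | zero => simp
  | tmul a c =>
    rw [Algebra.TensorProduct.tmul_mul_tmul, one_mul, ctr_tmul, ctr_tmul, mul_smul_comm]
  | add t t' ht ht' => rw [mul_add, map_add, map_add, ht, ht', mul_add]

theorem ctr_eps_del (w : uL p φ b) :
    ctr p φ b (epsU p φ b).toLinearMap (delU p φ b w) = w := by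
  have h := Coalgebra.rTensor_counit_comul (R := k) (A := uL p φ b) w
  have h' : LinearMap.rTensor (uL p φ b) (epsU p φ b).toLinearMap (delU p φ b w) =
      (1 : k) ⊗ₜ[k] w := h
  show (TensorProduct.lid k (uL p φ b))
    (LinearMap.rTensor (uL p φ b) (epsU p φ b).toLinearMap (delU p φ b w)) = w
  rw [h', TensorProduct.lid_tmul, one_smul]

theorem epsU_monoU (s : List (Fin n)) :
    epsU p φ b (monoU p φ b s) = if s = [] then 1 else 0 := by
  cases s with
  | nil => rw [monoU_nil, map_one, if_pos rfl]
  | cons a s' => rw [monoU_cons, map_mul, epsU_iu, zero_mul, if_neg (List.cons_ne_nil a s')]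

/-- the coordinate of `b i` -/
def cdel (i : Fin n) : uL p φ b →ₗ[k] k :=
  (uB p φ b).coord ⟨Finsupp.single i 1, qd_single_one p i⟩

theorem cdel_one (i : Fin n) : cdel p φ b i 1 = 0 := by
  rw [← monoU_nil p φ b]
  unfold cdel
  rw [coord_monoU p φ b _ [] (good_nil p).1.sortedLE (good_nil p).2, if_neg]
  show ¬ Finsupp.single i 1 = evl []
  rw [evl_nil]
  exact Finsupp.single_ne_zero.2 one_ne_zero

/-- the span of tensors of monomials along sublists -/
def Sp (l : List (Fin n)) : Submodule k (uL p φ b ⊗[k] uL p φ b) :=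
  Submodule.span k {t | ∃ s₁ s₂ : List (Fin n), s₁.Sublist l ∧ s₂.Sublist l ∧
    t = monoU p φ b s₁ ⊗ₜ[k] monoU p φ b s₂}

theorem left_mul_mem (j : Fin n) (l : List (Fin n)) (t : uL p φ b ⊗[k] uL p φ b)
    (ht : t ∈ Sp p φ b l) :
    (iu p φ b (b j) ⊗ₜ[k] (1 : uL p φ b)) * t ∈ Sp p φ b (j :: l) := by
  induction ht using Submodule.span_induction with
  | mem t ht =>
    obtain ⟨s₁, s₂, h₁, h₂, rfl⟩ := ht
    rw [Algebra.TensorProduct.tmul_mul_tmul, one_mul, ← monoU_cons]
    exact Submodule.subset_span ⟨j :: s₁, s₂, List.cons_sublist_cons.2 h₁, h₂.cons j, rfl⟩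
  | zero => rw [mul_zero]; exact Submodule.zero_mem _
  | add t t' _ _ h h' => rw [mul_add]; exact Submodule.add_mem _ h h'
  | smul c t _ h => rw [mul_smul_comm]; exact Submodule.smul_mem _ c h

theorem right_mul_mem (j : Fin n) (l : List (Fin n)) (t : uL p φ b ⊗[k] uL p φ b)
    (ht : t ∈ Sp p φ b l) :
    ((1 : uL p φ b) ⊗ₜ[k] iu p φ b (b j)) * t ∈ Sp p φ b (j :: l) := by
  induction ht using Submodule.span_induction with
  | mem t ht =>
    obtain ⟨s₁, s₂, h₁, h₂, rfl⟩ := ht
    rw [Algebra.TensorProduct.tmul_mul_tmul, one_mul, ← monoU_cons]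
    exact Submodule.subset_span ⟨s₁, j :: s₂, h₁.cons j, List.cons_sublist_cons.2 h₂, rfl⟩
  | zero => rw [mul_zero]; exact Submodule.zero_mem _
  | add t t' _ _ h h' => rw [mul_add]; exact Submodule.add_mem _ h h'
  | smul c t _ h => rw [mul_smul_comm]; exact Submodule.smul_mem _ c h

theorem delU_monoU_mem (l : List (Fin n)) : delU p φ b (monoU p φ b l) ∈ Sp p φ b l := by
  induction l with
  | nil =>
    rw [monoU_nil, map_one, Algebra.TensorProduct.one_def]
    exact Submodule.subset_span ⟨[], [], List.Sublist.refl _, List.Sublist.refl _, by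
      rw [monoU_nil]⟩
  | cons j l ih =>
    rw [monoU_cons, map_mul, delU_iu, add_mul]
    exact Submodule.add_mem _ (left_mul_mem p φ b j l _ ih) (right_mul_mem p φ b j l _ ih)

theorem ctr_left (i j : Fin n) (l : List (Fin n)) (hgood : Good p (j :: l))
    (t : uL p φ b ⊗[k] uL p φ b) (ht : t ∈ Sp p φ b l) :
    ctr p φ b (cdel p φ b i) ((iu p φ b (b j) ⊗ₜ[k] (1 : uL p φ b)) * t) =
      (if j = i then (1 : k) else 0) • ctr p φ b (epsU p φ b).toLinearMap t := by
  induction ht using Submodule.span_induction with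
  | mem t ht =>
    obtain ⟨s₁, s₂, h₁, h₂, rfl⟩ := ht
    have hg : Good p (j :: s₁) := hgood.sublist (List.cons_sublist_cons.2 h₁)
    rw [Algebra.TensorProduct.tmul_mul_tmul, one_mul, ← monoU_cons, ctr_tmul, ctr_tmul]
    unfold cdel
    rw [coord_monoU p φ b _ _ hg.1.sortedLE hg.2]
    show (if Finsupp.single i 1 = evl (j :: s₁) then (1 : k) else 0) • _ = _
    rw [AlgHom.toLinearMap_apply, epsU_monoU, smul_smul]
    congr 1
    by_cases hji : j = i
    · by_cases hs : s₁ = []
      · rw [if_pos ((single_eq_evl_cons i j s₁ hg.1).2 ⟨hji, hs⟩), if_pos hji, if_pos hs,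
          mul_one]
      · rw [if_neg (fun h => hs ((single_eq_evl_cons i j s₁ hg.1).1 h).2), if_neg hs, mul_zero]
    · rw [if_neg (fun h => hji ((single_eq_evl_cons i j s₁ hg.1).1 h).1), if_neg hji, zero_mul]
  | zero => rw [mul_zero, map_zero, map_zero, smul_zero]
  | add t t' _ _ h h' => rw [mul_add, map_add, h, h', map_add, smul_add]
  | smul c t _ h => rw [mul_smul_comm, map_smul, h, map_smul, smul_comm]

/-- the "partial derivative" `∂/∂x_i` -/
def Lam (i : Fin n) : uL p φ b →ₗ[k] uL p φ b :=
  ctr p φ b (cdel p φ b i) ∘ₗ (delU p φ b).toLinearMap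

theorem Lam_apply (i : Fin n) (w : uL p φ b) :
    Lam p φ b i w = ctr p φ b (cdel p φ b i) (delU p φ b w) := rfl

theorem Lam_monoU (i : Fin n) (l : List (Fin n)) (hl : Good p l) :
    Lam p φ b i (monoU p φ b l) = ((l.count i : ℕ) : k) • monoU p φ b (l.erase i) := by
  induction l with
  | nil =>
    rw [Lam_apply, monoU_nil, map_one, Algebra.TensorProduct.one_def, ctr_tmul, cdel_one,
      zero_smul]
    simp
  | cons j l ih =>
    have hl' : Good p l := hl.sublist (List.sublist_cons_self j l)
    have ih' := ih hl'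
    have hmem := delU_monoU_mem p φ b l
    have hLam : Lam p φ b i (monoU p φ b (j :: l)) =
        (if j = i then (1 : k) else 0) • monoU p φ b l +
          iu p φ b (b j) * Lam p φ b i (monoU p φ b l) := by
      rw [Lam_apply, Lam_apply, monoU_cons, map_mul, delU_iu, add_mul, map_add,
        ctr_left p φ b i j l hl _ hmem, ctr_eps_del, ctr_one_tmul_mul]
    rw [hLam, ih']
    by_cases hji : j = i
    · subst hji
      rw [if_pos rfl, one_smul, List.count_cons_self, List.erase_cons_head, mul_smul_comm,
        ← monoU_cons]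
      by_cases hi : j ∈ l
      · rw [cons_erase_of_sorted j l hl.1 hi, Nat.cast_add, Nat.cast_one, add_smul, one_smul,
          add_comm]
      · rw [List.count_eq_zero.2 hi]
        simp
    · rw [if_neg hji, zero_smul, zero_add, List.count_cons_of_ne hji,
        List.erase_cons_tail (by simpa using hji), mul_smul_comm, ← monoU_cons]

/-- **Primitive elements of `u(L)` lie in `L`.** -/
theorem prim_mem_range (y : uL p φ b)
    (hy : delU p φ b y = y ⊗ₜ[k] 1 + 1 ⊗ₜ[k] y) : ∃ x : L, iu p φ b x = y := by
  -- `ε y = 0`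
  have heps : epsU p φ b y = 0 := by
    have h := ctr_eps_del p φ b y
    rw [hy, map_add, ctr_tmul, ctr_tmul, AlgHom.toLinearMap_apply, AlgHom.toLinearMap_apply,
      map_one, one_smul] at h
    have h2 : epsU p φ b y • (1 : uL p φ b) = 0 := add_eq_right.1 h
    rcases smul_eq_zero.1 h2 with h3 | h3
    · exact h3
    · exact absurd h3 one_ne_zero
  have hLam : ∀ i, Lam p φ b i y = cdel p φ b i y • 1 := by
    intro i
    rw [Lam_apply, hy, map_add, ctr_tmul, ctr_tmul, cdel_one, zero_smul, add_zero]
  have key : ∀ e₀ : Sm p n, (uB p φ b).repr y e₀ ≠ 0 → ∃ i, e₀.1 = Finsupp.single i 1 := by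
    intro e₀ hne
    by_contra hcon
    push_neg at hcon
    apply hne
    by_cases h0 : e₀.1 = 0
    · have hc : (uB p φ b).coord e₀ = (epsU p φ b).toLinearMap := by
        apply (uB p φ b).ext
        intro e
        rw [Module.Basis.coord_apply, Module.Basis.repr_self, Finsupp.single_apply,
          AlgHom.toLinearMap_apply, uB_eq_monoU, epsU_monoU]
        by_cases h : e = e₀
        · rw [if_pos h, if_pos]
          rw [h, h0, Lst_zero]
        · rw [if_neg h, if_neg]
          intro h'
          apply h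
          apply Subtype.ext
          rw [h0]
          apply Lst_injective
          rw [h', Lst_zero]
      rw [← Module.Basis.coord_apply, hc, AlgHom.toLinearMap_apply, heps]
    · obtain ⟨i, hi⟩ : ∃ i, e₀.1 i ≠ 0 := by
        by_contra h
        push_neg at h
        exact h0 (Finsupp.ext h)
      have hle : Finsupp.single i 1 ≤ e₀.1 := single_le_of_ne_zero e₀.1 i hi
      have hcadd : e₀.1 - Finsupp.single i 1 + Finsupp.single i 1 = e₀.1 :=
        tsub_add_cancel_of_le hle
      have hcq : qd p (e₀.1 - Finsupp.single i 1) = 0 :=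
        qd_eq_zero_of_le p _ e₀.1 tsub_le_self e₀.2
      have hcne : e₀.1 - Finsupp.single i 1 ≠ 0 := by
        intro h
        apply hcon i
        rw [← hcadd, h, zero_add]
      have hΨ : (uB p φ b).coord ⟨e₀.1 - Finsupp.single i 1, hcq⟩ ∘ₗ Lam p φ b i =
          ((e₀.1 i : ℕ) : k) • (uB p φ b).coord e₀ := by
        apply (uB p φ b).ext
        intro e
        have hgood : Good p (Lst e.1) := good_Lst p e
        have hgood' : Good p ((Lst e.1).erase i) := hgood.sublist List.erase_sublist
        rw [LinearMap.comp_apply, LinearMap.smul_apply, uB_eq_monoU,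
          Lam_monoU p φ b i _ hgood, map_smul, count_Lst,
          coord_monoU p φ b _ _ hgood'.1.sortedLE hgood'.2, evl_erase, evl_Lst, ← uB_eq_monoU,
          Module.Basis.coord_apply, Module.Basis.repr_self, Finsupp.single_apply, smul_eq_mul,
          smul_eq_mul]
        show ((e.1 i : ℕ) : k) *
            (if e₀.1 - Finsupp.single i 1 = e.1 - Finsupp.single i 1 then 1 else 0) =
          ((e₀.1 i : ℕ) : k) * (if e = e₀ then 1 else 0)
        by_cases h : e = e₀
        · rw [if_pos h, h, if_pos rfl]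
        · rw [if_neg h, mul_zero]
          by_cases hei : e.1 i = 0
          · rw [hei, Nat.cast_zero, zero_mul]
          · rw [if_neg, mul_zero]
            intro h'
            apply h
            apply Subtype.ext
            have hle' : Finsupp.single i 1 ≤ e.1 := single_le_of_ne_zero e.1 i hei
            rw [← hcadd, h', tsub_add_cancel_of_le hle']
      have h1 := LinearMap.congr_fun hΨ y
      rw [LinearMap.comp_apply, LinearMap.smul_apply, Module.Basis.coord_apply,
        Module.Basis.coord_apply, smul_eq_mul, hLam, map_smul, ← monoU_nil p φ b,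
        monoU_good p φ b [] (good_nil p).1.sortedLE (good_nil p).2, Module.Basis.repr_self,
        Finsupp.smul_apply, Finsupp.single_apply, if_neg, smul_zero] at h1
      · have h3 : ((e₀.1 i : ℕ) : k) ≠ 0 := by
          rw [Ne, CharP.cast_eq_zero_iff k p]
          exact Nat.not_dvd_of_pos_of_lt (Nat.pos_of_ne_zero hi)
            (lt_of_qd_eq_zero p e₀.1 e₀.2 i)
        exact (mul_eq_zero.1 h1.symm).resolve_left h3
      · intro h
        apply hcne
        have h' := congrArg Subtype.val h
        simp only at h'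
        rw [← h', evl_nil]
  have hspan := (uB p φ b).mem_span_repr_support y
  have hle : Submodule.span k ((uB p φ b) '' ((uB p φ b).repr y).support) ≤
      LinearMap.range (iu p φ b) := by
    rw [Submodule.span_le]
    rintro _ ⟨e₀, he₀, rfl⟩
    obtain ⟨i, hi⟩ := key e₀ (Finsupp.mem_support_iff.1 (Finset.mem_coe.1 he₀))
    refine ⟨b i, ?_⟩
    rw [← uB_single p φ b i]
    congr 1
    exact Subtype.ext hi.symm
  exact hle hspan

/-! ## `u(L)` is spanned by `1` and the right multiples of `L` -/

/-- the span of `1` and the `a * x`, `x ∈ L` -/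
def NN : Submodule k (uL p φ b) :=
  Submodule.span k ({1} ∪ {w | ∃ (a : uL p φ b) (x : L), w = a * iu p φ b x})

theorem mem_NN (w : uL p φ b) : w ∈ NN p φ b := by
  refine uL_induction p φ b (C := fun w => w ∈ NN p φ b) ?_ ?_ ?_ ?_ w
  · intro r
    rw [Algebra.algebraMap_eq_smul_one]
    exact Submodule.smul_mem _ r (Submodule.subset_span (Or.inl rfl))
  · intro x
    exact Submodule.subset_span (Or.inr ⟨1, x, (one_mul _).symm⟩)
  · intro a a' ha ha'
    show a * a' ∈ NN p φ b
    have ha'' : a' ∈ NN p φ b := ha'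
    have ha1 : a ∈ NN p φ b := ha
    clear ha'
    induction ha'' using Submodule.span_induction with
    | mem w hw =>
      rcases hw with hw | ⟨c, x, rfl⟩
      · rw [Set.mem_singleton_iff.1 hw, mul_one]
        exact ha1
      · rw [← mul_assoc]
        exact Submodule.subset_span (Or.inr ⟨a * c, x, rfl⟩)
    | zero => rw [mul_zero]; exact Submodule.zero_mem _
    | add u v _ _ hu hv => rw [mul_add]; exact Submodule.add_mem _ hu hv
    | smul r u _ hu => rw [mul_smul_comm]; exact Submodule.smul_mem _ r hu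
  · intro a a' ha ha'
    exact Submodule.add_mem _ ha ha'

theorem linear_eq_zero_of (g : uL p φ b →ₗ[k] k) (h1 : g 1 = 0)
    (h2 : ∀ (a : uL p φ b) (x : L), g (a * iu p φ b x) = 0) (w : uL p φ b) : g w = 0 := by
  have hw := mem_NN p φ b w
  induction hw using Submodule.span_induction with
  | mem w hw =>
    rcases hw with hw | ⟨c, x, rfl⟩
    · rw [Set.mem_singleton_iff.1 hw, h1]
    · exact h2 c x
  | zero => exact map_zero _
  | add u v _ _ hu hv => rw [map_add, hu, hv, add_zero]
  | smul r u _ hu => rw [map_smul, hu, smul_zero]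

end Prim

end

end Groth.Agent.H84.RHopf
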