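import Groth.Agent.H84.RHopf3
import Groth.Prelude.Def_CartDual
import Mathlib

/-!
# The dual of the restricted enveloping algebra: an infinitesimal group of height one with
Lie algebra `L`
-/

set_option autoImplicit false
universe u v w

namespace Groth.Agent.H84.RHopf

attribute [local instance 100] LieRing.ofAssociativeRing

open Groth.Agent.S3312 Groth.Agent.H84.RPBW
open scoped TensorProduct

noncomputable section

section Dual
variable {k : Type u} [Field k] {L : Type v} [LieRing L] [LieAlgebra k L]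
  (p : ℕ) [hp : Fact p.Prime] [CharP k p] (φ : PLie.PMap k p L)
  {n : ℕ} (b : Module.Basis (Fin n) k L)

/-- the dual Hopf algebra of `u(L)` -/
abbrev AA : Type (max u v) := CartDual.D k (uL p φ b)

theorem AA_ext {f g : AA p φ b} (h : ∀ w : uL p φ b, f w = g w) : f = g :=
  WithConv.ext (LinearMap.ext h)

/-- transpose of an endomorphism of `u(L)` -/
def tr (g : uL p φ b →ₗ[k] uL p φ b) : AA p φ b →ₗ[k] AA p φ b :=
  (CartDual.toDual k (uL p φ b)).symm.toLinearMap ∘ₗ g.dualMap ∘ₗ
    (CartDual.toDual k (uL p φ b)).toLinearMap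

theorem tr_apply (g : uL p φ b →ₗ[k] uL p φ b) (f : AA p φ b) (w : uL p φ b) :
    tr p φ b g f w = f (g w) := rfl

theorem conv_right_fst (f g : uL p φ b →ₗ[k] k) (y : uL p φ b)
    (t : uL p φ b ⊗[k] uL p φ b) :
    LinearMap.mul' k k (TensorProduct.map f g (t * (y ⊗ₜ[k] (1 : uL p φ b)))) =
      LinearMap.mul' k k (TensorProduct.map (f ∘ₗ LinearMap.mulRight k y) g t) := by
  induction t using TensorProduct.induction_on with
  | zero => simp
  | tmul a c =>
    rw [Algebra.TensorProduct.tmul_mul_tmul, TensorProduct.map_tmul, TensorProduct.map_tmul,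
      mul_one, LinearMap.comp_apply, LinearMap.mulRight_apply]
  | add t t' ht ht' => rw [add_mul, map_add, map_add, ht, ht', map_add, map_add]

theorem conv_right_snd (f g : uL p φ b →ₗ[k] k) (y : uL p φ b)
    (t : uL p φ b ⊗[k] uL p φ b) :
    LinearMap.mul' k k (TensorProduct.map f g (t * ((1 : uL p φ b) ⊗ₜ[k] y))) =
      LinearMap.mul' k k (TensorProduct.map f (g ∘ₗ LinearMap.mulRight k y) t) := by
  induction t using TensorProduct.induction_on with
  | zero => simp
  | tmul a c =>
    rw [Algebra.TensorProduct.tmul_mul_tmul, TensorProduct.map_tmul, TensorProduct.map_tmul,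
      mul_one, LinearMap.comp_apply, LinearMap.mulRight_apply]
  | add t t' ht ht' => rw [add_mul, map_add, map_add, ht, ht', map_add, map_add]

theorem tr_leibniz (x : L) (f g : AA p φ b) :
    tr p φ b (LinearMap.mulRight k (iu p φ b x)) (f * g) =
      tr p φ b (LinearMap.mulRight k (iu p φ b x)) f * g +
        f * tr p φ b (LinearMap.mulRight k (iu p φ b x)) g := by
  apply AA_ext
  intro w
  rw [tr_apply, LinearMap.mulRight_apply]
  show (f * g).ofConv (w * iu p φ b x) =
    (tr p φ b (LinearMap.mulRight k (iu p φ b x)) f * g +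
        f * tr p φ b (LinearMap.mulRight k (iu p φ b x)) g).ofConv w
  rw [WithConv.ofConv_add, LinearMap.add_apply, LinearMap.convMul_apply,
    LinearMap.convMul_apply, LinearMap.convMul_apply, Bialgebra.comul_mul,
    comul_eq p φ b (iu p φ b x), delU_iu, mul_add, map_add, map_add, conv_right_fst,
    conv_right_snd]
  rfl

/-- the derivation of the dual attached to `x ∈ L`: transpose of right multiplication -/
def eDer (x : L) : Derivation k (AA p φ b) (AA p φ b) :=
  Derivation.mk' (tr p φ b (LinearMap.mulRight k (iu p φ b x))) (by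
    intro f g
    rw [tr_leibniz, smul_eq_mul, smul_eq_mul, mul_comm g, add_comm])

theorem eDer_apply (x : L) (f : AA p φ b) (w : uL p φ b) :
    eDer p φ b x f w = f (w * iu p φ b x) := rfl

/-- `x ↦ D_x` as a linear map -/
def eLin : L →ₗ[k] Derivation k (AA p φ b) (AA p φ b) where
  toFun := eDer p φ b
  map_add' x y := by
    apply Derivation.ext
    intro f
    apply AA_ext
    intro w
    show f (w * iu p φ b (x + y)) = f (w * iu p φ b x) + f (w * iu p φ b y)
    rw [map_add, mul_add, map_add]
  map_smul' c x := by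
    apply Derivation.ext
    intro f
    apply AA_ext
    intro w
    show f (w * iu p φ b (c • x)) = c • f (w * iu p φ b x)
    rw [map_smul, mul_smul_comm, map_smul]

theorem eLin_apply (x : L) : eLin p φ b x = eDer p φ b x := rfl

theorem eLin_injective : Function.Injective (eLin p φ b) := by
  intro x x' h
  apply iu_injective p φ b
  rw [← sub_eq_zero]
  apply (Module.forall_dual_apply_eq_zero_iff k _).1
  intro ψ
  have h1 := congrArg (fun D : Derivation k (AA p φ b) (AA p φ b) =>
    (D (WithConv.toConv ψ)) (1 : uL p φ b)) h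
  have h2 : ψ (1 * iu p φ b x) = ψ (1 * iu p φ b x') := h1
  rw [one_mul, one_mul] at h2
  rw [map_sub, h2, sub_self]

theorem eLin_lie (x y : L) : eLin p φ b ⁅x, y⁆ = ⁅eLin p φ b x, eLin p φ b y⁆ := by
  apply Derivation.ext
  intro f
  rw [Derivation.commutator_apply]
  apply AA_ext
  intro w
  show f (w * iu p φ b ⁅x, y⁆) =
    f (w * iu p φ b x * iu p φ b y) - f (w * iu p φ b y * iu p φ b x)
  rw [iu_lie, mul_sub, map_sub, mul_assoc, mul_assoc]

theorem eDer_pow (x : L) (j : ℕ) (f : AA p φ b) (w : uL p φ b) :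
    (((eDer p φ b x).toLinearMap ^ j) f) w = f (w * iu p φ b x ^ j) := by
  induction j generalizing f w with
  | zero =>
    rw [pow_zero, pow_zero, mul_one]
    rfl
  | succ j ih =>
    rw [pow_succ, Module.End.mul_apply, ih, pow_succ, ← mul_assoc]
    rfl

theorem eLin_pmap (x : L) :
    (eLin p φ b (φ x)).toLinearMap = (eLin p φ b x).toLinearMap ^ p := by
  apply LinearMap.ext
  intro f
  apply AA_ext
  intro w
  rw [eLin_apply, eLin_apply, eDer_pow, iu_pow]
  rfl

/-! ### left invariance -/

theorem ev₂_lTensor_tr (g : uL p φ b →ₗ[k] uL p φ b) (t : AA p φ b ⊗[k] AA p φ b)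
    (a c : uL p φ b) :
    CartDual.ev₂ k (uL p φ b) (LinearMap.lTensor (AA p φ b) (tr p φ b g) t) (a ⊗ₜ[k] c) =
      CartDual.ev₂ k (uL p φ b) t (a ⊗ₜ[k] g c) := by
  induction t using TensorProduct.induction_on with
  | zero => simp
  | tmul f₁ f₂ =>
    rw [LinearMap.lTensor_tmul, CartDual.ev₂_tmul, CartDual.ev₂_tmul, tr_apply]
  | add t t' ht ht' =>
    rw [map_add, map_add, LinearMap.add_apply, ht, ht', map_add, LinearMap.add_apply]

theorem tr_mulRight_leftInv (y : uL p φ b) :
    CoalgebraStruct.comul (R := k) (A := AA p φ b) ∘ₗ tr p φ b (LinearMap.mulRight k y) =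
      LinearMap.lTensor (AA p φ b) (tr p φ b (LinearMap.mulRight k y)) ∘ₗ
        CoalgebraStruct.comul (R := k) (A := AA p φ b) := by
  apply LinearMap.ext
  intro f
  apply (CartDual.ev₂ k (uL p φ b)).injective
  apply TensorProduct.ext'
  intro a c
  rw [LinearMap.comp_apply, LinearMap.comp_apply, ev₂_lTensor_tr,
    CartDual.ev₂_coalgebra_comul_tmul, CartDual.ev₂_coalgebra_comul_tmul, tr_apply,
    LinearMap.mulRight_apply, LinearMap.mulRight_apply, mul_assoc]

theorem ev₂_lTensor_of_eval (D : AA p φ b →ₗ[k] AA p φ b) (y : uL p φ b)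
    (hy : ∀ f : AA p φ b, (D f) (1 : uL p φ b) = f y) (t : AA p φ b ⊗[k] AA p φ b)
    (a : uL p φ b) :
    CartDual.ev₂ k (uL p φ b) (LinearMap.lTensor (AA p φ b) D t) (a ⊗ₜ[k] (1 : uL p φ b)) =
      CartDual.ev₂ k (uL p φ b) t (a ⊗ₜ[k] y) := by
  induction t using TensorProduct.induction_on with
  | zero => simp
  | tmul f₁ f₂ =>
    rw [LinearMap.lTensor_tmul, CartDual.ev₂_tmul, CartDual.ev₂_tmul, hy]
  | add t t' ht ht' =>
    rw [map_add, map_add, LinearMap.add_apply, ht, ht', map_add, LinearMap.add_apply]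

theorem exists_of_leftInv (D : AA p φ b →ₗ[k] AA p φ b)
    (hD : CoalgebraStruct.comul (R := k) (A := AA p φ b) ∘ₗ D =
      LinearMap.lTensor (AA p φ b) D ∘ₗ CoalgebraStruct.comul (R := k) (A := AA p φ b)) :
    ∃ y : uL p φ b, D = tr p φ b (LinearMap.mulRight k y) := by
  let lam : Module.Dual k (Module.Dual k (uL p φ b)) :=
    (LinearMap.applyₗ (1 : uL p φ b)) ∘ₗ (CartDual.toDual k (uL p φ b)).toLinearMap ∘ₗ D ∘ₗ
      (CartDual.toDual k (uL p φ b)).symm.toLinearMap
  obtain ⟨y, hy⟩ := (Module.evalEquiv k (uL p φ b)).surjective lam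
  have hy' : ∀ f : AA p φ b, (D f) (1 : uL p φ b) = f y := by
    intro f
    have h := LinearMap.congr_fun hy f.ofConv
    rw [Module.evalEquiv_apply, Module.Dual.eval_apply] at h
    exact h.symm
  refine ⟨y, ?_⟩
  apply LinearMap.ext
  intro f
  apply AA_ext
  intro a
  have h1 := LinearMap.congr_fun hD f
  have h2 := congrArg (fun t => CartDual.ev₂ k (uL p φ b) t (a ⊗ₜ[k] (1 : uL p φ b))) h1
  simp only [LinearMap.comp_apply] at h2
  rw [CartDual.ev₂_coalgebra_comul_tmul, mul_one, ev₂_lTensor_of_eval p φ b D y hy',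
    CartDual.ev₂_coalgebra_comul_tmul] at h2
  rw [h2, tr_apply, LinearMap.mulRight_apply]

theorem prim_of_derivation (y : uL p φ b)
    (hder : ∀ f g : AA p φ b, (f * g) y = f y * g (1 : uL p φ b) + f (1 : uL p φ b) * g y) :
    delU p φ b y = y ⊗ₜ[k] 1 + 1 ⊗ₜ[k] y := by
  have key : ∀ t : AA p φ b ⊗[k] AA p φ b,
      CartDual.ev₂ k (uL p φ b) t (delU p φ b y) =
        CartDual.ev₂ k (uL p φ b) t (y ⊗ₜ[k] 1) + CartDual.ev₂ k (uL p φ b) t (1 ⊗ₜ[k] y) := by
    intro t
    induction t using TensorProduct.induction_on with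
    | zero => simp
    | tmul f g =>
      rw [CartDual.ev₂_tmul, CartDual.ev₂_tmul, ← hder f g, CartDual.ev₂_tmul_eq',
        LinearMap.convMul_apply]
      rfl
    | add t t' ht ht' =>
      rw [map_add]
      simp only [LinearMap.add_apply]
      rw [ht, ht']
      abel
  rw [← sub_eq_zero]
  apply (Module.forall_dual_apply_eq_zero_iff k _).1
  intro ψ
  obtain ⟨t, rfl⟩ := (CartDual.ev₂ k (uL p φ b)).surjective ψ
  rw [map_sub, map_add, key, sub_self]

/-! ### Frobenius kills the augmentation ideal -/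

theorem pow_eq_zero_of_counit (f : AA p φ b) (hf : f (1 : uL p φ b) = 0) : f ^ p = 0 := by
  apply AA_ext
  intro w
  have h1 : (f ^ p) (1 : uL p φ b) = 0 := by
    have h' := map_pow (Bialgebra.counitAlgHom k (AA p φ b)) f p
    have e1 : Bialgebra.counitAlgHom k (AA p φ b) (f ^ p) = (f ^ p) (1 : uL p φ b) := rfl
    have e2 : Bialgebra.counitAlgHom k (AA p φ b) f = f (1 : uL p φ b) := rfl
    rw [e1, e2, hf, zero_pow hp.out.ne_zero] at h'
    exact h'
  have h2 : ∀ (a : uL p φ b) (x : L), (f ^ p) (a * iu p φ b x) = 0 := by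
    intro a x
    have hD := (eDer p φ b x).leibniz_pow f p
    have hz : eDer p φ b x (f ^ p) = 0 := by
      rw [hD, ← Nat.cast_smul_eq_nsmul k, CharP.cast_eq_zero k p, zero_smul]
    exact congrArg (fun g : AA p φ b => g a) hz
  exact linear_eq_zero_of p φ b (f ^ p).ofConv h1 h2 w

/-! ### the range -/

theorem eLin_range :
    Set.range (eLin p φ b) = {D : Derivation k (AA p φ b) (AA p φ b) |
      CoalgebraStruct.comul (R := k) (A := AA p φ b) ∘ₗ D.toLinearMap =
        LinearMap.lTensor (AA p φ b) D.toLinearMap ∘ₗ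
          CoalgebraStruct.comul (R := k) (A := AA p φ b)} := by
  ext D
  constructor
  · rintro ⟨x, rfl⟩
    exact tr_mulRight_leftInv p φ b (iu p φ b x)
  · intro hD
    obtain ⟨y, hy⟩ := exists_of_leftInv p φ b D.toLinearMap hD
    have hDh : ∀ h : AA p φ b, (D h) (1 : uL p φ b) = h y := by
      intro h
      have h3 : D h = tr p φ b (LinearMap.mulRight k y) h := LinearMap.congr_fun hy h
      rw [h3, tr_apply, LinearMap.mulRight_apply, one_mul]
    have h4 : ∀ u v : AA p φ b, (u * v) (1 : uL p φ b) = u 1 * v 1 := by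
      intro u v
      show (u * v).ofConv (1 : uL p φ b) = _
      rw [LinearMap.convMul_apply, Bialgebra.comul_one, Algebra.TensorProduct.one_def,
        TensorProduct.map_tmul, LinearMap.mul'_apply]
    have hder : ∀ f g : AA p φ b,
        (f * g) y = f y * g (1 : uL p φ b) + f (1 : uL p φ b) * g y := by
      intro f g
      have h1 := D.leibniz f g
      have h5 : (D (f * g)) (1 : uL p φ b) = (f * D g) 1 + (g * D f) 1 :=
        congrArg (fun h : AA p φ b => h (1 : uL p φ b)) h1
      rw [hDh, h4, h4, hDh, hDh] at h5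
      rw [h5]
      ring
    have hprim := prim_of_derivation p φ b y hder
    obtain ⟨x, hx⟩ := prim_mem_range p φ b y hprim
    refine ⟨x, ?_⟩
    apply Derivation.ext
    intro f
    have h6 : D f = tr p φ b (LinearMap.mulRight k y) f := LinearMap.congr_fun hy f
    rw [h6, ← hx]
    rfl

/-- **Main theorem**: the dual of `u(L)` is a finite commutative Hopf algebra of height `≤ 1`
whose left-invariant derivations form the restricted Lie algebra `L`. -/
theorem main (b : Module.Basis (Fin n) k L) :
    ∃ (A : Type (max u v)) (_ : CommRing A) (_ : HopfAlgebra k A), Module.Finite k A ∧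
      (∀ f : A, Bialgebra.counitAlgHom k A f = 0 → f ^ p = 0) ∧
      ∃ e : L →ₗ[k] Derivation k A A, Function.Injective e ∧
        Set.range e = {D : Derivation k A A |
          CoalgebraStruct.comul (R := k) (A := A) ∘ₗ D.toLinearMap =
            LinearMap.lTensor A D.toLinearMap ∘ₗ CoalgebraStruct.comul (R := k) (A := A)} ∧
        (∀ x y : L, e ⁅x, y⁆ = ⁅e x, e y⁆) ∧
        (∀ x : L, (e (φ x)).toLinearMap = (e x).toLinearMap ^ p) :=
  ⟨AA p φ b, inferInstance, inferInstance, inferInstance,
    fun f hf => pow_eq_zero_of_counit p φ b f hf,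
    eLin p φ b, eLin_injective p φ b, eLin_range p φ b, eLin_lie p φ b, eLin_pmap p φ b⟩

end Dual

end

end Groth.Agent.H84.RHopf
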