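import Groth.Agent.S3312
import Groth.Agent.H84.Jacobson
import Mathlib

/-!
# Restricted PBW: the restricted enveloping algebra `u(L) = U(L)/(x^p - x^[p])`

Built on top of the PBW basis of `Groth.Agent.S3312` (helper20) and Jacobson's formula
(`Groth.Agent.H84.Jacobson`).  Main output: `exists_restricted_rep`, a faithful finite-dimensional
restricted representation of a finite-dimensional restricted Lie algebra.
-/

set_option autoImplicit false
universe u v

namespace Groth.Agent.H84.RPBW

attribute [local instance 100] LieRing.ofAssociativeRing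

open Groth.Agent.S3312

noncomputable section

/-! ## exponent vectors and sorted lists -/

section Lists
variable {n : ℕ}

/-- the sorted list attached to an exponent vector -/
def Lst (e : Fin n →₀ ℕ) : List (Fin n) := (Finsupp.toMultiset e).sort (· ≤ ·)

theorem Lst_sorted (e : Fin n →₀ ℕ) : (Lst e).SortedLE :=
  (Multiset.pairwise_sort (Finsupp.toMultiset e) (· ≤ ·)).sortedLE

theorem coe_Lst (e : Fin n →₀ ℕ) :
    ((Lst e : List (Fin n)) : Multiset (Fin n)) = Finsupp.toMultiset e :=
  Multiset.sort_eq _ _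

/-- total degree -/
def deg (e : Fin n →₀ ℕ) : ℕ := Multiset.card (Finsupp.toMultiset e)

theorem length_Lst (e : Fin n →₀ ℕ) : (Lst e).length = deg e :=
  Multiset.length_sort _

theorem deg_add (e f : Fin n →₀ ℕ) : deg (e + f) = deg e + deg f := by
  simp [deg]

theorem deg_zero : deg (0 : Fin n →₀ ℕ) = 0 := by simp [deg]

theorem deg_single (i : Fin n) (m : ℕ) : deg (Finsupp.single i m) = m := by
  simp [deg, Finsupp.toMultiset_single]

theorem deg_nsmul (m : ℕ) (e : Fin n →₀ ℕ) : deg (m • e) = m * deg e := by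
  simp [deg]

/-- sorted lists are the same as exponent vectors -/
def slEquiv : SL (Fin n) ≃ (Fin n →₀ ℕ) where
  toFun l := Multiset.toFinsupp (l.1 : Multiset (Fin n))
  invFun e := ⟨Lst e, Lst_sorted e⟩
  left_inv l := by
    apply Subtype.ext
    show Lst (Multiset.toFinsupp (l.1 : Multiset (Fin n))) = l.1
    refine List.Perm.eq_of_sortedLE (Lst_sorted _) l.2 ?_
    rw [← Multiset.coe_eq_coe, coe_Lst, Multiset.toFinsupp_toMultiset]
  right_inv e := by
    show Multiset.toFinsupp ((Lst e : List (Fin n)) : Multiset (Fin n)) = e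
    rw [coe_Lst, Finsupp.toMultiset_toFinsupp]

theorem Lst_zero : Lst (0 : Fin n →₀ ℕ) = [] := by
  simp [Lst]

theorem Lst_single_one (i : Fin n) : Lst (Finsupp.single i 1) = [i] := by
  simp [Lst, Finsupp.toMultiset_single]

end Lists

/-! ## the PBW basis indexed by exponent vectors, and the degree filtration -/

section PBW
variable {k : Type u} [Field k] {L : Type v} [LieRing L] [LieAlgebra k L] {n : ℕ}
  (b : Module.Basis (Fin n) k L)

/-- ordered monomial -/
def Xm (e : Fin n →₀ ℕ) : UniversalEnvelopingAlgebra k L := mono b (Lst e)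

/-- the PBW basis indexed by exponent vectors -/
def pbw : Module.Basis (Fin n →₀ ℕ) k (UniversalEnvelopingAlgebra k L) :=
  (Classical.choose (Groth.Agent.S3312.result k L (Fin n) b)).reindex slEquiv

theorem pbw_apply (e : Fin n →₀ ℕ) : pbw b e = Xm b e := by
  unfold pbw
  rw [Module.Basis.reindex_apply,
    (Classical.choose_spec (Groth.Agent.S3312.result k L (Fin n) b))]
  rfl

/-- the degree filtration: span of ordered monomials of degree `< d` -/
def G (d : ℕ) : Submodule k (UniversalEnvelopingAlgebra k L) :=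
  Submodule.span k {u | ∃ e : Fin n →₀ ℕ, deg e < d ∧ u = Xm b e}

theorem G_mono {d d' : ℕ} (h : d ≤ d') : G b d ≤ G b d' :=
  Submodule.span_mono (fun _ ⟨e, he, hu⟩ => ⟨e, lt_of_lt_of_le he h, hu⟩)

theorem Xm_mem_G (e : Fin n →₀ ℕ) {d : ℕ} (h : deg e < d) : Xm b e ∈ G b d :=
  Submodule.subset_span ⟨e, h, rfl⟩

theorem G_zero : G b 0 = ⊥ :=
  Submodule.span_eq_bot.mpr (fun _ ⟨_, he, _⟩ => absurd he (Nat.not_lt_zero _))

theorem Wn_le_G : ∀ m, Wn b m ≤ G b (m + 1)
  | 0 => Submodule.span_le.2 (by
      rintro _ ⟨l, hl, rfl⟩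
      have h1 : l = [] := List.length_eq_zero_iff.1 (Nat.le_zero.1 hl)
      subst h1
      have h2 : mono b ([] : List (Fin n)) = Xm b 0 := by
        unfold Xm; rw [Lst_zero]
      rw [h2]
      exact Xm_mem_G b 0 (by rw [deg_zero]; exact Nat.one_pos))
  | m + 1 => Submodule.span_le.2 (by
      rintro _ ⟨l, hl, rfl⟩
      have hperm : l.Perm (Lst (Multiset.toFinsupp (l : Multiset (Fin n)))) := by
        rw [← Multiset.coe_eq_coe, coe_Lst, Multiset.toFinsupp_toMultiset]
      have h1 := perm_mem b hperm m hl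
      have h2 := Wn_le_G m h1
      have hdeg : deg (Multiset.toFinsupp (l : Multiset (Fin n))) = l.length := by
        rw [← length_Lst, ← hperm.length_eq]
      have h3 : Xm b (Multiset.toFinsupp (l : Multiset (Fin n))) ∈ G b (m + 1 + 1) :=
        Xm_mem_G b _ (by omega)
      have h4 := Submodule.add_mem _ (G_mono b (Nat.le_succ _) h2) h3
      rwa [Xm, sub_add_cancel] at h4)

theorem G_le_Wn (d : ℕ) : G b (d + 1) ≤ Wn b d :=
  Submodule.span_le.2 (by
    rintro _ ⟨e, he, rfl⟩
    exact Submodule.subset_span ⟨Lst e, by rw [length_Lst]; omega, rfl⟩)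

theorem iota_mul_G (d : ℕ) (x : L) (u : UniversalEnvelopingAlgebra k L) (hu : u ∈ G b d) :
    UniversalEnvelopingAlgebra.ι k x * u ∈ G b (d + 1) := by
  cases d with
  | zero =>
    rw [G_zero] at hu
    rw [(Submodule.mem_bot k).1 hu, mul_zero]
    exact Submodule.zero_mem _
  | succ d => exact Wn_le_G b (d + 1) (iota_mul_mem b d x u (G_le_Wn b d hu))

theorem iota_pow_mul_G (d : ℕ) (x : L) (j : ℕ) (u : UniversalEnvelopingAlgebra k L)
    (hu : u ∈ G b d) : UniversalEnvelopingAlgebra.ι k x ^ j * u ∈ G b (d + j) := by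
  induction j with
  | zero => simpa using hu
  | succ j ih =>
    rw [pow_succ', mul_assoc, ← add_assoc]
    exact iota_mul_G b _ x _ ih

theorem exists_mem_G (u : UniversalEnvelopingAlgebra k L) : ∃ d, u ∈ G b d := by
  have hu : u ∈ Submodule.span k (Set.range (pbw b)) := by
    rw [(pbw b).span_eq]; exact Submodule.mem_top
  induction hu using Submodule.span_induction with
  | mem u hu =>
    obtain ⟨e, rfl⟩ := hu
    exact ⟨deg e + 1, by rw [pbw_apply]; exact Xm_mem_G b e (Nat.lt_succ_self _)⟩
  | zero => exact ⟨0, Submodule.zero_mem _⟩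
  | add u v _ _ hu hv =>
    obtain ⟨d, hd⟩ := hu
    obtain ⟨d', hd'⟩ := hv
    exact ⟨max d d', Submodule.add_mem _ (G_mono b (le_max_left _ _) hd)
      (G_mono b (le_max_right _ _) hd')⟩
  | smul c u _ hu =>
    obtain ⟨d, hd⟩ := hu
    exact ⟨d, Submodule.smul_mem _ c hd⟩

theorem mono_replicate_append (i : Fin n) (j : ℕ) (l : List (Fin n)) :
    mono b (List.replicate j i ++ l) = UniversalEnvelopingAlgebra.ι k (b i) ^ j * mono b l := by
  induction j with
  | zero => simp
  | succ j ih =>
    rw [List.replicate_succ, List.cons_append, mono_cons, ih, pow_succ', mul_assoc]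

end PBW

/-! ## the central elements `x^p - x^[p]` -/

section Central
variable {k : Type u} [Field k] {L : Type v} [LieRing L] [LieAlgebra k L]
  (p : ℕ) [hp : Fact p.Prime] [CharP k p] (φ : PLie.PMap k p L)

/-- the canonical map `L → U(L)` as a linear map -/
def iL : L →ₗ[k] UniversalEnvelopingAlgebra k L :=
  ((UniversalEnvelopingAlgebra.ι k : L →ₗ⁅k⁆ UniversalEnvelopingAlgebra k L) :
    L →ₗ[k] UniversalEnvelopingAlgebra k L)

theorem iL_apply (x : L) : (iL : L →ₗ[k] _) x = UniversalEnvelopingAlgebra.ι k x := rfl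

theorem iL_lie (x y : L) :
    (iL : L →ₗ[k] UniversalEnvelopingAlgebra k L) ⁅x, y⁆ = iL x * iL y - iL y * iL x := by
  rw [iL_apply, iL_apply, iL_apply, LieHom.map_lie]
  rfl

/-- `ξ(x) = x^p - x^[p]` -/
def xi (x : L) : UniversalEnvelopingAlgebra k L :=
  (iL : L →ₗ[k] UniversalEnvelopingAlgebra k L) x ^ p - iL (φ x)

theorem xi_add (x y : L) : xi p φ (x + y) = xi p φ x + xi p φ y := by
  unfold xi
  rw [map_add, Jac.add_pow_map p (iL : L →ₗ[k] UniversalEnvelopingAlgebra k L) iL_lie,
    φ.map_add, map_sub, map_add]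
  abel

theorem xi_smul (c : k) (x : L) : xi p φ (c • x) = c ^ p • xi p φ x := by
  unfold xi
  rw [map_smul, smul_pow, φ.map_smul, map_smul, smul_sub]

theorem xi_zero : xi p φ (0 : L) = 0 := by
  have := xi_smul p φ (0 : k) (0 : L)
  rw [zero_smul, zero_pow hp.out.ne_zero, zero_smul] at this
  exact this

theorem xi_comm_iL (x w : L) :
    xi p φ x * (iL : L →ₗ[k] UniversalEnvelopingAlgebra k L) w = iL w * xi p φ x := by
  have h1 := Jac.map_ad_pow p (iL : L →ₗ[k] UniversalEnvelopingAlgebra k L) iL_lie x w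
  have h2 : (LieAlgebra.ad k L x ^ p) w = ⁅φ x, w⁆ := by rw [← φ.ad_map x]; rfl
  rw [h2, iL_lie] at h1
  unfold xi
  rw [sub_mul, mul_sub]
  have h3 : iL x ^ p * iL w - iL (φ x) * iL w - (iL w * iL x ^ p - iL w * iL (φ x)) =
      -((iL (φ x) * iL w - iL w * iL (φ x)) -
        ((iL : L →ₗ[k] UniversalEnvelopingAlgebra k L) x ^ p * iL w - iL w * iL x ^ p)) := by
    abel
  rw [← sub_eq_zero, h3, h1, sub_self, neg_zero]

theorem xi_central (x : L) (u : UniversalEnvelopingAlgebra k L) :
    xi p φ x * u = u * xi p φ x := by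
  have key : ∀ a : TensorAlgebra k L,
      xi p φ x * UniversalEnvelopingAlgebra.mkAlgHom k L a =
        UniversalEnvelopingAlgebra.mkAlgHom k L a * xi p φ x := by
    intro a
    induction a using TensorAlgebra.induction with
    | algebraMap r =>
      rw [AlgHom.commutes]
      exact (Algebra.commutes r _).symm
    | ι y => exact xi_comm_iL p φ x y
    | mul a a' ha ha' =>
      rw [map_mul, ← mul_assoc, ha, mul_assoc, ha', mul_assoc]
    | add a a' ha ha' =>
      rw [map_add, mul_add, add_mul, ha, ha']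
  obtain ⟨a, rfl⟩ := RingCon.mkₐ_surjective (α := k) (UniversalEnvelopingAlgebra.ringCon k L) u
  exact key a

variable {n : ℕ} (b : Module.Basis (Fin n) k L)

/-- `ξ(b i)` as an element of the centre -/
def zc (i : Fin n) : Subalgebra.center k (UniversalEnvelopingAlgebra k L) :=
  ⟨xi p φ (b i), by
    rw [Subalgebra.mem_center_iff]
    intro u
    exact (xi_central p φ (b i) u).symm⟩

/-- the algebra map from the polynomial ring in the `ξ(b i)` -/
def zeta : MvPolynomial (Fin n) k →ₐ[k] UniversalEnvelopingAlgebra k L :=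
  (Subalgebra.center k (UniversalEnvelopingAlgebra k L)).val.comp
    (MvPolynomial.aeval (zc p φ b))

theorem zeta_X (i : Fin n) : zeta p φ b (MvPolynomial.X i) = xi p φ (b i) := by
  unfold zeta
  rw [AlgHom.comp_apply, MvPolynomial.aeval_X]
  rfl

theorem zeta_comm (P : MvPolynomial (Fin n) k) (u : UniversalEnvelopingAlgebra k L) :
    zeta p φ b P * u = u * zeta p φ b P := by
  have h := (MvPolynomial.aeval (zc p φ b) P).2
  rw [Subalgebra.mem_center_iff] at h
  exact (h u).symm

theorem zeta_monomial_single_add (i : Fin n) (c : Fin n →₀ ℕ) :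
    zeta p φ b (MvPolynomial.monomial (Finsupp.single i 1 + c) 1) =
      xi p φ (b i) * zeta p φ b (MvPolynomial.monomial c 1) := by
  rw [MvPolynomial.monomial_single_add, pow_one, map_mul, zeta_X]

/-! ## triangularity -/

theorem tri_step (c : Fin n →₀ ℕ) (i : Fin n)
    (hc : ∀ a : Fin n →₀ ℕ, zeta p φ b (MvPolynomial.monomial c 1) * Xm b a - Xm b (p • c + a) ∈
      G b (p * deg c + deg a)) :
    ∀ a : Fin n →₀ ℕ,
      zeta p φ b (MvPolynomial.monomial (Finsupp.single i 1 + c) 1) * Xm b a -
        Xm b (p • (Finsupp.single i 1 + c) + a) ∈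
      G b (p * deg (Finsupp.single i 1 + c) + deg a) := by
  intro a
  have hp2 : 2 ≤ p := hp.out.two_le
  set e' : Fin n →₀ ℕ := p • c + a with he'
  set D : ℕ := p * deg c + deg a with hD
  have hdeg' : deg e' = D := by rw [he', deg_add, deg_nsmul]
  have hDtarget : p * deg (Finsupp.single i 1 + c) + deg a = D + p := by
    rw [deg_add, deg_single, hD]; ring
  rw [hDtarget]
  set g := zeta p φ b (MvPolynomial.monomial c 1) * Xm b a - Xm b e' with hg
  have hgmem : g ∈ G b D := hc a
  have hprod : zeta p φ b (MvPolynomial.monomial c 1) * Xm b a = Xm b e' + g := by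
    rw [hg]; abel
  set x := UniversalEnvelopingAlgebra.ι k (b i) with hx
  set y := UniversalEnvelopingAlgebra.ι k (φ (b i)) with hy
  have hxi : xi p φ (b i) = x ^ p - y := rfl
  set e'' : Fin n →₀ ℕ := p • (Finsupp.single i 1 + c) + a with he''
  -- the leading term
  have hE : e'' = Finsupp.single i p + e' := by
    rw [he'', he', smul_add, add_assoc, Finsupp.smul_single, smul_eq_mul, mul_one]
  have hperm : (List.replicate p i ++ Lst e').Perm (Lst e'') := by
    rw [← Multiset.coe_eq_coe, ← Multiset.coe_add, coe_Lst, coe_Lst, hE,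
      map_add Finsupp.toMultiset (Finsupp.single i p) e',
      Finsupp.toMultiset_single, Multiset.nsmul_singleton, Multiset.coe_replicate]
  have hlen : (List.replicate p i ++ Lst e').length ≤ (D + p - 1) + 1 := by
    rw [List.length_append, List.length_replicate, length_Lst, hdeg']; omega
  have h1 : x ^ p * Xm b e' - Xm b e'' ∈ G b (D + p) := by
    have h := perm_mem b hperm (D + p - 1) hlen
    rw [mono_replicate_append] at h
    have h' := Wn_le_G b (D + p - 1) h
    have hDp : D + p - 1 + 1 = D + p := by omega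
    rw [hDp] at h'
    exact h'
  have hXm : Xm b e' ∈ G b (D + 1) := Xm_mem_G b e' (by rw [hdeg']; exact Nat.lt_succ_self _)
  have h2 : y * Xm b e' ∈ G b (D + p) :=
    G_mono b (by omega) (iota_mul_G b (D + 1) (φ (b i)) _ hXm)
  have h3 : x ^ p * g ∈ G b (D + p) := iota_pow_mul_G b D (b i) p g hgmem
  have h4 : y * g ∈ G b (D + p) :=
    G_mono b (by omega) (iota_mul_G b D (φ (b i)) g hgmem)
  have hfin : zeta p φ b (MvPolynomial.monomial (Finsupp.single i 1 + c) 1) * Xm b a - Xm b e'' =
      (x ^ p * Xm b e' - Xm b e'') - y * Xm b e' + x ^ p * g - y * g := by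
    rw [zeta_monomial_single_add, mul_assoc, hprod, hxi, sub_mul, mul_add, mul_add]
    abel
  rw [hfin]
  exact Submodule.sub_mem _ (Submodule.add_mem _ (Submodule.sub_mem _ h1 h2) h3) h4

theorem tri_single (c : Fin n →₀ ℕ) (i : Fin n) (m : ℕ)
    (hc : ∀ a : Fin n →₀ ℕ, zeta p φ b (MvPolynomial.monomial c 1) * Xm b a - Xm b (p • c + a) ∈
      G b (p * deg c + deg a)) :
    ∀ a : Fin n →₀ ℕ,
      zeta p φ b (MvPolynomial.monomial (Finsupp.single i m + c) 1) * Xm b a -
        Xm b (p • (Finsupp.single i m + c) + a) ∈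
      G b (p * deg (Finsupp.single i m + c) + deg a) := by
  induction m with
  | zero =>
    intro a
    rw [Finsupp.single_zero, zero_add]
    exact hc a
  | succ m ihm =>
    have hsplit : Finsupp.single i (m + 1) + c =
        Finsupp.single i 1 + (Finsupp.single i m + c) := by
      rw [← add_assoc, ← Finsupp.single_add, add_comm 1 m]
    rw [hsplit]
    exact tri_step p φ b _ i ihm

theorem tri (c a : Fin n →₀ ℕ) :
    zeta p φ b (MvPolynomial.monomial c 1) * Xm b a - Xm b (p • c + a) ∈
      G b (p * deg c + deg a) := by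
  induction c using Finsupp.induction generalizing a with
  | zero =>
    have h1 : zeta p φ b (MvPolynomial.monomial (0 : Fin n →₀ ℕ) 1) = 1 := by
      rw [show (MvPolynomial.monomial (0 : Fin n →₀ ℕ) (1 : k)) = 1 from rfl, map_one]
    rw [h1, one_mul, smul_zero, zero_add, sub_self]
    exact Submodule.zero_mem _
  | single_add i m c _ _ ih =>
    exact tri_single p φ b c i m (fun a' => ih a') a

/-- quotient and remainder of an exponent vector by `p` -/
def qd (e : Fin n →₀ ℕ) : Fin n →₀ ℕ := Finsupp.mapRange (· / p) (Nat.zero_div p) e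

def rm (e : Fin n →₀ ℕ) : Fin n →₀ ℕ := Finsupp.mapRange (· % p) (Nat.zero_mod p) e

theorem qd_apply (e : Fin n →₀ ℕ) (i : Fin n) : qd p e i = e i / p := rfl

theorem rm_apply (e : Fin n →₀ ℕ) (i : Fin n) : rm p e i = e i % p := rfl

theorem qd_add_rm (e : Fin n →₀ ℕ) : p • qd p e + rm p e = e := by
  ext i
  simp only [Finsupp.coe_add, Finsupp.coe_smul, Pi.add_apply, Pi.smul_apply, qd_apply, rm_apply,
    smul_eq_mul]
  exact Nat.div_add_mod _ _

/-- the modified monomials `ξ^{e / p} X^{e % p}` -/
def mp (e : Fin n →₀ ℕ) : UniversalEnvelopingAlgebra k L :=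
  zeta p φ b (MvPolynomial.monomial (qd p e) 1) * Xm b (rm p e)

theorem mp_sub_mem (e : Fin n →₀ ℕ) : mp p φ b e - Xm b e ∈ G b (deg e) := by
  have h := tri p φ b (qd p e) (rm p e)
  rw [qd_add_rm] at h
  have hd : p * deg (qd p e) + deg (rm p e) = deg e := by
    conv_rhs => rw [← qd_add_rm p e, deg_add, deg_nsmul]
  rw [hd] at h
  exact h

/-- the linear map `X^e ↦ ξ^{e/p} X^{e%p}` -/
def T : UniversalEnvelopingAlgebra k L →ₗ[k] UniversalEnvelopingAlgebra k L :=
  (pbw b).constr k (mp p φ b)

theorem T_Xm (e : Fin n →₀ ℕ) : T p φ b (Xm b e) = mp p φ b e := by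
  rw [← pbw_apply, T, Module.Basis.constr_basis]

theorem T_sub_mem (d : ℕ) (u : UniversalEnvelopingAlgebra k L) (hu : u ∈ G b (d + 1)) :
    T p φ b u - u ∈ G b d := by
  induction hu using Submodule.span_induction with
  | mem u hu =>
    obtain ⟨e, he, rfl⟩ := hu
    rw [T_Xm]
    exact G_mono b (by omega) (mp_sub_mem p φ b e)
  | zero => rw [map_zero, sub_zero]; exact Submodule.zero_mem _
  | add u v _ _ hu hv =>
    have : T p φ b (u + v) - (u + v) = (T p φ b u - u) + (T p φ b v - v) := by
      rw [map_add]; abel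
    rw [this]
    exact Submodule.add_mem _ hu hv
  | smul c u _ hu =>
    rw [map_smul, ← smul_sub]
    exact Submodule.smul_mem _ c hu

theorem T_inj_aux : ∀ (d : ℕ) (u : UniversalEnvelopingAlgebra k L), u ∈ G b d →
    T p φ b u = 0 → u = 0
  | 0, u, hu, _ => by
    rw [G_zero] at hu
    exact (Submodule.mem_bot k).1 hu
  | d + 1, u, hu, hT => by
    have h := T_sub_mem p φ b d u hu
    rw [hT, zero_sub] at h
    have hu' : u ∈ G b d := by
      have := Submodule.neg_mem _ h
      rwa [neg_neg] at this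
    exact T_inj_aux d u hu' hT

theorem T_injective : Function.Injective (T p φ b) := by
  rw [← LinearMap.ker_eq_bot, Submodule.eq_bot_iff]
  intro u hu
  obtain ⟨d, hd⟩ := exists_mem_G b u
  exact T_inj_aux p φ b d u hd hu

theorem G_le_range : ∀ d, G b d ≤ LinearMap.range (T p φ b)
  | 0 => by rw [G_zero]; exact bot_le
  | d + 1 => Submodule.span_le.2 (by
      rintro _ ⟨e, he, rfl⟩
      have h1 : mp p φ b e ∈ LinearMap.range (T p φ b) := ⟨Xm b e, T_Xm p φ b e⟩
      have h2 : mp p φ b e - Xm b e ∈ LinearMap.range (T p φ b) :=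
        G_le_range d (G_mono b (by omega) (mp_sub_mem p φ b e))
      have := Submodule.sub_mem _ h1 h2
      rwa [sub_sub_cancel] at this)

theorem T_surjective : Function.Surjective (T p φ b) := by
  intro u
  obtain ⟨d, hd⟩ := exists_mem_G b u
  exact G_le_range p φ b d hd

/-- the basis `ξ^{e/p} X^{e%p}` of `U(L)` -/
def mpB : Module.Basis (Fin n →₀ ℕ) k (UniversalEnvelopingAlgebra k L) :=
  (pbw b).map (LinearEquiv.ofBijective (T p φ b) ⟨T_injective p φ b, T_surjective p φ b⟩)

theorem mpB_apply (e : Fin n →₀ ℕ) : mpB p φ b e = mp p φ b e := by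
  unfold mpB
  rw [Module.Basis.map_apply, LinearEquiv.ofBijective_apply, pbw_apply, T_Xm]

/-! ## the ideal `J` and the quotient module -/

/-- the span of the `ξ^c X^a` with `c ≠ 0` -/
def J : Submodule k (UniversalEnvelopingAlgebra k L) :=
  Submodule.span k {u | ∃ e : Fin n →₀ ℕ, qd p e ≠ 0 ∧ u = mp p φ b e}

theorem qd_add_single (f : Fin n →₀ ℕ) (i : Fin n) :
    qd p (f + Finsupp.single i p) = Finsupp.single i 1 + qd p f := by
  have hp0 : 0 < p := hp.out.pos
  ext j
  simp only [qd_apply, Finsupp.coe_add, Pi.add_apply, Finsupp.single_apply]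
  split_ifs with h
  · rw [Nat.add_div_right _ hp0]; omega
  · simp

theorem rm_add_single (f : Fin n →₀ ℕ) (i : Fin n) :
    rm p (f + Finsupp.single i p) = rm p f := by
  ext j
  simp only [rm_apply, Finsupp.coe_add, Pi.add_apply, Finsupp.single_apply]
  split_ifs with h
  · rw [Nat.add_mod_right]
  · simp

theorem xi_mul_mp (i : Fin n) (f : Fin n →₀ ℕ) :
    xi p φ (b i) * mp p φ b f = mp p φ b (f + Finsupp.single i p) := by
  unfold mp
  rw [qd_add_single, rm_add_single, zeta_monomial_single_add, mul_assoc]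

theorem xi_basis_mul_mem (i : Fin n) (u : UniversalEnvelopingAlgebra k L) :
    xi p φ (b i) * u ∈ J p φ b := by
  have hu : u ∈ Submodule.span k (Set.range (mpB p φ b)) := by
    rw [(mpB p φ b).span_eq]; exact Submodule.mem_top
  induction hu using Submodule.span_induction with
  | mem u hu =>
    obtain ⟨f, rfl⟩ := hu
    rw [mpB_apply, xi_mul_mp]
    refine Submodule.subset_span ⟨_, ?_, rfl⟩
    rw [qd_add_single]
    intro h
    have := congrArg (fun g : Fin n →₀ ℕ => g i) h
    simp at this
  | zero => rw [mul_zero]; exact Submodule.zero_mem _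
  | add u v _ _ hu hv => rw [mul_add]; exact Submodule.add_mem _ hu hv
  | smul c u _ hu => rw [mul_smul_comm]; exact Submodule.smul_mem _ c hu

theorem xi_mul_mem (x : L) (u : UniversalEnvelopingAlgebra k L) : xi p φ x * u ∈ J p φ b := by
  have hx : x ∈ Submodule.span k (Set.range b) := by rw [b.span_eq]; exact Submodule.mem_top
  induction hx using Submodule.span_induction with
  | mem x hx =>
    obtain ⟨i, rfl⟩ := hx
    exact xi_basis_mul_mem p φ b i u
  | zero => rw [xi_zero, zero_mul]; exact Submodule.zero_mem _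
  | add x y _ _ hx hy => rw [xi_add, add_mul]; exact Submodule.add_mem _ hx hy
  | smul c x _ hx => rw [xi_smul, smul_mul_assoc]; exact Submodule.smul_mem _ _ hx

theorem exists_eq_add_single (e : Fin n →₀ ℕ) (he : qd p e ≠ 0) :
    ∃ (i : Fin n) (f : Fin n →₀ ℕ), e = f + Finsupp.single i p := by
  have hp0 : 0 < p := hp.out.pos
  obtain ⟨i, hi⟩ : ∃ i, qd p e i ≠ 0 := by
    by_contra h
    push_neg at h
    exact he (Finsupp.ext h)
  rw [qd_apply] at hi
  have hle : p ≤ e i := by
    by_contra h
    exact hi (Nat.div_eq_of_lt (not_le.mp h))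
  refine ⟨i, e - Finsupp.single i p, ?_⟩
  ext j
  simp only [Finsupp.coe_add, Pi.add_apply, Finsupp.coe_tsub, Pi.sub_apply, Finsupp.single_apply]
  split_ifs with h
  · subst h; omega
  · simp

theorem iL_mul_mem_J (y : L) (u : UniversalEnvelopingAlgebra k L) (hu : u ∈ J p φ b) :
    (iL : L →ₗ[k] UniversalEnvelopingAlgebra k L) y * u ∈ J p φ b := by
  induction hu using Submodule.span_induction with
  | mem u hu =>
    obtain ⟨e, he, rfl⟩ := hu
    obtain ⟨i, f, rfl⟩ := exists_eq_add_single p e he
    rw [← xi_mul_mp, ← mul_assoc, ← xi_comm_iL, mul_assoc]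
    exact xi_basis_mul_mem p φ b i _
  | zero => rw [mul_zero]; exact Submodule.zero_mem _
  | add u v _ _ hu hv => rw [mul_add]; exact Submodule.add_mem _ hu hv
  | smul c u _ hu => rw [mul_smul_comm]; exact Submodule.smul_mem _ c hu

theorem repr_eq_zero_of_mem_J (u : UniversalEnvelopingAlgebra k L) (hu : u ∈ J p φ b)
    (e : Fin n →₀ ℕ) (he : qd p e = 0) : (mpB p φ b).repr u e = 0 := by
  induction hu using Submodule.span_induction with
  | mem u hu =>
    obtain ⟨e', he', rfl⟩ := hu
    rw [← mpB_apply, Module.Basis.repr_self, Finsupp.single_apply, if_neg]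
    rintro rfl
    exact he' he
  | zero => simp
  | add u v _ _ hu hv => rw [map_add, Finsupp.add_apply, hu, hv, add_zero]
  | smul c u _ hu => rw [map_smul, Finsupp.smul_apply, hu, smul_zero]

theorem qd_single_one (i : Fin n) : qd p (Finsupp.single i 1 : Fin n →₀ ℕ) = 0 := by
  have hp2 : 2 ≤ p := hp.out.two_le
  ext j
  simp only [qd_apply, Finsupp.single_apply, Finsupp.coe_zero, Pi.zero_apply]
  split_ifs
  · exact Nat.div_eq_of_lt (by omega)
  · simp

theorem rm_single_one (i : Fin n) :
    rm p (Finsupp.single i 1 : Fin n →₀ ℕ) = Finsupp.single i 1 := by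
  have hp2 : 2 ≤ p := hp.out.two_le
  ext j
  simp only [rm_apply, Finsupp.single_apply]
  split_ifs
  · exact Nat.mod_eq_of_lt (by omega)
  · simp

theorem mp_single_one (i : Fin n) :
    mp p φ b (Finsupp.single i 1) = (iL : L →ₗ[k] UniversalEnvelopingAlgebra k L) (b i) := by
  unfold mp
  rw [qd_single_one, rm_single_one,
    show (MvPolynomial.monomial (0 : Fin n →₀ ℕ) (1 : k)) = 1 from rfl, map_one, one_mul]
  unfold Xm
  rw [Lst_single_one, mono_cons, mono_nil, mul_one]
  rfl

theorem iL_eq_sum (x : L) :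
    (iL : L →ₗ[k] UniversalEnvelopingAlgebra k L) x =
      ∑ i, b.repr x i • mpB p φ b (Finsupp.single i 1) := by
  conv_lhs => rw [← b.sum_repr x]
  rw [map_sum]
  refine Finset.sum_congr rfl fun i _ => ?_
  rw [map_smul, mpB_apply, mp_single_one]

theorem eq_zero_of_iL_mem_J (x : L)
    (hx : (iL : L →ₗ[k] UniversalEnvelopingAlgebra k L) x ∈ J p φ b) : x = 0 := by
  apply b.repr.injective
  rw [map_zero]
  ext i
  have h := repr_eq_zero_of_mem_J p φ b _ hx (Finsupp.single i 1) (qd_single_one p i)
  rw [iL_eq_sum p φ b x, map_sum, Finsupp.finset_sum_apply] at h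
  rw [Finset.sum_eq_single i] at h
  · rw [map_smul, Module.Basis.repr_self, Finsupp.smul_apply, Finsupp.single_eq_same, smul_eq_mul,
      mul_one] at h
    simpa using h
  · intro j _ hji
    rw [map_smul, Module.Basis.repr_self, Finsupp.smul_apply, Finsupp.single_apply, if_neg,
      smul_zero]
    intro h'
    have := congrArg (fun g : Fin n →₀ ℕ => g i) h'
    simp [Finsupp.single_apply, hji] at this
  · intro hi
    exact absurd (Finset.mem_univ i) hi

/-- the restricted regular representation space `u(L) = U(L)/J` -/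
abbrev M : Type (max u v) := UniversalEnvelopingAlgebra k L ⧸ J p φ b

/-- the action of `x ∈ L` on `u(L)` -/
def rhoFun (x : L) : M p φ b →ₗ[k] M p φ b :=
  (J p φ b).mapQ (J p φ b) (LinearMap.mulLeft k ((iL : L →ₗ[k] _) x))
    (fun u hu => iL_mul_mem_J p φ b x u hu)

theorem rhoFun_mk (x : L) (u : UniversalEnvelopingAlgebra k L) :
    rhoFun p φ b x (Submodule.Quotient.mk u) =
      Submodule.Quotient.mk ((iL : L →ₗ[k] UniversalEnvelopingAlgebra k L) x * u) := rfl

/-- the restricted representation -/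
def rho : L →ₗ[k] (M p φ b →ₗ[k] M p φ b) where
  toFun := rhoFun p φ b
  map_add' x y := by
    apply LinearMap.ext
    intro m
    obtain ⟨u, rfl⟩ := Submodule.Quotient.mk_surjective _ m
    rw [LinearMap.add_apply, rhoFun_mk, rhoFun_mk, rhoFun_mk, map_add, add_mul,
      Submodule.Quotient.mk_add]
  map_smul' c x := by
    apply LinearMap.ext
    intro m
    obtain ⟨u, rfl⟩ := Submodule.Quotient.mk_surjective _ m
    rw [RingHom.id_apply, LinearMap.smul_apply, rhoFun_mk, rhoFun_mk, map_smul, smul_mul_assoc,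
      Submodule.Quotient.mk_smul]

theorem rho_mk (x : L) (u : UniversalEnvelopingAlgebra k L) :
    rho p φ b x (Submodule.Quotient.mk u) =
      Submodule.Quotient.mk ((iL : L →ₗ[k] UniversalEnvelopingAlgebra k L) x * u) := rfl

theorem rho_lie (x y : L) :
    rho p φ b ⁅x, y⁆ = rho p φ b x * rho p φ b y - rho p φ b y * rho p φ b x := by
  apply LinearMap.ext
  intro m
  obtain ⟨u, rfl⟩ := Submodule.Quotient.mk_surjective _ m
  rw [LinearMap.sub_apply, Module.End.mul_apply, Module.End.mul_apply, rho_mk, rho_mk, rho_mk,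
    rho_mk, rho_mk, iL_lie, sub_mul, mul_assoc, mul_assoc, Submodule.Quotient.mk_sub]

theorem rho_pow_mk (x : L) (j : ℕ) (u : UniversalEnvelopingAlgebra k L) :
    (rho p φ b x ^ j) (Submodule.Quotient.mk u) =
      Submodule.Quotient.mk ((iL : L →ₗ[k] UniversalEnvelopingAlgebra k L) x ^ j * u) := by
  induction j generalizing u with
  | zero => simp
  | succ j ih =>
    rw [pow_succ, Module.End.mul_apply, rho_mk, ih, pow_succ, mul_assoc]

theorem rho_pmap (x : L) : rho p φ b (φ x) = rho p φ b x ^ p := by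
  apply LinearMap.ext
  intro m
  obtain ⟨u, rfl⟩ := Submodule.Quotient.mk_surjective _ m
  rw [rho_pow_mk, rho_mk]
  symm
  rw [← sub_eq_zero, ← Submodule.Quotient.mk_sub, ← sub_mul, Submodule.Quotient.mk_eq_zero]
  exact xi_mul_mem p φ b x u

theorem rho_injective : Function.Injective (rho p φ b) := by
  rw [← LinearMap.ker_eq_bot, Submodule.eq_bot_iff]
  intro x hx
  have h := congrArg (fun f : M p φ b →ₗ[k] M p φ b => f (Submodule.Quotient.mk 1))
    (LinearMap.mem_ker.mp hx)
  simp only [LinearMap.zero_apply] at h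
  rw [rho_mk, mul_one, Submodule.Quotient.mk_eq_zero] at h
  exact eq_zero_of_iL_mem_J p φ b x h

theorem finite_small : {e : Fin n →₀ ℕ | qd p e = 0}.Finite := by
  have hp0 : 0 < p := hp.out.pos
  let g : (Fin n → Fin p) → (Fin n →₀ ℕ) :=
    fun a => Finsupp.equivFunOnFinite.symm (fun i => (a i : ℕ))
  refine (Set.finite_range g).subset ?_
  intro e he
  have hlt : ∀ i, e i < p := by
    intro i
    have := congrArg (fun f : Fin n →₀ ℕ => f i) he
    simp only [qd_apply, Finsupp.coe_zero, Pi.zero_apply] at this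
    exact (Nat.div_eq_zero_iff.mp this).resolve_left hp0.ne'
  refine ⟨fun i => ⟨e i, hlt i⟩, ?_⟩
  ext i
  simp [g]

theorem module_finite : Module.Finite k (M p φ b) := by
  let S : Set (M p φ b) :=
    (fun e => (Submodule.Quotient.mk (mpB p φ b e) : M p φ b)) '' {e | qd p e = 0}
  have hS : S.Finite := (finite_small p).image _
  refine ⟨⟨hS.toFinset, ?_⟩⟩
  rw [Set.Finite.coe_toFinset, eq_top_iff]
  rintro m -
  obtain ⟨u, rfl⟩ := Submodule.Quotient.mk_surjective _ m
  have hu : u ∈ Submodule.span k (Set.range (mpB p φ b)) := by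
    rw [(mpB p φ b).span_eq]; exact Submodule.mem_top
  induction hu using Submodule.span_induction with
  | mem u hu =>
    obtain ⟨e, rfl⟩ := hu
    by_cases he : qd p e = 0
    · exact Submodule.subset_span ⟨e, he, rfl⟩
    · have : (Submodule.Quotient.mk (mpB p φ b e) : M p φ b) = 0 := by
        rw [Submodule.Quotient.mk_eq_zero, mpB_apply]
        exact Submodule.subset_span ⟨e, he, rfl⟩
      rw [this]; exact Submodule.zero_mem _
  | zero => rw [Submodule.Quotient.mk_zero]; exact Submodule.zero_mem _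
  | add u v _ _ hu hv => rw [Submodule.Quotient.mk_add]; exact Submodule.add_mem _ hu hv
  | smul c u _ hu => rw [Submodule.Quotient.mk_smul]; exact Submodule.smul_mem _ c hu

end Central

/-- **Jacobson.** A finite-dimensional restricted Lie algebra has a faithful finite-dimensional
restricted representation. -/
theorem exists_restricted_rep {k : Type u} [Field k] (p : ℕ) [Fact p.Prime] [CharP k p]
    {L : Type v} [LieRing L] [LieAlgebra k L] [Module.Finite k L] (φ : PLie.PMap k p L) :
    ∃ (V : Type (max u v)) (_ : AddCommGroup V) (_ : Module k V) (_ : Module.Finite k V)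
      (ρ : L →ₗ[k] (V →ₗ[k] V)), Function.Injective ρ ∧
        (∀ x y : L, ρ ⁅x, y⁆ = ρ x * ρ y - ρ y * ρ x) ∧ ∀ x : L, ρ (φ x) = ρ x ^ p :=
  let b := Module.finBasis k L
  ⟨M p φ b, inferInstance, inferInstance, module_finite p φ b, rho p φ b, rho_injective p φ b,
    rho_lie p φ b, rho_pmap p φ b⟩

end

end Groth.Agent.H84.RPBW
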