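import Mathlib
import Groth.Prelude.Def_Rees
import Groth.Prelude.Def_BlowUp2
import Groth.Prelude.Def_ega3
import Groth.Agent.H95.ReesProjDefs
import Groth.Agent.H9.ComapIdeal

/-!
# Auxiliary for (EC) (helper95's S16054): the charts `D₊(aX)`, `a ∈ I`, cover `Proj` of the Rees algebra
-/

set_option autoImplicit false

universe u

open CategoryTheory AlgebraicGeometry
open Groth.Agent.H95.ReesProj

namespace Groth.Agent.H84.RP_EC0

variable (A : Type u) [CommRing A] (I : Ideal A)

set_option maxHeartbeats 3200000 in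
/-- The degree one elements `aX`, `a ∈ I`, generate the Rees algebra over its degree zero part. -/
theorem adjoin_gen_eq_top :
    Algebra.adjoin (Rees.deg (reesAlgebra I) 0)
      (Set.range (fun a : I => gen A I a.1 a.2)) = ⊤ := by
  rw [eq_top_iff]
  rintro ⟨y, hy⟩ -
  have hy' : y ∈ Algebra.adjoin A
      (Submodule.map (Polynomial.monomial 1 : A →ₗ[A] Polynomial A) I : Set (Polynomial A)) := by
    rw [adjoin_monomial_eq_reesAlgebra]; exact hy
  have key : ∀ (z : Polynomial A) (hz : z ∈ Algebra.adjoin A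
      (Submodule.map (Polynomial.monomial 1 : A →ₗ[A] Polynomial A) I : Set (Polynomial A))),
      ∀ hz' : z ∈ reesAlgebra I, (⟨z, hz'⟩ : reesAlgebra I) ∈
        Algebra.adjoin (Rees.deg (reesAlgebra I) 0)
          (Set.range (fun a : I => gen A I a.1 a.2)) := by
    intro z hz
    induction hz using Algebra.adjoin_induction with
    | mem x hx =>
      intro hz'
      obtain ⟨a, ha, rfl⟩ := hx
      exact Algebra.subset_adjoin ⟨⟨a, ha⟩, rfl⟩
    | algebraMap r =>
      intro hz'
      have h0 : (⟨algebraMap A (Polynomial A) r, hz'⟩ : reesAlgebra I) ∈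
          Rees.deg (reesAlgebra I) 0 := by
        rw [Rees.mem_deg_iff]
        intro m hm
        change (Polynomial.C r).coeff m = 0
        rw [Polynomial.coeff_C, if_neg hm]
      have hm := Subalgebra.algebraMap_mem (Algebra.adjoin (Rees.deg (reesAlgebra I) 0)
        (Set.range (fun a : I => gen A I a.1 a.2)))
        (⟨⟨algebraMap A (Polynomial A) r, hz'⟩, h0⟩ : Rees.deg (reesAlgebra I) 0)
      exact hm
    | add x y hx hy ihx ihy =>
      intro hz'
      have hx' : x ∈ reesAlgebra I := by rw [← adjoin_monomial_eq_reesAlgebra]; exact hx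
      have hy'' : y ∈ reesAlgebra I := by rw [← adjoin_monomial_eq_reesAlgebra]; exact hy
      exact Subalgebra.add_mem _ (ihx hx') (ihy hy'')
    | mul x y hx hy ihx ihy =>
      intro hz'
      have hx' : x ∈ reesAlgebra I := by rw [← adjoin_monomial_eq_reesAlgebra]; exact hx
      have hy'' : y ∈ reesAlgebra I := by rw [← adjoin_monomial_eq_reesAlgebra]; exact hy
      exact Subalgebra.mul_mem _ (ihx hx') (ihy hy'')
  exact key y hy' hy


/-- The charts `D₊(aX)`, `a ∈ I`, cover `Proj` of the Rees algebra. -/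
theorem exists_mem_basicOpen (x : Proj (Rees.deg (reesAlgebra I))) :
    ∃ (a : A) (ha : a ∈ I), x ∈ Proj.basicOpen (Rees.deg (reesAlgebra I)) (gen A I a ha) := by
  have h := Proj.iSup_basicOpen_eq_top' (Rees.deg (reesAlgebra I))
    (fun a : I => gen A I a.1 a.2) (fun a => ⟨1, gen_mem A I a.1 a.2⟩) (adjoin_gen_eq_top A I)
  have hx : x ∈ (⊤ : (Proj (Rees.deg (reesAlgebra I))).Opens) := trivial
  rw [← h] at hx
  obtain ⟨a, ha⟩ := TopologicalSpace.Opens.mem_iSup.1 hx
  exact ⟨a.1, a.2, ha⟩

end Groth.Agent.H84.RP_EC0
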