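import Mathlib
import Groth.Prelude.Def_Rees
import Groth.Prelude.Def_BlowUp2
import Groth.Prelude.Def_ega3
import Groth.Agent.H95.ReesProjDefs
import Groth.Agent.H9.ComapIdeal
import Groth.Agent.H84.RP_EC0
import Groth.Agent.H86.RP_ECA

/-!
# (EC) for helper95's S16054: the inverse image of `I` on `Proj` of the Rees algebra is
effective Cartier
-/

set_option autoImplicit false

universe u

open CategoryTheory AlgebraicGeometry
open Groth.Agent.H95.ReesProj

namespace Groth.Agent.H84.RP_EC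

/-- Transport of a principal generator along a ring isomorphism. -/
theorem exists_gen_of_map_ringEquiv {R S : Type*} [CommRing R] [CommRing S] (e : R ≃+* S)
    (K : Ideal R) (g : S) (hg : g ∈ nonZeroDivisors S)
    (h : K.map (e : R →+* S) = Ideal.span {g}) :
    ∃ f : R, f ∈ nonZeroDivisors R ∧ K = Ideal.span {f} := by
  refine ⟨e.symm g, ?_, ?_⟩
  · have := MulEquivClass.map_nonZeroDivisors (e.symm : S ≃* R)
    rw [← this]
    exact ⟨g, hg, rfl⟩
  · have h1 : (K.map (e : R →+* S)).map (e.symm : S →+* R) = K := by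
      rw [Ideal.map_map]
      have : ((e.symm : S →+* R)).comp (e : R →+* S) = RingHom.id R := by
        ext r; simp
      rw [this, Ideal.map_id]
    rw [← h1, h, Ideal.map_span, Set.image_singleton]
    rfl

/-- A principal nonzerodivisor generator on an affine chart `j : Spec B ⟶ X` gives one on the
affine open `j ''ᵁ ⊤`. -/
theorem exists_gen_of_chart {X : Scheme.{u}} {B : CommRingCat.{u}} (j : Spec B ⟶ X)
    [IsOpenImmersion j] (𝓙 : X.IdealSheafData) (hU : IsAffineOpen (j ''ᵁ ⊤))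
    (g : Γ(Spec B, ⊤)) (hg : g ∈ nonZeroDivisors Γ(Spec B, ⊤))
    (h : (𝓙.comap j).ideal ⟨⊤, isAffineOpen_top _⟩ = Ideal.span {g}) :
    ∃ f : Γ(X, j ''ᵁ ⊤), f ∈ nonZeroDivisors Γ(X, j ''ᵁ ⊤) ∧
      𝓙.ideal ⟨j ''ᵁ ⊤, hU⟩ = Ideal.span {f} := by
  have e1 : (⊤ : (Spec B).Opens) ≤ j ⁻¹ᵁ (j ''ᵁ ⊤) := (j.preimage_image_eq ⊤).ge
  have h1 := Groth.Agent.H9.comap_ideal j 𝓙 ⟨j ''ᵁ ⊤, hU⟩ ⟨⊤, isAffineOpen_top _⟩ e1
  rw [h] at h1
  have h2 : (j.appIso ⊤).hom = j.appLE (j ''ᵁ ⊤) ⊤ e1 := j.appIso_hom' ⊤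
  let e : Γ(X, j ''ᵁ ⊤) ≃+* Γ(Spec B, ⊤) := (j.appIso ⊤).commRingCatIsoToRingEquiv
  have he : (e : Γ(X, j ''ᵁ ⊤) →+* Γ(Spec B, ⊤)) = (j.appLE (j ''ᵁ ⊤) ⊤ e1).hom := by
    rw [← h2]; rfl
  refine exists_gen_of_map_ringEquiv e _ g hg ?_
  rw [he]
  exact h1.symm

variable (A : Type u) [CommRing A] (I : Ideal A)

/-- The chart `Spec (R(I)_{(aX)}) ⟶ Proj R(I)` composed with the structure map is `Spec toAway`. -/
theorem awayι_comp_over (a : A) (ha : a ∈ I) :
    Proj.awayι (Rees.deg (reesAlgebra I)) (gen A I a ha) (gen_mem A I a ha) Nat.one_pos ≫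
      (Proj (Rees.deg (reesAlgebra I)) ↘ Spec (CommRingCat.of A)) =
    Spec.map (CommRingCat.ofHom (toAway A I a ha)) := by
  change Proj.awayι (Rees.deg (reesAlgebra I)) (gen A I a ha) (gen_mem A I a ha) Nat.one_pos ≫
    Proj.toSpecZero (Rees.deg (reesAlgebra I)) ≫
      Spec.map (CommRingCat.ofHom (algebraMap A (Rees.deg (reesAlgebra I) 0))) = _
  rw [Proj.awayι_toSpecZero_assoc, ← Spec.map_comp]
  rfl

/-- The ideal of the pulled back ideal sheaf on `Spec B` along `Spec φ`. -/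
theorem comap_SpecMap_ideal_top {B : Type u} [CommRing B] (φ : A →+* B) :
    ((Scheme.IdealSheafData.ofIdealTop
        (I.map (Scheme.ΓSpecIso (CommRingCat.of A)).inv.hom)).comap
      (Spec.map (CommRingCat.ofHom φ))).ideal ⟨⊤, isAffineOpen_top _⟩ =
    (I.map φ).map (Scheme.ΓSpecIso (CommRingCat.of B)).inv.hom := by
  have e1 : (⊤ : (Spec (CommRingCat.of B)).Opens) ≤
      (Spec.map (CommRingCat.ofHom φ)) ⁻¹ᵁ (⊤ : (Spec (CommRingCat.of A)).Opens) := le_rfl
  rw [Groth.Agent.H9.comap_ideal (Spec.map (CommRingCat.ofHom φ)) _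
    ⟨⊤, isAffineOpen_top _⟩ ⟨⊤, isAffineOpen_top _⟩ e1]
  rw [Scheme.IdealSheafData.ofIdealTop_ideal]
  have h0 : ((Spec (CommRingCat.of A)).presheaf.map
      (homOfLE (le_top : (⊤ : (Spec (CommRingCat.of A)).Opens) ≤ ⊤)).op) = 𝟙 _ := by
    rw [show homOfLE (le_top : (⊤ : (Spec (CommRingCat.of A)).Opens) ≤ ⊤) = 𝟙 _ from
      Subsingleton.elim _ _, op_id, CategoryTheory.Functor.map_id]
  have h3 : (Spec.map (CommRingCat.ofHom φ)).appLE ⊤ ⊤ e1 =
      (Spec.map (CommRingCat.ofHom φ)).appTop := by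
    have h := (Spec.map (CommRingCat.ofHom φ)).app_eq_appLE (U := ⊤)
    exact h.symm
  have h4 := Scheme.ΓSpecIso_inv_naturality (CommRingCat.ofHom φ)
  have h5 : ((Spec.map (CommRingCat.ofHom φ)).appTop).hom.comp
      (Scheme.ΓSpecIso (CommRingCat.of A)).inv.hom =
      (Scheme.ΓSpecIso (CommRingCat.of B)).inv.hom.comp φ := by
    rw [← CommRingCat.hom_comp, ← h4, CommRingCat.hom_comp]
    rfl
  simp only [h0, h3, CommRingCat.hom_id, Ideal.map_map, RingHom.id_comp]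
  rw [h5]


theorem EC : BlowUp.IsEffCartierIdeal
    ((Scheme.IdealSheafData.ofIdealTop (I.map (Scheme.ΓSpecIso (CommRingCat.of A)).inv.hom)).comap
      (Proj (Rees.deg (reesAlgebra I)) ↘ Spec (CommRingCat.of A))) := by
  intro x
  obtain ⟨a, ha, hx⟩ := Groth.Agent.H84.RP_EC0.exists_mem_basicOpen A I x
  obtain ⟨hspan, hnzd⟩ := Groth.Agent.H86.RP_ECA.ECA A I a ha
  let j := Proj.awayι (Rees.deg (reesAlgebra I)) (gen A I a ha) (gen_mem A I a ha) Nat.one_pos
  have hjU : j ''ᵁ ⊤ = Proj.basicOpen (Rees.deg (reesAlgebra I)) (gen A I a ha) := by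
    rw [Scheme.Hom.image_top_eq_opensRange]
    exact Proj.opensRange_awayι _ _ _ _
  have hU : IsAffineOpen (j ''ᵁ ⊤) := by
    rw [hjU]
    exact Proj.isAffineOpen_basicOpen _ _ (gen_mem A I a ha) Nat.one_pos
  -- the ideal on the chart
  have hchart : (((Scheme.IdealSheafData.ofIdealTop
      (I.map (Scheme.ΓSpecIso (CommRingCat.of A)).inv.hom)).comap
      (Proj (Rees.deg (reesAlgebra I)) ↘ Spec (CommRingCat.of A))).comap j).ideal
        ⟨⊤, isAffineOpen_top _⟩ =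
      Ideal.span {(Scheme.ΓSpecIso (CommRingCat.of (HomogeneousLocalization.Away
        (Rees.deg (reesAlgebra I)) (gen A I a ha)))).inv.hom (toAway A I a ha a)} := by
    rw [← Scheme.IdealSheafData.comap_comp, awayι_comp_over A I a ha,
      comap_SpecMap_ideal_top A I (toAway A I a ha), hspan, Ideal.map_span, Set.image_singleton]
  have hg : (Scheme.ΓSpecIso (CommRingCat.of (HomogeneousLocalization.Away
      (Rees.deg (reesAlgebra I)) (gen A I a ha)))).inv.hom (toAway A I a ha a) ∈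
      nonZeroDivisors _ := by
    have := MulEquivClass.map_nonZeroDivisors
      ((Scheme.ΓSpecIso (CommRingCat.of (HomogeneousLocalization.Away
        (Rees.deg (reesAlgebra I)) (gen A I a ha)))).symm.commRingCatIsoToRingEquiv.toMulEquiv)
    rw [← this]
    exact ⟨_, hnzd, rfl⟩
  obtain ⟨f, hf, hfI⟩ := exists_gen_of_chart j _ hU _ hg hchart
  refine ⟨⟨j ''ᵁ ⊤, hU⟩, ?_, f, hf, hfI⟩
  change x ∈ j ''ᵁ ⊤
  exact hjU.symm ▸ hx

end Groth.Agent.H84.RP_EC
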