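import Groth.Agent.H98.GrCat
import Groth.Agent.H98.GrHt
import Groth.Prelude.Def_CAlg
import Groth.Prelude.Def_GrSeg
import Groth.Prelude.Def_Wider
import Groth.Agent.H71.StalkLoc
import Groth.Agent.S13232
import Groth.Agent.S13234

set_option autoImplicit false
universe u

namespace Groth.Agent.H84.SegCM_CM1

/-- (CM1) a Noetherian `ℤ`-graded *local ring is Cohen–Macaulay when its localization at the
*maximal ideal is. -/
theorem cmRing_of_cm_loc {R : Type u} [CommRing R] [IsNoetherianRing R] (𝒜 : ℤ → AddSubgroup R)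
    [GradedRing 𝒜] (m : HomogeneousIdeal 𝒜) (hm : GrLC.IsStarLocal 𝒜 m) [m.toIdeal.IsPrime]
    (hA : LocCoh.IsCohenMacaulayLocalRing (Localization.AtPrime m.toIdeal)) :
    LocCoh.IsCohenMacaulayRing R := by
  classical
  have hle_hom : ∀ (P : Ideal R), P.IsHomogeneous 𝒜 → P ≠ ⊤ → P ≤ m.toIdeal := by
    intro P hPh hPt
    have h1 : (⟨P, hPh⟩ : HomogeneousIdeal 𝒜) ≤ m := by
      apply Groth.Agent.H98.GrHt.le_of_isStarLocal 𝒜 m hm
      intro h
      apply hPt
      have h2 := congrArg HomogeneousIdeal.toIdeal h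
      rwa [HomogeneousIdeal.toIdeal_top] at h2
    exact h1
  have hhom : ∀ (P : Ideal R) [P.IsPrime], P.IsHomogeneous 𝒜 →
      LocCoh.IsCohenMacaulayLocalRing (Localization.AtPrime P) := by
    intro P hP hPh
    exact Groth.Agent.H71.StalkLoc.isCM_of_le P m.toIdeal (hle_hom P hPh hP.ne_top) hA
  refine ⟨fun P hP => ?_⟩
  by_cases hPh : P.IsHomogeneous 𝒜
  · exact hhom P hPh
  · haveI hcore : (Ideal.homogeneousCore 𝒜 P).toIdeal.IsPrime := hP.homogeneousCore
    have hCMcore := hhom _ (Ideal.homogeneousCore 𝒜 P).isHomogeneous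
    have hker : RingHom.ker (Ideal.Quotient.mk (Ideal.homogeneousCore 𝒜 P).toIdeal) ≤ P := by
      rw [Ideal.mk_ker]
      exact Ideal.toIdeal_homogeneousCore_le 𝒜 P
    have hPbar_prime :
        (P.map (Ideal.Quotient.mk (Ideal.homogeneousCore 𝒜 P).toIdeal)).IsPrime :=
      Ideal.map_isPrime_of_surjective Ideal.Quotient.mk_surjective hker
    have hfin : (P.map (Ideal.Quotient.mk (Ideal.homogeneousCore 𝒜 P).toIdeal)).height ≠ ⊤ :=
      Ideal.height_ne_top hPbar_prime.ne_top
    obtain ⟨d, hd⟩ := ENat.ne_top_iff_exists.1 hfin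
    have hsupp : Nontrivial (LocalizedModule P.primeCompl R) :=
      (Groth.Agent.H29.DepthFinite.selfEquiv P.primeCompl).toEquiv.nontrivial
    have h1 := Groth.Agent.S13232.result R 𝒜 R 𝒜 P d hd.symm hsupp
    have h2 := Groth.Agent.S13234.result R 𝒜 R 𝒜 P d hd.symm
    haveI := hCMcore
    have h3 : LocCoh.IsCohenMacaulayModule
        (Localization.AtPrime (Ideal.homogeneousCore 𝒜 P).toIdeal)
        (LocalizedModule (Ideal.homogeneousCore 𝒜 P).toIdeal.primeCompl R) :=
      Groth.Agent.H29.CM.isCM_of_equiv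
        (Groth.Agent.H29.DepthFinite.selfEquiv (Ideal.homogeneousCore 𝒜 P).toIdeal.primeCompl).symm
        hCMcore.supportDim_eq_depth
    have h4 : LocCoh.IsCohenMacaulayModule (Localization.AtPrime P)
        (LocalizedModule P.primeCompl R) := by
      unfold LocCoh.IsCohenMacaulayModule at h3 ⊢
      rw [h1, h2, h3]
      push_cast
      rfl
    have h5 := Groth.Agent.H29.CM.isCM_of_equiv
      (Groth.Agent.H29.DepthFinite.selfEquiv P.primeCompl) h4
    exact ⟨h5⟩

end Groth.Agent.H84.SegCM_CM1
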