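import Mathlib
import Groth.Prelude.Def_SGA4b
import Groth.Prelude.Def_EtOpen

/-!
# (P1) for helper67's S3896: a subterminal étale sheaf has subsingleton sections
-/

set_option autoImplicit false

universe u

open CategoryTheory CategoryTheory.Limits AlgebraicGeometry Opposite

namespace Groth.Agent.H84.SubT_P1

variable {X : Scheme.{u}}

/-- Sections of the terminal sheaf are subsingletons. -/
theorem subsingleton_terminal_sections (W : X.Etale) :
    Subsingleton ((⊤_ (EtDesc.Sh X)).obj.obj (op W)) := by
  let T : EtDesc.Sh X := Sheaf.terminal X.smallEtaleTopology (Types.isTerminalPunit.{u + 1})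
  let e : (⊤_ (EtDesc.Sh X)) ≅ T :=
    terminalIsTerminal.uniqueUpToIso (Sheaf.isTerminalTerminal X.smallEtaleTopology _)
  let e' : (⊤_ (EtDesc.Sh X)).obj.obj (op W) ≅ T.obj.obj (op W) :=
    ((sheafToPresheaf _ _).mapIso e).app (op W)
  haveI : Subsingleton (T.obj.obj (op W)) := by
    change Subsingleton PUnit
    infer_instance
  exact e'.toEquiv.subsingleton

theorem subsingleton_sections (F : EtDesc.Sh X) (hF : Mono (terminal.from F)) (W : X.Etale) :
    Subsingleton (F.obj.obj (op W)) := by
  haveI : Mono ((sheafToPresheaf _ _).map (terminal.from F)) := inferInstance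
  haveI : Mono (((sheafToPresheaf _ _).map (terminal.from F)).app (op W)) := inferInstance
  have hinj : Function.Injective (((sheafToPresheaf _ _).map (terminal.from F)).app (op W)) :=
    (mono_iff_injective _).1 inferInstance
  haveI : Subsingleton (((sheafToPresheaf X.smallEtaleTopology (Type (u + 1))).obj
      (⊤_ EtDesc.Sh X)).obj (op W)) := subsingleton_terminal_sections (X := X) W
  exact ⟨fun a b => hinj (Subsingleton.elim (α := ((sheafToPresheaf X.smallEtaleTopology
    (Type (u + 1))).obj (⊤_ EtDesc.Sh X)).obj (op W)) _ _)⟩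

end Groth.Agent.H84.SubT_P1
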