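import Mathlib
import Groth.Prelude.Def_SGA4b
import Groth.Prelude.Def_EtOpen
import Groth.Agent.H84.SubT_P1

/-!
# (P2) for helper67's S3896: maps into a subterminal étale sheaf
-/

set_option autoImplicit false

universe u

open CategoryTheory CategoryTheory.Limits AlgebraicGeometry Opposite

namespace Groth.Agent.H84.SubT_P2

variable {X : Scheme.{u}}

theorem nonempty_hom_iff (F G : EtDesc.Sh X) (hG : Mono (terminal.from G)) :
    Nonempty (F ⟶ G) ↔
      ∀ W : X.Etale, Nonempty (F.obj.obj (op W)) → Nonempty (G.obj.obj (op W)) := by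
  constructor
  · rintro ⟨f⟩ W ⟨a⟩
    exact ⟨f.hom.app (op W) a⟩
  · intro h
    have hsub : ∀ W : (X.Etale)ᵒᵖ, Subsingleton (G.obj.obj W) := fun W =>
      Groth.Agent.H84.SubT_P1.subsingleton_sections G hG W.unop
    let t : F.obj ⟶ G.obj :=
      { app := fun W => TypeCat.ofHom (fun a => Classical.choice (h W.unop ⟨a⟩))
        naturality := by
          intro W W' φ
          ext a
          haveI := hsub W'
          exact Subsingleton.elim _ _ }
    exact ⟨ObjectProperty.homMk t⟩

end Groth.Agent.H84.SubT_P2
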